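import Cfsg.Agent.H915.LD

/-!
# The automorphism of the socle induced by an element of the normaliser (helper910)
-/

set_option autoImplicit false
set_option linter.unusedSectionVars false

open Matrix Cfsg Cfsg.Geo Cfsg.Agent.H915.LD
open scoped commutatorElement

namespace Cfsg.Agent.H910.Aut

universe u v

variable {ι : Type} [Fintype ι] [DecidableEq ι] {F : Type u} [Field F] {P : Subgroup (GL ι F)}

/-- `g` normalises `P` -/
structure Nrm (P : Subgroup (GL ι F)) (g : GL ι F) : Prop where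
  fwd : ∀ x ∈ P, g * x * g⁻¹ ∈ P
  bwd : ∀ x ∈ P, g⁻¹ * x * g ∈ P

theorem Nrm.one : Nrm P 1 := ⟨fun x hx => by simpa using hx, fun x hx => by simpa using hx⟩

theorem Nrm.inv {g : GL ι F} (h : Nrm P g) : Nrm P g⁻¹ :=
  ⟨fun x hx => by rw [inv_inv]; exact h.bwd x hx, fun x hx => by rw [inv_inv]; exact h.fwd x hx⟩

theorem Nrm.mul {g k : GL ι F} (h : Nrm P g) (h' : Nrm P k) : Nrm P (g * k) :=
  ⟨fun x hx => by
    rw [show g * k * x * (g * k)⁻¹ = g * (k * x * k⁻¹) * g⁻¹ by group]; exact h.fwd _ (h'.fwd x hx), fun x hx => by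
    rw [show (g * k)⁻¹ * x * (g * k) = k⁻¹ * (g⁻¹ * x * g) * k by group]; exact h'.bwd _ (h.bwd x hx)⟩

theorem Nrm.of_mem {g : GL ι F} (h : g ∈ P) : Nrm P g :=
  ⟨fun _ hx => P.mul_mem (P.mul_mem h hx) (P.inv_mem h), fun _ hx => P.mul_mem (P.mul_mem (P.inv_mem h) hx) h⟩

theorem Nrm.of_to [Finite F] {g : GL ι F} (h : ∀ x ∈ P, g * x * g⁻¹ ∈ P) : Nrm P g := by
  refine ⟨h, fun x hx => ?_⟩
  have hinj : Function.Injective fun y : P => (⟨g * y * g⁻¹, h y y.2⟩ : P) := by
    intro a b hab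
    have h1 := congrArg (fun z : P => (z : GL ι F)) hab
    simp only at h1
    exact Subtype.ext (mul_left_cancel (mul_right_cancel h1))
  obtain ⟨y, hy⟩ := (Finite.injective_iff_surjective.1 hinj) ⟨x, hx⟩
  have h1 := congrArg (fun z : P => (z : GL ι F)) hy
  simp only at h1
  rw [← h1, show g⁻¹ * (g * (y : GL ι F) * g⁻¹) * g = y by group]
  exact y.2

theorem Nrm.of_core {H : Subgroup (GL ι F)} (h : IsResidualCore H P) {g : GL ι F} (hg : g ∈ H) : Nrm P g :=
  ⟨h.normal g hg, fun x hx => by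
    have := h.normal g⁻¹ (H.inv_mem hg) x hx
    rwa [inv_inv] at this⟩

/-- conjugation -/
def Nrm.conj {g : GL ι F} (h : Nrm P g) : P ≃* P where
  toFun x := ⟨g * x * g⁻¹, h.fwd x x.2⟩
  invFun x := ⟨g⁻¹ * x * g, h.bwd x x.2⟩
  left_inv x := Subtype.ext (by simp only; group)
  right_inv x := Subtype.ext (by simp only; group)
  map_mul' x y := Subtype.ext (by simp only [Subgroup.coe_mul]; group)

theorem Nrm.conj_coe {g : GL ι F} (h : Nrm P g) (x : P) : (h.conj x : GL ι F) = g * x * g⁻¹ := rfl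

theorem conj_scalar {g x : GL ι F} (hx : x ∈ scalars ι F) : g * x * g⁻¹ = x := by
  rw [mem_scalars_iff] at hx
  obtain ⟨c, hc⟩ := hx
  rw [mul_inv_eq_iff_eq_mul]
  apply Units.ext
  rw [Units.val_mul, Units.val_mul, hc, Matrix.mul_smul, Matrix.smul_mul, Matrix.mul_one, Matrix.one_mul]

theorem Nrm.map_scalars {g : GL ι F} (h : Nrm P g) :
    ((scalars ι F).subgroupOf P).map (h.conj : P →* P) = (scalars ι F).subgroupOf P := by
  have key : ∀ x : P, x ∈ (scalars ι F).subgroupOf P → h.conj x = x := by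
    intro x hx
    exact Subtype.ext (conj_scalar (Subgroup.mem_subgroupOf.1 hx))
  ext x
  constructor
  · rintro ⟨y, hy, rfl⟩
    change h.conj y ∈ _
    rw [key y hy]; exact hy
  · intro hx
    exact ⟨x, hx, key x hx⟩

/-- the automorphism of the socle -/
theorem Nrm.exists_aut {g : GL ι F} (h : Nrm P g) {T : Type v} [Group T] (e : Soc P ≃* T) :
    ∃ α : MulAut T, ∀ x : P, e (toSoc P (h.conj x)) = α (e (toSoc P x)) := by
  refine ⟨(e.symm.trans (QuotientGroup.congr _ _ h.conj h.map_scalars)).trans e, fun x => ?_⟩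
  change e (toSoc P (h.conj x)) = e (QuotientGroup.congr _ _ h.conj h.map_scalars (e.symm (e (toSoc P x))))
  rw [MulEquiv.symm_apply_apply]
  rfl

/-- an element acting trivially on the socle is a scalar -/
theorem scalar_of_trivial (hC : Core P) {g : GL ι F} (h : Nrm P g) (ht : ∀ x : P, toSoc P (h.conj x) = toSoc P x) :
    ∃ c : F, (g : Matrix ι ι F) = c • (1 : Matrix ι ι F) := by
  have hmem : ∀ x : P, h.conj x * x⁻¹ ∈ (scalars ι F).subgroupOf P := by
    intro x
    rw [← ker_toSoc, MonoidHom.mem_ker, map_mul, map_inv, ht, mul_inv_cancel]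
  have hle : commutator P ≤ MonoidHom.eqLocus (h.conj : P →* P) (MonoidHom.id P) := by
    rw [commutator_def, Subgroup.commutator_le]
    intro a _ b _
    change h.conj ⁅a, b⁆ = ⁅a, b⁆
    have ha := scalars_le_center (hmem a)
    have hb := scalars_le_center (hmem b)
    rw [commutatorElement_def, map_mul, map_mul, map_mul, map_inv, map_inv]
    generalize h.conj a = a' at *
    generalize h.conj b = b' at *
    have ea : a' = (a' * a⁻¹) * a := by group
    have eb : b' = (b' * b⁻¹) * b := by group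
    generalize a' * a⁻¹ = z at *
    generalize b' * b⁻¹ = y at *
    subst ea eb
    have cz : ∀ s : P, s * z = z * s := Subgroup.mem_center_iff.1 ha
    have cy : ∀ s : P, s * y = y * s := Subgroup.mem_center_iff.1 hb
    calc z * a * (y * b) * (z * a)⁻¹ * (y * b)⁻¹ = z * (a * y) * b * (z * a)⁻¹ * (y * b)⁻¹ := by group
      _ = z * y * (a * b * a⁻¹) * z⁻¹ * b⁻¹ * y⁻¹ := by rw [cy]; group
      _ = y * ((a * b * a⁻¹) * z) * z⁻¹ * b⁻¹ * y⁻¹ := by rw [cy z, cz (a * b * a⁻¹)]; group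
      _ = y * ((a * b * a⁻¹) * b⁻¹) * y⁻¹ := by group
      _ = a * b * a⁻¹ * b⁻¹ := by rw [← cy]; group
  apply hC.absIrred.2
  rintro _ ⟨x, hx, rfl⟩
  have h1 : (⟨x, hx⟩ : P) ∈ MonoidHom.eqLocus (h.conj : P →* P) (MonoidHom.id P) := by
    apply hle
    rw [hC.commutator_top]; trivial
  have h2 : h.conj ⟨x, hx⟩ = ⟨x, hx⟩ := h1
  have h3 := congrArg (fun z : P => (z : GL ι F)) h2
  simp only [Nrm.conj_coe] at h3
  rw [mul_inv_eq_iff_eq_mul] at h3
  have h4 := congrArg (fun z : GL ι F => (z : Matrix ι ι F)) h3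
  simpa using h4

/-- two elements inducing the same automorphism differ by a scalar -/
theorem scalar_of_eq (hC : Core P) {T : Type v} [Group T] (e : Soc P ≃* T) {g k : GL ι F} (hg : Nrm P g) (hk : Nrm P k)
    {α : MulAut T} (hα : ∀ x : P, e (toSoc P (hg.conj x)) = α (e (toSoc P x)))
    (hα' : ∀ x : P, e (toSoc P (hk.conj x)) = α (e (toSoc P x))) :
    ∃ c : F, (g : Matrix ι ι F) = c • (k : Matrix ι ι F) := by
  obtain ⟨c, hc⟩ := scalar_of_trivial hC (hk.inv.mul hg) (fun x => by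
    apply e.injective
    have h1 : hk.conj ((hk.inv.mul hg).conj x) = hg.conj x := by
      apply Subtype.ext
      simp only [Nrm.conj_coe]
      group
    apply α.injective
    rw [← hα', h1, hα])
  refine ⟨c, ?_⟩
  have h2 : (g : Matrix ι ι F) = (k : Matrix ι ι F) * ((k⁻¹ * g : GL ι F) : Matrix ι ι F) := by
    rw [← Units.val_mul, mul_inv_cancel_left]
  rw [h2, hc, Matrix.mul_smul, mul_one]

end Cfsg.Agent.H910.Aut
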