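import Cfsg.Agent.H910.Six.Trace

/-!
# `3.A₆` has no six-dimensional irreducible representation in characteristic two (helper910)
-/

set_option autoImplicit false
set_option linter.unusedSectionVars false

open Matrix Equiv

namespace Cfsg.Agent.H910.Six

variable {F : Type*} [Field F]

section small

theorem add_self' (h2 : (2 : F) = 0) {m n : Type*} (Z : Matrix m n F) : Z + Z = 0 := by
  rw [← two_smul F, h2, zero_smul]

theorem eq_of_add (h2 : (2 : F) = 0) {m n : Type*} {Z W : Matrix m n F} (h : Z + W = 0) : Z = W := by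
  rw [← add_zero Z, ← add_self' h2 W, ← add_assoc, h, zero_add]

/-- the kernel of a nilpotent two by two matrix -/
theorem ker_nil {N : Matrix (Fin 2) (Fin 2) F} (hN : N ≠ 0) {m w : Fin 2 → F} (hm : m ≠ 0) (hNm : N *ᵥ m = 0)
    (hw : N *ᵥ w = 0) : ∃ c : F, w = c • m := by
  by_contra hcon
  push Not at hcon
  have hli : LinearIndependent F ![m, w] := by
    rw [LinearIndependent.pair_iff]
    intro s t hst
    by_cases ht : t = 0
    · subst ht
      rw [zero_smul, add_zero] at hst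
      exact ⟨(smul_eq_zero.1 hst).resolve_right hm, rfl⟩
    · exfalso
      apply hcon (-(t⁻¹ * s))
      have : t • w = -(s • m) := by rw [eq_neg_iff_add_eq_zero, add_comm]; exact hst
      rw [neg_smul, mul_smul, ← smul_neg, ← this, smul_smul, inv_mul_cancel₀ ht, one_smul]
  have hsp := hli.span_eq_top_of_card_eq_finrank (by simp)
  apply hN
  have key : ∀ z : Fin 2 → F, N *ᵥ z = 0 := by
    intro z
    have hz : z ∈ Submodule.span F (Set.range ![m, w]) := by rw [hsp]; trivial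
    induction hz using Submodule.span_induction with
    | mem z hz =>
      obtain ⟨i, rfl⟩ := hz
      fin_cases i
      · exact hNm
      · exact hw
    | zero => exact Matrix.mulVec_zero _
    | add a b _ _ ha hb => rw [Matrix.mulVec_add, ha, hb, add_zero]
    | smul k a _ ha => rw [Matrix.mulVec_smul, ha, smul_zero]
  ext i j
  have := congrFun (key (Pi.single j 1)) i
  rwa [Matrix.mulVec_single_one] at this

theorem exists_vec {N : Matrix (Fin 2) (Fin 2) F} (hN : N ≠ 0) : ∃ v : Fin 2 → F, N *ᵥ v ≠ 0 := by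
  by_contra hcon
  push Not at hcon
  apply hN
  ext i j
  have := congrFun (hcon (Pi.single j 1)) i
  rwa [Matrix.mulVec_single_one] at this

/-- the common eigenvector -/
theorem two_by_two (h2 : (2 : F) = 0) {C P Q R S : Matrix (Fin 2) (Fin 2) F} (hC : C * C = 1) (hPC : P * C = C * P)
    (hSC : S * C = C * S) (hQC : Q * C + C * Q = C * (1 + S + P)) (hRC : R * C + C * R = C * (1 + S + P))
    (hRCQ : R * C + C * Q = C + C * S) (hPP : P * P = 1) (hPQ : P * Q = Q) (hRP : R * P = R) (hRQ : R * Q = 0)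
    (hSS : S * S = 0) (hQS : Q * S = 0) :
    ∃ m : Fin 2 → F, m ≠ 0 ∧ (∃ p : F, P *ᵥ m = p • m) ∧ (∃ p : F, Q *ᵥ m = p • m) ∧ (∃ p : F, R *ᵥ m = p • m) ∧
      (∃ p : F, S *ᵥ m = p • m) := by
  have as := fun Z : Matrix (Fin 2) (Fin 2) F => add_self' h2 Z
  by_cases hN : C + 1 = 0
  · have hC1 : C = 1 := eq_of_add h2 hN
    subst hC1
    rw [mul_one, one_mul, as, one_mul] at hQC
    rw [mul_one, one_mul, one_mul] at hRCQ
    have hS : 1 + S = P := eq_of_add h2 hQC.symm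
    rw [hS] at hRCQ
    have hR : R = P + Q := by
      rw [← hRCQ, add_assoc, as, add_zero]
    have hQP : Q * P = Q := by
      have : Q * (1 + S) = Q := by rw [mul_add, mul_one, hQS, add_zero]
      rwa [hS] at this
    have hP1 : P = 1 := by
      rw [hR, add_mul, hPP, hQP] at hRP
      exact (add_right_cancel hRP).symm
    subst hP1
    have hS0 : S = 0 := by
      have := hS
      rwa [add_eq_left] at this
    have hQQ : Q * Q = Q := by
      rw [hR, add_mul, one_mul] at hRQ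
      exact (eq_of_add h2 hRQ).symm
    by_cases hQ : Q = 0
    · refine ⟨Pi.single 0 1, by simp, ⟨1, by rw [Matrix.one_mulVec, one_smul]⟩, ⟨0, by rw [hQ, Matrix.zero_mulVec, zero_smul]⟩,
        ⟨1, by rw [hR, hQ, add_zero, Matrix.one_mulVec, one_smul]⟩, ⟨0, by rw [hS0, Matrix.zero_mulVec, zero_smul]⟩⟩
    · obtain ⟨v, hv⟩ := exists_vec hQ
      have e1 : Q *ᵥ (Q *ᵥ v) = Q *ᵥ v := by rw [Matrix.mulVec_mulVec, hQQ]
      refine ⟨Q *ᵥ v, hv, ⟨1, by rw [Matrix.one_mulVec, one_smul]⟩, ⟨1, by rw [e1, one_smul]⟩, ⟨0, ?_⟩,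
        ⟨0, by rw [hS0, Matrix.zero_mulVec, zero_smul]⟩⟩
      rw [hR, Matrix.add_mulVec, Matrix.one_mulVec, e1, zero_smul, ← two_smul F, h2, zero_smul]
  · obtain ⟨N, hNd⟩ : ∃ N, N = C + 1 := ⟨_, rfl⟩
    rw [← hNd] at hN
    have hCN : C = N + 1 := by rw [hNd, add_assoc, as, add_zero]
    have hNN : N * N = 0 := by
      rw [hNd]
      calc (C + 1) * (C + 1) = C * C + (C + C) + 1 := by noncomm_ring
        _ = 0 := by rw [hC, as, add_zero, as]
    obtain ⟨v, hv⟩ := exists_vec hN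
    have hNm : N *ᵥ (N *ᵥ v) = 0 := by rw [Matrix.mulVec_mulVec, hNN, Matrix.zero_mulVec]
    have cPN : P * N = N * P := by rw [hNd, mul_add, add_mul, hPC, mul_one, one_mul]
    have cSN : S * N = N * S := by rw [hNd, mul_add, add_mul, hSC, mul_one, one_mul]
    -- operators commuting with `N`
    have key : ∀ Z : Matrix (Fin 2) (Fin 2) F, N * Z * N = 0 → ∃ p : F, Z *ᵥ (N *ᵥ v) = p • (N *ᵥ v) := by
      intro Z hZ
      apply ker_nil hN hv hNm
      rw [Matrix.mulVec_mulVec, Matrix.mulVec_mulVec, hZ, Matrix.zero_mulVec]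
    have nil : ∀ Z : Matrix (Fin 2) (Fin 2) F, Z * N = N * Z → Z * Z = 0 → N * Z = 0 := by
      intro Z hZN hZZ
      by_contra hne
      obtain ⟨y, hy⟩ := exists_vec hne
      have h1 : N * Z * N = 0 := by rw [mul_assoc, hZN, ← mul_assoc, hNN, zero_mul]
      rw [← Matrix.mulVec_mulVec] at hy
      -- `N (Z y)` is a multiple of `N y`
      obtain ⟨q, hq⟩ := ker_nil (w := Z *ᵥ (N *ᵥ y)) hN (m := N *ᵥ y) (by
        intro h0
        apply hy
        rw [Matrix.mulVec_mulVec, ← hZN, ← Matrix.mulVec_mulVec, h0, Matrix.mulVec_zero]) (by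
        rw [Matrix.mulVec_mulVec, hNN, Matrix.zero_mulVec]) (by
        rw [Matrix.mulVec_mulVec, Matrix.mulVec_mulVec, h1, Matrix.zero_mulVec])
      have h3 : Z *ᵥ (Z *ᵥ (N *ᵥ y)) = 0 := by rw [Matrix.mulVec_mulVec, hZZ, Matrix.zero_mulVec]
      rw [hq, Matrix.mulVec_smul, hq, smul_smul] at h3
      have h4 : N *ᵥ (Z *ᵥ y) = q • (N *ᵥ y) := by
        rw [← hq, Matrix.mulVec_mulVec, Matrix.mulVec_mulVec, hZN]
      rcases smul_eq_zero.1 h3 with h5 | h5
      · apply hy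
        rw [h4, mul_self_eq_zero.1 h5, zero_smul]
      · apply hy
        rw [h4, h5, smul_zero]
    have hS0 : N * S = 0 := nil S cSN hSS
    have hP0 : N * (1 + P) = 0 := nil (1 + P) (by rw [add_mul, mul_add, cPN, one_mul, mul_one]) (by
      calc (1 + P) * (1 + P) = 1 + P * P + (P + P) := by noncomm_ring
        _ = 0 := by rw [hPP, as, as, add_zero])
    have hcomm : ∀ Z : Matrix (Fin 2) (Fin 2) F, Z * C + C * Z = C * (1 + S + P) → N * Z * N = 0 := by
      intro Z hZ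
      have e1 : Z * N + N * Z = C * (1 + S + P) := by
        rw [← hZ, hCN]
        calc Z * N + N * Z = Z * N + N * Z + (Z + Z) := by rw [as, add_zero]
          _ = Z * (N + 1) + (N + 1) * Z := by noncomm_ring
      have e2 : N * (Z * N + N * Z) = N * Z * N := by
        rw [mul_add, ← mul_assoc, ← mul_assoc, hNN, zero_mul, add_zero]
      rw [← e2, e1, hCN]
      calc N * ((N + 1) * (1 + S + P)) = (N * N) * (1 + S + P) + N * S + N * (1 + P) := by noncomm_ring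
        _ = 0 := by rw [hNN, zero_mul, hS0, hP0, add_zero, add_zero]
    refine ⟨N *ᵥ v, hv, key P ?_, key Q (hcomm Q hQC), key R (hcomm R hRC), key S ?_⟩
    · rw [mul_assoc, cPN, ← mul_assoc, hNN, zero_mul]
    · rw [mul_assoc, cSN, ← mul_assoc, hNN, zero_mul]

end small

section nil

/-- Cayley–Hamilton -/
theorem ch_two (Z : Matrix (Fin 2) (Fin 2) F) : Z * Z = Z.trace • Z - Z.det • (1 : Matrix (Fin 2) (Fin 2) F) := by
  ext i j
  fin_cases i <;> fin_cases j <;>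
    simp [Matrix.mul_apply, Fin.sum_univ_two, Matrix.trace_fin_two, Matrix.det_fin_two] <;> ring

theorem nil_two {Z : Matrix (Fin 2) (Fin 2) F} (h : Z * Z * (Z * Z) = 0) : Z * Z = 0 := by
  have hd : Z.det = 0 := by
    have := congrArg Matrix.det h
    rw [Matrix.det_mul, Matrix.det_mul, Matrix.det_zero] at this
    · rcases mul_eq_zero.1 this with h1 | h1
      · exact mul_self_eq_zero.1 h1
      · exact mul_self_eq_zero.1 h1
  have h1 := ch_two Z
  rw [hd, zero_smul, sub_zero] at h1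
  rw [h1, smul_mul_smul_comm, h1, smul_smul] at h
  rcases smul_eq_zero.1 h with h3 | h3
  · have : Z.trace = 0 := by
      have h4 : Z.trace * Z.trace = 0 ∨ Z.trace = 0 := mul_eq_zero.1 h3
      rcases h4 with h5 | h5
      · exact mul_self_eq_zero.1 h5
      · exact h5
    rw [h1, this, zero_smul]
  · rw [h3, Matrix.mul_zero]

end nil

section blocks

/-- the relations -/
structure TwoRel (X Y S T U : M6 F) (z ζ : F) : Prop where
  h2 : (2 : F) = 0
  hζ : ζ * ζ + ζ + 1 = 0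
  hz : z * z * z = 1
  XX : X * X * X = 1
  YY : Y * Y * Y = 1
  XY : X * Y = ζ • (Y * X)
  SX : S * X = Y * S
  SY : S * Y = X * X * S
  SS : S * S = U
  UU : U * U = 1
  TT : T * T = 1
  TU : T * U = U * T
  TS : T * S = S * T * U
  TX : T * X * T = z • (X * X * T * (X * X))
  TX' : T * (X * X) * T = (z * z) • (X * T * X)

/-- the decomposition -/
structure Dec (X Y : M6 F) (ζ : F) (J0 J1 J2 : Matrix (Fin 6) (Fin 2) F) (K0 K1 K2 : Matrix (Fin 2) (Fin 6) F) : Prop where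
  j1 : J1 = Y * J0
  j2 : J2 = Y * J1
  k1 : K1 = K2 * Y
  k2 : K2 = K0 * Y
  e0 : J0 * K0 = 1 + X + X * X
  sum : J0 * K0 + J1 * K1 + J2 * K2 = 1
  k00 : K0 * J0 = 1
  k01 : K0 * J1 = 0
  k02 : K0 * J2 = 0
  k10 : K1 * J0 = 0
  k11 : K1 * J1 = 1
  k12 : K1 * J2 = 0
  k20 : K2 * J0 = 0
  k21 : K2 * J1 = 0
  k22 : K2 * J2 = 1
  x0 : X * J0 = J0
  x1 : X * J1 = ζ • J1
  x2 : X * J2 = (ζ * ζ) • J2
  y0 : K0 * X = K0
  y1 : K1 * X = ζ • K1
  y2 : K2 * X = (ζ * ζ) • K2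

theorem exists_JK {e : M6 F} (he : e * e = e) (hr : e.rank = 2) :
    ∃ (J : Matrix (Fin 6) (Fin 2) F) (K : Matrix (Fin 2) (Fin 6) F), J * K = e ∧ K * J = 1 := by
  have hfin : Module.finrank F (LinearMap.range e.mulVecLin) = 2 := hr
  let b := Module.finBasisOfFinrankEq F (LinearMap.range e.mulVecLin) hfin
  refine ⟨LinearMap.toMatrix' ((LinearMap.range e.mulVecLin).subtype.comp b.equivFun.symm.toLinearMap),
    LinearMap.toMatrix' (b.equivFun.toLinearMap.comp e.mulVecLin.rangeRestrict), ?_, ?_⟩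
  · rw [← LinearMap.toMatrix'_comp]
    have : ((LinearMap.range e.mulVecLin).subtype.comp b.equivFun.symm.toLinearMap).comp
        (b.equivFun.toLinearMap.comp e.mulVecLin.rangeRestrict) = Matrix.toLin' e := by
      refine LinearMap.ext fun v => ?_
      change ((b.equivFun.symm (b.equivFun (e.mulVecLin.rangeRestrict v)) : LinearMap.range e.mulVecLin) : Fin 6 → F) = _
      rw [LinearEquiv.symm_apply_apply, Matrix.toLin'_apply]
      rfl
    rw [this, LinearMap.toMatrix'_toLin']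
  · rw [← LinearMap.toMatrix'_comp]
    have : (b.equivFun.toLinearMap.comp e.mulVecLin.rangeRestrict).comp
        ((LinearMap.range e.mulVecLin).subtype.comp b.equivFun.symm.toLinearMap) = LinearMap.id := by
      refine LinearMap.ext fun v => ?_
      have h1 : ∀ y : LinearMap.range e.mulVecLin, e.mulVecLin.rangeRestrict (y : Fin 6 → F) = y := by
        rintro ⟨_, y, rfl⟩
        apply Subtype.ext
        change e *ᵥ (e *ᵥ y) = e *ᵥ y
        rw [Matrix.mulVec_mulVec, he]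
      change b.equivFun (e.mulVecLin.rangeRestrict ((b.equivFun.symm v : LinearMap.range e.mulVecLin) : Fin 6 → F)) = v
      rw [h1, LinearEquiv.apply_symm_apply]
    rw [this, LinearMap.toMatrix'_id]

variable {X Y S T U : M6 F} {z ζ : F}

theorem TwoRel.z3 (h : TwoRel X Y S T U z ζ) : ζ * ζ * ζ = 1 := by linear_combination (ζ - 1) * h.hζ

theorem TwoRel.exists_dec (h : TwoRel X Y S T U z ζ) : ∃ J0 J1 J2 K0 K1 K2, Dec X Y ζ J0 J1 J2 K0 K1 K2 := by
  have as := fun Z : M6 F => add_self' h.h2 Z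
  have z3 := h.z3
  obtain ⟨e0, he0⟩ : ∃ e0, e0 = 1 + X + X * X := ⟨_, rfl⟩
  obtain ⟨e1, he1⟩ : ∃ e1, e1 = Y * e0 * (Y * Y) := ⟨_, rfl⟩
  obtain ⟨e2, he2⟩ : ∃ e2, e2 = Y * Y * e0 * Y := ⟨_, rfl⟩
  have YX : Y * X = (ζ * ζ) • (X * Y) := by rw [h.XY, smul_smul, z3, one_smul]
  have Xe : X * e0 = e0 := by
    rw [he0]
    calc X * (1 + X + X * X) = X + X * X + X * X * X := by noncomm_ring
      _ = 1 + X + X * X := by rw [h.XX]; abel
  have eX : e0 * X = e0 := by
    rw [he0]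
    calc (1 + X + X * X) * X = X + X * X + X * X * X := by noncomm_ring
      _ = 1 + X + X * X := by rw [h.XX]; abel
  have YXY : Y * X * (Y * Y) = (ζ * ζ) • X := by
    rw [YX, smul_mul_assoc, mul_assoc X, ← mul_assoc Y, h.YY, mul_one]
  have YXXY : Y * (X * X) * (Y * Y) = ζ • (X * X) := by
    have : Y * (X * X) * (Y * Y) = (Y * X * (Y * Y)) * (Y * X * (Y * Y)) := by
      calc Y * (X * X) * (Y * Y) = Y * X * 1 * X * (Y * Y) := by noncomm_ring
        _ = _ := by rw [← h.YY]; noncomm_ring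
    rw [this, YXY, smul_mul_smul_comm]
    congr 1
    linear_combination ζ * z3
  have E1 : e1 = 1 + (ζ * ζ) • X + ζ • (X * X) := by
    rw [he1, he0, mul_add, mul_add, add_mul, add_mul, mul_one, YXY, YXXY, ← mul_assoc, h.YY]
  have E2 : e2 = 1 + ζ • X + (ζ * ζ) • (X * X) := by
    have : e2 = Y * e1 * (Y * Y) := by
      rw [he2, he1]
      calc Y * Y * e0 * Y = Y * Y * e0 * Y * (Y * Y * Y) := by rw [h.YY, mul_one]
        _ = Y * (Y * e0 * (Y * Y)) * (Y * Y) := by noncomm_ring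
    rw [this, E1, mul_add, mul_add, add_mul, add_mul, mul_one, mul_smul_comm, smul_mul_assoc, mul_smul_comm, smul_mul_assoc,
      YXY, YXXY, ← mul_assoc, h.YY, smul_smul, smul_smul]
    congr 2
    rw [show ζ * ζ * (ζ * ζ) = ζ by linear_combination ζ * z3]
  have ee : e0 * e0 = e0 := by
    nth_rewrite 2 [he0]
    rw [mul_add, mul_add, mul_one, ← mul_assoc, eX, eX, add_assoc, as, add_zero]
  have lin : ∀ Z : M6 F, Z + (ζ * ζ) • Z + ζ • Z = 0 := by
    intro Z
    rw [← one_smul F Z, smul_smul, smul_smul, ← add_smul, ← add_smul,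
      show (1 : F) + ζ * ζ * 1 + ζ * 1 = 0 by linear_combination h.hζ, zero_smul]
  have o01 : e0 * e1 = 0 := by
    rw [E1, mul_add, mul_add, mul_one, mul_smul_comm, mul_smul_comm, ← mul_assoc, eX, eX, lin]
  have o10 : e1 * e0 = 0 := by
    rw [E1, add_mul, add_mul, one_mul, smul_mul_assoc, smul_mul_assoc, mul_assoc, Xe, Xe, lin]
  have o02 : e0 * e2 = 0 := by
    rw [E2, mul_add, mul_add, mul_one, mul_smul_comm, mul_smul_comm, ← mul_assoc, eX, eX, add_right_comm, lin]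
  have o20 : e2 * e0 = 0 := by
    rw [E2, add_mul, add_mul, one_mul, smul_mul_assoc, smul_mul_assoc, mul_assoc, Xe, Xe, add_right_comm, lin]
  have sum : e0 + e1 + e2 = 1 := by
    have e3 : e0 + e1 + e2 = (1 + 1) + 1 + (X + (ζ * ζ) • X + ζ • X) + (X * X + (ζ * ζ) • (X * X) + ζ • (X * X)) := by
      rw [he0, E1, E2]; abel
    rw [e3, lin, lin, as, zero_add, add_zero, add_zero]
  have eYe : e0 * Y * e0 = 0 := by
    calc e0 * Y * e0 = e0 * Y * e0 * (Y * Y * Y) := by rw [h.YY, mul_one]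
      _ = e0 * (Y * e0 * (Y * Y)) * Y := by noncomm_ring
      _ = 0 := by rw [← he1, o01, zero_mul]
  have eYYe : e0 * (Y * Y) * e0 = 0 := by
    calc e0 * (Y * Y) * e0 = e0 * (Y * Y) * e0 * (Y * Y * Y) := by rw [h.YY, mul_one]
      _ = e0 * (Y * Y * e0 * Y) * (Y * Y) := by noncomm_ring
      _ = 0 := by rw [← he2, o02, zero_mul]
  have i1 : e1 * e1 = e1 := by
    calc e1 * e1 = Y * (e0 * (Y * Y * Y) * e0) * (Y * Y) := by rw [he1]; noncomm_ring
      _ = e1 := by rw [h.YY, mul_one, ee, he1]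
  have i2 : e2 * e2 = e2 := by
    calc e2 * e2 = Y * Y * (e0 * (Y * Y * Y) * e0) * Y := by rw [he2]; noncomm_ring
      _ = e2 := by rw [h.YY, mul_one, ee, he2]
  have o12 : e1 * e2 = 0 := by
    calc e1 * e2 = Y * (e0 * (Y * Y * Y) * (Y * e0)) * Y := by rw [he1, he2]; noncomm_ring
      _ = Y * (e0 * Y * e0) * Y := by rw [h.YY]; noncomm_ring
      _ = 0 := by rw [eYe]; noncomm_ring
  have o21 : e2 * e1 = 0 := by
    calc e2 * e1 = Y * Y * (e0 * (Y * Y) * e0) * (Y * Y) := by rw [he1, he2]; noncomm_ring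
      _ = 0 := by rw [eYYe]; noncomm_ring
  have r1 : e0.rank = e1.rank := rank_conj he1 (by
    rw [he1]
    calc e0 = (Y * Y * Y) * e0 * (Y * Y * Y) := by rw [h.YY, one_mul, mul_one]
      _ = Y * Y * (Y * e0 * (Y * Y)) * Y := by noncomm_ring)
  have r2 : e0.rank = e2.rank := rank_conj he2 (by
    rw [he2]
    calc e0 = (Y * Y * Y) * e0 * (Y * Y * Y) := by rw [h.YY, one_mul, mul_one]
      _ = Y * (Y * Y * e0 * Y) * (Y * Y) := by noncomm_ring)
  have hr : e0.rank = 2 := by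
    have w1 := rank_add_idem ee i1 o01 o10
    have w2 : (e0 + e1 + e2).rank = (e0 + e1).rank + e2.rank := by
      apply rank_add_idem
      · rw [add_mul, mul_add, mul_add, ee, i1, o01, o10, add_zero, zero_add]
      · exact i2
      · rw [add_mul, o02, o12, add_zero]
      · rw [mul_add, o20, o21, add_zero]
    rw [sum, Matrix.rank_one, Fintype.card_fin] at w2
    omega
  obtain ⟨J, K, hJK, hKJ⟩ := exists_JK ee hr
  have eJ : e0 * J = J := by rw [← hJK, Matrix.mul_assoc, hKJ, Matrix.mul_one]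
  have Ke : K * e0 = K := by rw [← hJK, ← Matrix.mul_assoc, hKJ, Matrix.one_mul]
  have XJ : X * J = J := by
    rw [← eJ, ← Matrix.mul_assoc, Xe]
  have KX : K * X = K := by
    rw [← Ke, Matrix.mul_assoc, eX]
  have KYJ : K * (Y * J) = 0 := by
    calc K * (Y * J) = K * e0 * (Y * (e0 * J)) := by rw [Ke, eJ]
      _ = K * (e0 * Y * e0) * J := by simp only [Matrix.mul_assoc]
      _ = 0 := by rw [eYe, Matrix.mul_zero, Matrix.zero_mul]
  have KYYJ : K * (Y * (Y * J)) = 0 := by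
    calc K * (Y * (Y * J)) = K * e0 * (Y * (Y * (e0 * J))) := by rw [Ke, eJ]
      _ = K * (e0 * (Y * Y) * e0) * J := by simp only [Matrix.mul_assoc]
      _ = 0 := by rw [eYYe, Matrix.mul_zero, Matrix.zero_mul]
  have YYY : ∀ Z : Matrix (Fin 6) (Fin 2) F, Y * (Y * (Y * Z)) = Z := by
    intro Z
    rw [← Matrix.mul_assoc, ← Matrix.mul_assoc, h.YY, Matrix.one_mul]
  refine ⟨J, Y * J, Y * (Y * J), K, K * Y * Y, K * Y, ⟨rfl, rfl, rfl, rfl, by rw [hJK, he0], ?_, hKJ, KYJ, KYYJ, ?_, ?_, ?_,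
    ?_, ?_, ?_, XJ, ?_, ?_, KX, ?_, ?_⟩⟩
  · rw [← sum, hJK, he1, he2, ← hJK]
    simp only [Matrix.mul_assoc]
  · rw [Matrix.mul_assoc, Matrix.mul_assoc, KYYJ]
  · rw [Matrix.mul_assoc, Matrix.mul_assoc, YYY, hKJ]
  · rw [Matrix.mul_assoc, Matrix.mul_assoc, YYY, KYJ]
  · rw [Matrix.mul_assoc, KYJ]
  · rw [Matrix.mul_assoc, KYYJ]
  · rw [Matrix.mul_assoc, YYY, hKJ]
  · rw [← Matrix.mul_assoc, h.XY, Matrix.smul_mul, Matrix.mul_assoc, XJ]
  · rw [← Matrix.mul_assoc, h.XY, Matrix.smul_mul, Matrix.mul_assoc, ← Matrix.mul_assoc X, h.XY, Matrix.smul_mul,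
      Matrix.mul_assoc, XJ, Matrix.mul_smul, smul_smul]
  · rw [Matrix.mul_assoc, YX, Matrix.mul_smul, Matrix.mul_assoc K, ← Matrix.mul_assoc Y, YX, Matrix.smul_mul,
      Matrix.mul_smul, smul_smul, Matrix.mul_assoc X, ← Matrix.mul_assoc K, KX, ← Matrix.mul_assoc,
      show ζ * ζ * (ζ * ζ) = ζ by linear_combination ζ * z3]
  · rw [Matrix.mul_assoc, YX, Matrix.mul_smul, ← Matrix.mul_assoc, KX]

variable {J0 J1 J2 : Matrix (Fin 6) (Fin 2) F} {K0 K1 K2 : Matrix (Fin 2) (Fin 6) F}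

theorem Dec.c0 (d : Dec X Y ζ J0 J1 J2 K0 K1 K2) (a b c : Matrix (Fin 2) (Fin 2) F) :
    K0 * (J0 * a + J1 * b + J2 * c) = a := by
  rw [Matrix.mul_add, Matrix.mul_add, ← Matrix.mul_assoc, ← Matrix.mul_assoc, ← Matrix.mul_assoc, d.k00, d.k01, d.k02,
    Matrix.one_mul, Matrix.zero_mul, Matrix.zero_mul, add_zero, add_zero]

theorem Dec.c1 (d : Dec X Y ζ J0 J1 J2 K0 K1 K2) (a b c : Matrix (Fin 2) (Fin 2) F) :
    K1 * (J0 * a + J1 * b + J2 * c) = b := by
  rw [Matrix.mul_add, Matrix.mul_add, ← Matrix.mul_assoc, ← Matrix.mul_assoc, ← Matrix.mul_assoc, d.k10, d.k11, d.k12,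
    Matrix.one_mul, Matrix.zero_mul, Matrix.zero_mul, zero_add, add_zero]

theorem Dec.c2 (d : Dec X Y ζ J0 J1 J2 K0 K1 K2) (a b c : Matrix (Fin 2) (Fin 2) F) :
    K2 * (J0 * a + J1 * b + J2 * c) = c := by
  rw [Matrix.mul_add, Matrix.mul_add, ← Matrix.mul_assoc, ← Matrix.mul_assoc, ← Matrix.mul_assoc, d.k20, d.k21, d.k22,
    Matrix.one_mul, Matrix.zero_mul, Matrix.zero_mul, zero_add, zero_add]

/-- expansion -/
theorem Dec.exp (d : Dec X Y ζ J0 J1 J2 K0 K1 K2) (Z : Matrix (Fin 6) (Fin 2) F) :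
    Z = J0 * (K0 * Z) + J1 * (K1 * Z) + J2 * (K2 * Z) := by
  conv_lhs => rw [← Matrix.one_mul Z, ← d.sum]
  rw [Matrix.add_mul, Matrix.add_mul, Matrix.mul_assoc, Matrix.mul_assoc, Matrix.mul_assoc]

theorem TwoRel.actS (h : TwoRel X Y S T U z ζ) (d : Dec X Y ζ J0 J1 J2 K0 K1 K2) :
    S * J0 = J0 * (K0 * S * J0) + J1 * (K0 * S * J0) + J2 * (K0 * S * J0) ∧
    S * J1 = J0 * (K0 * S * J0) + J1 * ((ζ * ζ) • (K0 * S * J0)) + J2 * (ζ • (K0 * S * J0)) ∧
    S * J2 = J0 * (K0 * S * J0) + J1 * (ζ • (K0 * S * J0)) + J2 * ((ζ * ζ) • (K0 * S * J0)) := by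
  have z3 := h.z3
  have e2 : K2 * (S * J0) = K0 * S * J0 := by
    rw [d.k2, Matrix.mul_assoc, ← Matrix.mul_assoc Y, ← h.SX, Matrix.mul_assoc S, d.x0, ← Matrix.mul_assoc]
  have e1 : K1 * (S * J0) = K0 * S * J0 := by
    rw [d.k1, Matrix.mul_assoc, ← Matrix.mul_assoc Y, ← h.SX, Matrix.mul_assoc S, d.x0, e2]
  have f0 : S * J0 = J0 * (K0 * S * J0) + J1 * (K0 * S * J0) + J2 * (K0 * S * J0) := by
    conv_lhs => rw [d.exp (S * J0)]
    rw [e1, e2, Matrix.mul_assoc K0]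
  generalize K0 * S * J0 = C at *
  have xx0 : X * X * J0 = J0 := by rw [Matrix.mul_assoc, d.x0, d.x0]
  have xx1 : X * X * J1 = (ζ * ζ) • J1 := by rw [Matrix.mul_assoc, d.x1, Matrix.mul_smul, d.x1, smul_smul]
  have xx2 : X * X * J2 = ζ • J2 := by
    rw [Matrix.mul_assoc, d.x2, Matrix.mul_smul, d.x2, smul_smul,
      show ζ * ζ * (ζ * ζ) = ζ by linear_combination ζ * z3]
  have f1 : S * J1 = J0 * C + J1 * ((ζ * ζ) • C) + J2 * (ζ • C) := by
    rw [d.j1, ← Matrix.mul_assoc, h.SY, Matrix.mul_assoc, f0, Matrix.mul_add, Matrix.mul_add, ← Matrix.mul_assoc,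
      ← Matrix.mul_assoc, ← Matrix.mul_assoc, xx0, xx1, xx2, ← d.j1, Matrix.smul_mul, Matrix.smul_mul, Matrix.mul_smul,
      Matrix.mul_smul]
  refine ⟨f0, f1, ?_⟩
  rw [d.j2, ← Matrix.mul_assoc, h.SY, Matrix.mul_assoc, f1, Matrix.mul_add, Matrix.mul_add, ← Matrix.mul_assoc,
    ← Matrix.mul_assoc, ← Matrix.mul_assoc, xx0, xx1, xx2, ← d.j2, Matrix.smul_mul, Matrix.smul_mul, Matrix.mul_smul,
    Matrix.mul_smul, Matrix.mul_smul, Matrix.mul_smul, smul_smul, smul_smul,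
    show ζ * ζ * (ζ * ζ) = ζ by linear_combination ζ * z3]

theorem TwoRel.actU (h : TwoRel X Y S T U z ζ) (d : Dec X Y ζ J0 J1 J2 K0 K1 K2) :
    (K0 * S * J0) * (K0 * S * J0) = 1 ∧ U * J0 = J0 ∧ U * J1 = J2 ∧ U * J2 = J1 ∧ K0 * U = K0 ∧ K1 * U = K2 ∧ K2 * U = K1 := by
  have as := fun Z : Matrix (Fin 2) (Fin 2) F => add_self' h.h2 Z
  have as' := fun Z : Matrix (Fin 6) (Fin 2) F => add_self' h.h2 Z
  have z3 := h.z3
  obtain ⟨f0, f1, f2⟩ := h.actS d
  generalize K0 * S * J0 = C at *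
  have U0 : U * J0 = J0 * (C * C) := by
    have e1 : U * J0 = S * J0 * C + S * J1 * C + S * J2 * C := by
      rw [← h.SS, Matrix.mul_assoc]
      conv_lhs => rw [f0]
      rw [Matrix.mul_add, Matrix.mul_add, ← Matrix.mul_assoc, ← Matrix.mul_assoc, ← Matrix.mul_assoc]
    have lin : ∀ Z : Matrix (Fin 6) (Fin 2) F, Z + (ζ * ζ) • Z + ζ • Z = 0 := by
      intro Z
      rw [← one_smul F Z, smul_smul, smul_smul, ← add_smul, ← add_smul,
        show (1 : F) + ζ * ζ * 1 + ζ * 1 = 0 by linear_combination h.hζ, zero_smul]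
    have e2 : U * J0 = (J0 * (C * C) + J0 * (C * C)) + J0 * (C * C) +
        (J1 * (C * C) + (ζ * ζ) • (J1 * (C * C)) + ζ • (J1 * (C * C))) +
        (J2 * (C * C) + (ζ * ζ) • (J2 * (C * C)) + ζ • (J2 * (C * C))) := by
      rw [e1, f0, f1, f2]
      simp only [Matrix.add_mul, Matrix.mul_assoc, Matrix.mul_smul, Matrix.smul_mul]
      abel
    rw [e2, lin, lin, as', zero_add, add_zero, add_zero]
  have C4 : C * C * (C * C) = 1 := by
    have e1 : J0 = J0 * (C * C * (C * C)) := by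
      calc J0 = U * (U * J0) := by rw [← Matrix.mul_assoc, h.UU, Matrix.one_mul]
        _ = J0 * (C * C * (C * C)) := by rw [U0, ← Matrix.mul_assoc, U0]; simp only [Matrix.mul_assoc]
    have e2 := congrArg (fun Z => K0 * Z) e1
    simp only [← Matrix.mul_assoc, d.k00, Matrix.one_mul] at e2
    rw [e2]; simp only [Matrix.mul_assoc]
  have C2 : C * C = 1 := by
    have e1 : (C + 1) * (C + 1) = C * C + 1 := by
      calc (C + 1) * (C + 1) = C * C + (C + C) + 1 := by noncomm_ring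
        _ = C * C + 1 := by rw [as, add_zero]
    have e2 : (C + 1) * (C + 1) * ((C + 1) * (C + 1)) = 0 := by
      rw [e1]
      calc (C * C + 1) * (C * C + 1) = C * C * (C * C) + (C * C + C * C) + 1 := by noncomm_ring
        _ = 0 := by rw [C4, as, add_zero, as]
    have e3 := nil_two e2
    rw [e1] at e3
    exact eq_of_add h.h2 e3
  have U0' : U * J0 = J0 := by rw [U0, C2, Matrix.mul_one]
  have UY : U * Y = Y * Y * U := by
    rw [← h.SS]
    calc S * S * Y = S * (S * Y) := by rw [mul_assoc]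
      _ = (S * X) * X * S := by rw [h.SY]; simp only [mul_assoc]
      _ = (Y * S) * X * S := by rw [h.SX]
      _ = Y * (S * X) * S := by simp only [mul_assoc]
      _ = Y * (Y * S) * S := by rw [h.SX]
      _ = Y * Y * (S * S) := by simp only [mul_assoc]
  have U1 : U * J1 = J2 := by
    rw [d.j1, ← Matrix.mul_assoc, UY, Matrix.mul_assoc, U0', Matrix.mul_assoc, ← d.j1, ← d.j2]
  have U2 : U * J2 = J1 := by rw [← U1, ← Matrix.mul_assoc, h.UU, Matrix.one_mul]
  have key : ∀ K : Matrix (Fin 2) (Fin 6) F, K * U = K * J0 * K0 + K * J2 * K1 + K * J1 * K2 := by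
    intro K
    calc K * U = K * U * (J0 * K0 + J1 * K1 + J2 * K2) := by rw [d.sum, Matrix.mul_one]
      _ = K * (U * J0) * K0 + K * (U * J1) * K1 + K * (U * J2) * K2 := by
        simp only [Matrix.mul_add, Matrix.mul_assoc]
      _ = _ := by rw [U0', U1, U2]
  refine ⟨C2, U0', U1, U2, ?_, ?_, ?_⟩
  · rw [key, d.k00, d.k01, d.k02, Matrix.one_mul, Matrix.zero_mul, Matrix.zero_mul, add_zero, add_zero]
  · rw [key, d.k10, d.k11, d.k12, Matrix.one_mul, Matrix.zero_mul, Matrix.zero_mul, zero_add, zero_add]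
  · rw [key, d.k20, d.k21, d.k22, Matrix.one_mul, Matrix.zero_mul, Matrix.zero_mul, zero_add, add_zero]

theorem Dec.inj (d : Dec X Y ζ J0 J1 J2 K0 K1 K2) {a b c a' b' c' : Matrix (Fin 2) (Fin 2) F}
    (h : J0 * a + J1 * b + J2 * c = J0 * a' + J1 * b' + J2 * c') : a = a' ∧ b = b' ∧ c = c' :=
  ⟨by rw [← d.c0 a b c, h, d.c0], by rw [← d.c1 a b c, h, d.c1], by rw [← d.c2 a b c, h, d.c2]⟩

theorem TwoRel.blocks (h : TwoRel X Y S T U z ζ) (d : Dec X Y ζ J0 J1 J2 K0 K1 K2) :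
    ∃ m : Fin 2 → F, m ≠ 0 ∧ (∃ a b c : F, T *ᵥ (J0 *ᵥ m) = a • (J0 *ᵥ m) + b • (J1 *ᵥ m) + c • (J2 *ᵥ m)) ∧
      (∃ a b c : F, T *ᵥ (J1 *ᵥ m) = a • (J0 *ᵥ m) + b • (J1 *ᵥ m) + c • (J2 *ᵥ m)) ∧
      (∃ a b c : F, T *ᵥ (J2 *ᵥ m) = a • (J0 *ᵥ m) + b • (J1 *ᵥ m) + c • (J2 *ᵥ m)) := by
  have as := fun Z : Matrix (Fin 2) (Fin 2) F => add_self' h.h2 Z
  have z3 := h.z3
  have hζ := h.hζ
  have hz := h.hz
  obtain ⟨s0, s1, s2⟩ := h.actS d
  obtain ⟨C2, u0, u1, u2, v0, v1, v2⟩ := h.actU d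
  obtain ⟨P, hP⟩ : ∃ P, P = K0 * (T * J0) := ⟨_, rfl⟩
  obtain ⟨Q, hQ⟩ : ∃ Q, Q = K0 * (T * J1) := ⟨_, rfl⟩
  obtain ⟨R, hR⟩ : ∃ R, R = K1 * (T * J0) := ⟨_, rfl⟩
  obtain ⟨A, hA⟩ : ∃ A, A = K1 * (T * J1) := ⟨_, rfl⟩
  obtain ⟨B, hB⟩ : ∃ B, B = K1 * (T * J2) := ⟨_, rfl⟩
  -- the blocks under `U`
  have swap : ∀ (K K' : Matrix (Fin 2) (Fin 6) F) (J J' : Matrix (Fin 6) (Fin 2) F), K * U = K' → U * J = J' →
      K' * (T * J) = K * (T * J') := by
    intro K K' J J' hK hJ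
    rw [← hK, ← hJ, Matrix.mul_assoc, ← Matrix.mul_assoc U, ← h.TU, Matrix.mul_assoc]
  have b02 : K0 * (T * J2) = Q := by rw [hQ]; exact swap _ _ _ _ v0 u2
  have b20 : K2 * (T * J0) = R := by rw [hR]; exact swap _ _ _ _ v1 u0
  have b21 : K2 * (T * J1) = B := by rw [hB]; exact swap _ _ _ _ v1 u1
  have b22 : K2 * (T * J2) = A := by rw [hA]; exact swap _ _ _ _ v1 u2
  have t0 : T * J0 = J0 * P + J1 * R + J2 * R := by
    conv_lhs => rw [d.exp (T * J0)]
    rw [← hP, ← hR, b20]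
  have t1 : T * J1 = J0 * Q + J1 * A + J2 * B := by
    conv_lhs => rw [d.exp (T * J1)]
    rw [← hQ, ← hA, b21]
  have t2 : T * J2 = J0 * Q + J1 * B + J2 * A := by
    conv_lhs => rw [d.exp (T * J2)]
    rw [b02, ← hB, b22]
  -- the relation `(t x)³ = z`
  have rel : T * J0 * (K0 * T) = 1 + z • (X * X * T * (X * X)) + (z * z) • (X * T * X) := by
    calc T * J0 * (K0 * T) = T * (J0 * K0) * T := by simp only [Matrix.mul_assoc]
      _ = T * T + T * X * T + T * (X * X) * T := by rw [d.e0]; noncomm_ring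
      _ = _ := by rw [h.TT, h.TX, h.TX']
  have REL : ∀ (K : Matrix (Fin 2) (Fin 6) F) (J : Matrix (Fin 6) (Fin 2) F) (k j : F), K * X = k • K → X * J = j • J →
      (K * (T * J0)) * (K0 * (T * J)) = K * J + (z * (k * k * (j * j)) + z * z * (k * j)) • (K * (T * J)) := by
    intro K J k j hk hj
    have e1 : K * (X * X * T * (X * X)) * J = (k * k * (j * j)) • (K * (T * J)) := by
      calc K * (X * X * T * (X * X)) * J = (K * X) * X * T * X * (X * J) := by simp only [Matrix.mul_assoc]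
        _ = (k * j) • ((K * X) * T * (X * J)) := by
          rw [hk, hj]; simp only [Matrix.smul_mul, Matrix.mul_smul, smul_smul]; rw [hk, Matrix.mul_assoc, Matrix.mul_assoc, hj]
          simp only [Matrix.smul_mul, Matrix.mul_smul, smul_smul, Matrix.mul_assoc, hj]
          congr 1; ring
        _ = (k * k * (j * j)) • (K * (T * J)) := by
          rw [hk, hj]; simp only [Matrix.smul_mul, Matrix.mul_smul, smul_smul, Matrix.mul_assoc]
          congr 1; ring
    have e2 : K * (X * T * X) * J = (k * j) • (K * (T * J)) := by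
      calc K * (X * T * X) * J = (K * X) * T * (X * J) := by simp only [Matrix.mul_assoc]
        _ = _ := by
          rw [hk, hj]; simp only [Matrix.smul_mul, Matrix.mul_smul, smul_smul, Matrix.mul_assoc]
          rw [mul_comm j k]
    calc (K * (T * J0)) * (K0 * (T * J)) = K * (T * J0 * (K0 * T)) * J := by simp only [Matrix.mul_assoc]
      _ = K * J + z • (K * (X * X * T * (X * X)) * J) + (z * z) • (K * (X * T * X) * J) := by
        rw [rel]
        simp only [Matrix.mul_add, Matrix.add_mul, Matrix.mul_smul, Matrix.smul_mul, Matrix.mul_one]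
      _ = _ := by rw [e1, e2, smul_smul, smul_smul, add_assoc, ← add_smul]
  have n2 : (1 : F) + 1 = 0 := by rw [one_add_one_eq_two]; exact h.h2
  have zz : ζ * ζ + ζ = 1 := by linear_combination hζ - n2
  have X0 : X * J0 = (1 : F) • J0 := by rw [one_smul, d.x0]
  have Y0 : K0 * X = (1 : F) • K0 := by rw [one_smul, d.y0]
  have q00 := REL K0 J0 1 1 Y0 X0
  have q01 := REL K0 J1 1 ζ Y0 d.x1
  have q02 := REL K0 J2 1 (ζ * ζ) Y0 d.x2
  have q10 := REL K1 J0 ζ 1 d.y1 X0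
  have q20 := REL K2 J0 (ζ * ζ) 1 d.y2 X0
  have q11 := REL K1 J1 ζ ζ d.y1 d.x1
  have q12 := REL K1 J2 ζ (ζ * ζ) d.y1 d.x2
  have q22 := REL K2 J2 (ζ * ζ) (ζ * ζ) d.y2 d.x2
  rw [b02] at q02 q12
  rw [b20] at q20 q22
  rw [b22, b02] at q22
  rw [← hP] at q00 q01 q02 q10 q20
  rw [← hR] at q10 q11 q12
  rw [← hQ] at q01 q11
  rw [← hA] at q11
  rw [← hB] at q12
  rw [d.k00] at q00
  rw [d.k01, zero_add] at q01
  rw [d.k02, zero_add] at q02
  rw [d.k10, zero_add] at q10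
  rw [d.k20, zero_add] at q20
  rw [d.k11] at q11
  rw [d.k12, zero_add] at q12
  rw [d.k22] at q22
  have hz1 : z = 1 := by
    have hz3 : (z - 1) * ((z - ζ) * (z - ζ * ζ)) = 0 := by
      linear_combination hz - (z * z - z) * hζ - z3 + (z * z3) - z * z * 0
    have nt : (1 : Matrix (Fin 2) (Fin 2) F) ≠ 0 := one_ne_zero
    rcases mul_eq_zero.1 hz3 with h1 | h1
    · exact sub_eq_zero.1 h1
    rcases mul_eq_zero.1 h1 with h1 | h1
    · exfalso
      have hzz := sub_eq_zero.1 h1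
      subst hzz
      have c1 : z * (1 * 1 * (z * z)) + z * z * (1 * z) = 0 := by linear_combination 2 * z3 + n2
      have c2 : z * (1 * 1 * (z * z * (z * z))) + z * z * (1 * (z * z)) = 1 := by
        linear_combination (z * z + z) * z3 + zz
      have c3 : z * (z * z * (z * z) * (z * z * (z * z))) + z * z * (z * z * (z * z)) = 0 := by
        linear_combination (z ^ 6 + z ^ 3 + 1) * z3 + (z ^ 3 + 1) * z3 + n2
      rw [c1, zero_smul] at q01
      rw [c2, one_smul, q01] at q02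
      rw [c3, zero_smul, add_zero, ← q02, Matrix.mul_zero] at q22
      exact nt q22.symm
    · exfalso
      have hzz := sub_eq_zero.1 h1
      subst hzz
      have c1 : ζ * ζ * (1 * 1 * (ζ * ζ)) + ζ * ζ * (ζ * ζ) * (1 * ζ) = 1 := by
        linear_combination (ζ + ζ * ζ) * z3 + zz
      have c2 : ζ * ζ * (1 * 1 * (ζ * ζ * (ζ * ζ))) + ζ * ζ * (ζ * ζ) * (1 * (ζ * ζ)) = 0 := by
        linear_combination (2 * ζ ^ 3 + 2) * z3 + n2
      have c3 : ζ * ζ * (ζ * ζ * (ζ * ζ)) + ζ * ζ * (ζ * ζ) * (ζ * ζ) = 0 := by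
        linear_combination (2 * ζ ^ 3 + 2) * z3 + n2
      rw [c2, zero_smul] at q02
      rw [c1, one_smul, q02] at q01
      rw [c3, zero_smul, add_zero, ← q01, Matrix.mul_zero] at q11
      exact nt q11.symm
  subst hz1
  have hPP : P * P = 1 := by
    rw [q00, show (1 : F) * (1 * 1 * (1 * 1)) + 1 * 1 * (1 * 1) = 0 by linear_combination n2, zero_smul, add_zero]
  have hPQ : P * Q = Q := by
    rw [q01, show (1 : F) * (1 * 1 * (ζ * ζ)) + 1 * 1 * (1 * ζ) = 1 by linear_combination zz, one_smul]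
  have hRP : R * P = R := by
    rw [q10, show (1 : F) * (ζ * ζ * (1 * 1)) + 1 * 1 * (ζ * 1) = 1 by linear_combination zz, one_smul]
  have hRQ : R * Q = 0 := by
    rw [q12, show (1 : F) * (ζ * ζ * (ζ * ζ * (ζ * ζ))) + 1 * 1 * (ζ * (ζ * ζ)) = 0 by
      linear_combination (ζ ^ 3 + 2) * z3 + n2, zero_smul]
  have hA1 : A = 1 := by
    rw [hRQ, show (1 : F) * (ζ * ζ * (ζ * ζ)) + 1 * 1 * (ζ * ζ) = 1 by linear_combination ζ * z3 + zz, one_smul] at q11
    exact (eq_of_add h.h2 q11.symm).symm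
  subst hA1
  -- `t² = 1`
  have e1 : T * (T * J1) = J1 := by rw [← Matrix.mul_assoc, h.TT, Matrix.one_mul]
  have e2 : J0 * (P * Q + Q + Q * B) + J1 * (R * Q + 1 + B * B) + J2 * (R * Q + B + B) =
      J0 * (0 : Matrix (Fin 2) (Fin 2) F) + J1 * (1 : Matrix (Fin 2) (Fin 2) F) + J2 * (0 : Matrix (Fin 2) (Fin 2) F) := by
    have e3 : T * (T * J1) = J0 * (P * Q + Q + Q * B) + J1 * (R * Q + 1 + B * B) + J2 * (R * Q + B + B) := by
      conv_lhs => rw [t1]
      rw [Matrix.mul_add, Matrix.mul_add, ← Matrix.mul_assoc, ← Matrix.mul_assoc, ← Matrix.mul_assoc, t0, t1, t2]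
      simp only [Matrix.mul_one, Matrix.add_mul, Matrix.mul_add, Matrix.mul_assoc]
      abel
    rw [← e3, e1, Matrix.mul_zero, Matrix.mul_zero, Matrix.mul_one, zero_add, add_zero]
  obtain ⟨g0, g1, -⟩ := d.inj e2
  have hQB : Q * B = 0 := by rwa [hPQ, as, zero_add] at g0
  have hBB : B * B = 0 := by rwa [hRQ, zero_add, add_eq_left] at g1
  -- `t s t = s⁻¹`
  generalize K0 * S * J0 = C at *
  have TSJ : ∀ J J' : Matrix (Fin 6) (Fin 2) F, U * J = J' → T * (S * J) = S * (T * J') := by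
    intro J J' hJ
    rw [← hJ, ← Matrix.mul_assoc, h.TS]
    simp only [Matrix.mul_assoc]
  have w0 := TSJ _ _ u0
  have w1 := TSJ _ _ u1
  have W0 : J0 * (P * C + Q * C + Q * C) + J1 * (R * C + C + B * C) + J2 * (R * C + B * C + C) =
      J0 * (C * P + C * R + C * R) + J1 * (C * P + (ζ * ζ) • (C * R) + ζ • (C * R)) +
      J2 * (C * P + ζ • (C * R) + (ζ * ζ) • (C * R)) := by
    have a1 : T * (S * J0) = J0 * (P * C + Q * C + Q * C) + J1 * (R * C + C + B * C) + J2 * (R * C + B * C + C) := by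
      rw [s0, Matrix.mul_add, Matrix.mul_add, ← Matrix.mul_assoc, ← Matrix.mul_assoc, ← Matrix.mul_assoc, t0, t1, t2]
      simp only [Matrix.mul_one, Matrix.add_mul, Matrix.mul_add, Matrix.mul_assoc]
      abel
    have a2 : S * (T * J0) = J0 * (C * P + C * R + C * R) + J1 * (C * P + (ζ * ζ) • (C * R) + ζ • (C * R)) +
        J2 * (C * P + ζ • (C * R) + (ζ * ζ) • (C * R)) := by
      rw [t0, Matrix.mul_add, Matrix.mul_add, ← Matrix.mul_assoc, ← Matrix.mul_assoc, ← Matrix.mul_assoc, s0, s1, s2]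
      simp only [Matrix.add_mul, Matrix.mul_add, Matrix.mul_assoc, Matrix.smul_mul, Matrix.mul_smul]
      abel
    rw [← a1, ← a2, w0]
  have W1 : J0 * (P * C + (ζ * ζ) • (Q * C) + ζ • (Q * C)) + J1 * (R * C + (ζ * ζ) • C + ζ • (B * C)) +
      J2 * (R * C + (ζ * ζ) • (B * C) + ζ • C) =
      J0 * (C * Q + C * B + C) + J1 * (C * Q + (ζ * ζ) • (C * B) + ζ • C) + J2 * (C * Q + ζ • (C * B) + (ζ * ζ) • C) := by
    have a1 : T * (S * J1) = J0 * (P * C + (ζ * ζ) • (Q * C) + ζ • (Q * C)) + J1 * (R * C + (ζ * ζ) • C + ζ • (B * C)) +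
        J2 * (R * C + (ζ * ζ) • (B * C) + ζ • C) := by
      rw [s1, Matrix.mul_add, Matrix.mul_add, ← Matrix.mul_assoc, ← Matrix.mul_assoc, ← Matrix.mul_assoc, t0, t1, t2]
      simp only [Matrix.mul_one, Matrix.add_mul, Matrix.mul_add, Matrix.mul_assoc, Matrix.smul_mul, Matrix.mul_smul,
        smul_add]
      abel
    have a2 : S * (T * J2) = J0 * (C * Q + C * B + C) + J1 * (C * Q + (ζ * ζ) • (C * B) + ζ • C) +
        J2 * (C * Q + ζ • (C * B) + (ζ * ζ) • C) := by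
      rw [t2, Matrix.mul_add, Matrix.mul_add, ← Matrix.mul_assoc, ← Matrix.mul_assoc, ← Matrix.mul_assoc, s0, s1, s2]
      simp only [Matrix.mul_one, Matrix.add_mul, Matrix.mul_add, Matrix.mul_assoc, Matrix.smul_mul, Matrix.mul_smul]
      abel
    rw [← a1, ← a2, w1]
  obtain ⟨x0, x1, -⟩ := d.inj W0
  obtain ⟨y0, y1, y2⟩ := d.inj W1
  have lin1 : ∀ Z : Matrix (Fin 2) (Fin 2) F, (ζ * ζ) • Z + ζ • Z = Z := by
    intro Z
    rw [← add_smul, zz, one_smul]
  have lin2 : ∀ Z : Matrix (Fin 2) (Fin 2) F, ζ • Z + (ζ * ζ) • Z = Z := by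
    intro Z
    rw [add_comm, lin1]
  have hPC : P * C = C * P := by
    rwa [add_assoc, as, add_zero, add_assoc, as, add_zero] at x0
  have hBC : B * C = C * B := by
    have e4 : (R * C + (ζ * ζ) • C + ζ • (B * C)) + (R * C + (ζ * ζ) • (B * C) + ζ • C) =
        (C * Q + (ζ * ζ) • (C * B) + ζ • C) + (C * Q + ζ • (C * B) + (ζ * ζ) • C) := by rw [y1, y2]
    have e5 : (R * C + R * C) + ((ζ * ζ) • C + ζ • C) + (ζ • (B * C) + (ζ * ζ) • (B * C)) =
        (C * Q + C * Q) + ((ζ * ζ) • C + ζ • C) + (ζ • (C * B) + (ζ * ζ) • (C * B)) := by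
      calc _ = (R * C + (ζ * ζ) • C + ζ • (B * C)) + (R * C + (ζ * ζ) • (B * C) + ζ • C) := by abel
        _ = _ := by rw [e4]; abel
    rw [as, as, lin1, lin2, lin2, zero_add] at e5
    exact add_left_cancel e5
  have tr : ∀ {a b c : Matrix (Fin 2) (Fin 2) F}, a + b = c → a = c + b := by
    intro a b c hab
    rw [← hab, add_assoc, as, add_zero]
  have hRC : R * C + C * R = C * (1 + B + P) := by
    have e4 : R * C + (C + B * C) = C * P + C * R := by
      rw [← add_assoc, x1, add_assoc, lin1]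
    rw [mul_add, mul_add, mul_one, ← hBC, tr e4]
    calc C * P + C * R + (C + B * C) + C * R = (C * R + C * R) + (C + B * C + C * P) := by abel
      _ = C + B * C + C * P := by rw [as, zero_add]
  have hQC : Q * C + C * Q = C * (1 + B + P) := by
    have e4 : Q * C + P * C = C * Q + C * B + C := by
      rw [← y0, add_assoc, lin1, add_comm]
    rw [mul_add, mul_add, mul_one, tr e4, hPC]
    calc C * Q + C * B + C + C * P + C * Q = (C * Q + C * Q) + (C + C * B + C * P) := by abel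
      _ = C + C * B + C * P := by rw [as, zero_add]
  have hRCQ : R * C + C * Q = C + C * B := by
    have e4 : R * C + ((ζ * ζ) • C + ζ • (B * C)) = C * Q + (ζ * ζ) • (C * B) + ζ • C := by
      rw [← y1, add_assoc]
    rw [tr e4, hBC]
    calc C * Q + (ζ * ζ) • (C * B) + ζ • C + ((ζ * ζ) • C + ζ • (C * B)) + C * Q
        = (C * Q + C * Q) + ((ζ * ζ) • C + ζ • C) + ((ζ * ζ) • (C * B) + ζ • (C * B)) := by abel
      _ = C + C * B := by rw [as, lin1, lin1, zero_add]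
  obtain ⟨m, hm, ⟨p, hp⟩, ⟨q, hq⟩, ⟨r, hr⟩, ⟨b, hb⟩⟩ :=
    two_by_two h.h2 C2 hPC hBC hQC hRC hRCQ hPP hPQ hRP hRQ hBB hQB
  have app : ∀ a b c : Matrix (Fin 2) (Fin 2) F, (J0 * a + J1 * b + J2 * c) *ᵥ m =
      J0 *ᵥ (a *ᵥ m) + J1 *ᵥ (b *ᵥ m) + J2 *ᵥ (c *ᵥ m) := by
    intro a b c
    rw [Matrix.add_mulVec, Matrix.add_mulVec, Matrix.mulVec_mulVec, Matrix.mulVec_mulVec, Matrix.mulVec_mulVec]
  refine ⟨m, hm, ⟨p, r, r, ?_⟩, ⟨q, 1, b, ?_⟩, ⟨q, b, 1, ?_⟩⟩
  · rw [Matrix.mulVec_mulVec, t0, app, hp, hr, Matrix.mulVec_smul, Matrix.mulVec_smul, Matrix.mulVec_smul]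
  · rw [Matrix.mulVec_mulVec, t1, app, hq, hb, Matrix.one_mulVec, one_smul, Matrix.mulVec_smul, Matrix.mulVec_smul]
  · rw [Matrix.mulVec_mulVec, t2, app, hq, hb, Matrix.one_mulVec, one_smul, Matrix.mulVec_smul, Matrix.mulVec_smul]

/-- **The invariant subspace.** -/
theorem TwoRel.exists_sub (h : TwoRel X Y S T U z ζ) : ∃ W : Submodule F (Fin 6 → F), W ≠ ⊥ ∧ Module.finrank F W ≤ 3 ∧
    (∀ v ∈ W, X *ᵥ v ∈ W) ∧ (∀ v ∈ W, Y *ᵥ v ∈ W) ∧ (∀ v ∈ W, T *ᵥ v ∈ W) := by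
  obtain ⟨J0, J1, J2, K0, K1, K2, d⟩ := h.exists_dec
  obtain ⟨m, hm, ⟨a0, b0, c0, h0⟩, ⟨a1, b1, c1, h1⟩, ⟨a2, b2, c2, h2⟩⟩ := h.blocks d
  have hne : J0 *ᵥ m ≠ 0 := by
    intro h0
    apply hm
    have : K0 *ᵥ (J0 *ᵥ m) = m := by rw [Matrix.mulVec_mulVec, d.k00, Matrix.one_mulVec]
    rw [← this, h0, Matrix.mulVec_zero]
  have y0 : Y *ᵥ (J0 *ᵥ m) = J1 *ᵥ m := by rw [Matrix.mulVec_mulVec, ← d.j1]
  have y1 : Y *ᵥ (J1 *ᵥ m) = J2 *ᵥ m := by rw [Matrix.mulVec_mulVec, ← d.j2]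
  have y2 : Y *ᵥ (J2 *ᵥ m) = J0 *ᵥ m := by
    rw [← y1, ← y0, Matrix.mulVec_mulVec, Matrix.mulVec_mulVec, h.YY, Matrix.one_mulVec]
  have x0 : X *ᵥ (J0 *ᵥ m) = J0 *ᵥ m := by rw [Matrix.mulVec_mulVec, d.x0]
  have x1 : X *ᵥ (J1 *ᵥ m) = ζ • (J1 *ᵥ m) := by rw [Matrix.mulVec_mulVec, d.x1, Matrix.smul_mulVec]
  have x2 : X *ᵥ (J2 *ᵥ m) = (ζ * ζ) • (J2 *ᵥ m) := by rw [Matrix.mulVec_mulVec, d.x2, Matrix.smul_mulVec]
  obtain ⟨W, hW⟩ : ∃ W : Submodule F (Fin 6 → F), W = Submodule.span F (Set.range ![J0 *ᵥ m, J1 *ᵥ m, J2 *ᵥ m]) := ⟨_, rfl⟩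
  have w0 : J0 *ᵥ m ∈ W := by rw [hW]; exact Submodule.subset_span ⟨0, rfl⟩
  have w1 : J1 *ᵥ m ∈ W := by rw [hW]; exact Submodule.subset_span ⟨1, rfl⟩
  have w2 : J2 *ᵥ m ∈ W := by rw [hW]; exact Submodule.subset_span ⟨2, rfl⟩
  have pres : ∀ M : M6 F, M *ᵥ (J0 *ᵥ m) ∈ W → M *ᵥ (J1 *ᵥ m) ∈ W → M *ᵥ (J2 *ᵥ m) ∈ W → ∀ z ∈ W, M *ᵥ z ∈ W := by
    intro M m0 m1 m2 z hz
    rw [hW] at hz
    induction hz using Submodule.span_induction with
    | mem z hz =>
      obtain ⟨i, rfl⟩ := hz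
      fin_cases i
      · exact m0
      · exact m1
      · exact m2
    | zero => rw [Matrix.mulVec_zero]; exact W.zero_mem
    | add a b _ _ ha hb => rw [Matrix.mulVec_add]; exact W.add_mem ha hb
    | smul k a _ ha => rw [Matrix.mulVec_smul]; exact W.smul_mem k ha
  have comb : ∀ a b c : F, a • (J0 *ᵥ m) + b • (J1 *ᵥ m) + c • (J2 *ᵥ m) ∈ W := fun a b c =>
    W.add_mem (W.add_mem (W.smul_mem _ w0) (W.smul_mem _ w1)) (W.smul_mem _ w2)
  refine ⟨W, fun h0 => hne (by rw [h0] at w0; exact (Submodule.mem_bot F).1 w0), ?_, pres X ?_ ?_ ?_, pres Y ?_ ?_ ?_,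
    pres T ?_ ?_ ?_⟩
  · rw [hW]
    have := finrank_range_le_card (R := F) ![J0 *ᵥ m, J1 *ᵥ m, J2 *ᵥ m]
    rw [Fintype.card_fin] at this
    exact this
  · rw [x0]; exact w0
  · rw [x1]; exact W.smul_mem _ w1
  · rw [x2]; exact W.smul_mem _ w2
  · rw [y0]; exact w1
  · rw [y1]; exact w2
  · rw [y2]; exact w0
  · rw [h0]; exact comb _ _ _
  · rw [h1]; exact comb _ _ _
  · rw [h2]; exact comb _ _ _

end blocks

section final

variable {G : Type*} [Group G] {m : G →* M6 F} {φ : G →* Perm (Fin 6)}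

/-- uniqueness of the lift inverted by an involution -/
theorem Hex.uniq3 (h : Hex m φ) {g g' u : G} (h1 : φ g = φ g') (hu : u * u = 1) (hg : u * g * u = g⁻¹)
    (hg' : u * g' * u = g'⁻¹) : g = g' := by
  have hk : φ (g⁻¹ * g') = 1 := by rw [map_mul, map_inv, h1, inv_mul_cancel]
  have hc := fun s => h.central hk s
  have h3 := h.cube hk
  have e : g' = g * (g⁻¹ * g') := by group
  generalize g⁻¹ * g' = k at *
  have h4 : k * k = 1 := by
    have e1 : u * (g * k) * u = (u * g * u) * k := by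
      calc u * (g * k) * u = u * g * (k * u) := by group
        _ = (u * g * u) * k := by rw [hc]; group
    rw [e, e1, hg, _root_.mul_inv_rev, ← hc, mul_left_inj] at hg'
    nth_rewrite 1 [hg']
    exact inv_mul_cancel k
  rw [h4, one_mul] at h3
  rw [e, h3, mul_one]

theorem Hex.scalar (h : Hex m φ) {k : G} (hk : φ k = 1) : ∃ c : F, c * c * c = 1 ∧ m k = c • (1 : M6 F) ∧
    ∀ g, m (k * g) = c • m g := by
  obtain ⟨c, hc, hm⟩ := h.ker k hk
  exact ⟨c, by rw [← hc]; ring, hm, fun g => by rw [map_mul, hm, smul_mul_assoc, one_mul]⟩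

/-- **`3.A₆` is not irreducible in dimension six in characteristic two.** -/
theorem Hex.false_of_two (h2 : (2 : F) = 0) (h : Hex m φ)
    (hirr : ∀ W : Submodule F (Fin 6 → F), (∀ g, ∀ v ∈ W, m g *ᵥ v ∈ W) → W = ⊥ ∨ W = ⊤) : False := by
  obtain ⟨t1, t2, u, r, x, a, b, d⟩ := h.exists_data
  obtain ⟨y, hy, uy⟩ := h.exists_three (s := c[3, 4, 5]) (u := u) (by decide) (by rw [d.hu]; decide)
  have qy := h.cube_three (x := y) (by rw [hy]; decide) d.qu uy
  have iy : y⁻¹ = y * y := by rw [inv_eq_iff_mul_eq_one, ← mul_assoc]; exact qy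
  obtain ⟨g, hg⟩ := h.onto (c[0, 4, 1, 5] * c[2, 3]) (by decide)
  obtain ⟨s, hs, ss⟩ : ∃ s, φ s = c[0, 4, 1, 5] * c[2, 3] ∧ s * s = u := by
    have hk : φ (u⁻¹ * (g * g)) = 1 := by rw [map_mul, map_inv, map_mul, hg, d.hu]; decide
    have hc := fun s => h.central hk s
    have h3 := h.cube hk
    have e : g * g = u * (u⁻¹ * (g * g)) := by group
    refine ⟨g * (u⁻¹ * (g * g)), by rw [map_mul, hk, mul_one, hg], ?_⟩
    generalize u⁻¹ * (g * g) = k at *
    calc g * k * (g * k) = g * (k * g) * k := by group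
      _ = g * g * (k * k) := by rw [hc]; group
      _ = u * (k * k * k) := by rw [e]; group
      _ = u := by rw [h3, mul_one]
  have su : s * u = u * s := by rw [← ss]; group
  have iu : u⁻¹ = u := inv_eq_of_mul_eq_one_left d.qu
  have it : t1⁻¹ = t1 := inv_eq_of_mul_eq_one_left d.qt1
  have ix := d.inv_x
  -- `s x = y s`
  have sx : s * x * s⁻¹ = y := by
    refine h.uniq3 (u := u) (by rw [map_mul, map_mul, map_inv, hs, d.hx, hy]; decide) d.qu ?_ uy
    calc u * (s * x * s⁻¹) * u = (u * s) * x * (u⁻¹ * s)⁻¹ := by group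
      _ = (s * u) * x * (s * u)⁻¹ := by rw [iu, su]
      _ = s * (u * x * u⁻¹) * s⁻¹ := by group
      _ = (s * x * s⁻¹)⁻¹ := by rw [iu, d.ux]; group
  have sy : s * y * s⁻¹ = x * x := by
    refine h.uniq3 (u := u) (by rw [map_mul, map_mul, map_inv, map_mul, hs, d.hx, hy]; decide) d.qu ?_ ?_
    · calc u * (s * y * s⁻¹) * u = (u * s) * y * (u⁻¹ * s)⁻¹ := by group
        _ = (s * u) * y * (s * u)⁻¹ := by rw [iu, su]
        _ = s * (u * y * u⁻¹) * s⁻¹ := by group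
        _ = (s * y * s⁻¹)⁻¹ := by rw [iu, uy]; group
    · calc u * (x * x) * u = (u * x * u⁻¹) * (u * x * u) := by group
        _ = (x * x)⁻¹ := by rw [iu, d.ux]; group
  have tu : t1 * u = u * t1 := h.comm (by rw [d.ht1, d.hu]; decide) d.qu
  have ts : t1 * s = s * t1 * u := by
    have hk : φ ((t1 * s * t1) * (s * u)⁻¹) = 1 := by
      rw [map_mul, map_mul, map_mul, map_inv, map_mul, d.ht1, hs, d.hu]; decide
    have hc := fun s => h.central hk s
    have h3 := h.cube hk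
    have e : t1 * s * t1 = ((t1 * s * t1) * (s * u)⁻¹) * (s * u) := by group
    generalize (t1 * s * t1) * (s * u)⁻¹ = k at *
    have e1 : (t1 * s * t1) * (t1 * s * t1) = u := by
      calc (t1 * s * t1) * (t1 * s * t1) = t1 * s * (t1 * t1) * s * t1 := by group
        _ = t1 * (s * s) * t1 := by rw [d.qt1]; group
        _ = u := by rw [ss, tu, mul_assoc, d.qt1, mul_one]
    have e2 : (k * (s * u)) * (k * (s * u)) = k * k * u := by
      calc (k * (s * u)) * (k * (s * u)) = k * ((s * u) * k) * (s * u) := by group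
        _ = k * k * (s * u * (s * u)) := by rw [← hc]; group
        _ = k * k * u := by
          rw [su]
          calc k * k * (u * s * (u * s)) = k * k * (u * (s * u) * s) := by group
            _ = k * k * ((u * u) * (s * s)) := by rw [su]; group
            _ = k * k * u := by rw [d.qu, one_mul, ss]
    rw [e, e2] at e1
    have e3 : k * k = 1 := by rwa [mul_eq_right] at e1
    rw [e3, one_mul] at h3
    rw [h3, one_mul] at e
    calc t1 * s = t1 * s * (t1 * t1) := by rw [d.qt1, mul_one]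
      _ = (t1 * s * t1) * t1 := by group
      _ = s * (u * t1) := by rw [e]; group
      _ = s * t1 * u := by rw [← tu]; group
  -- the scalars
  have hk1 : φ (x * y * (y * x)⁻¹) = 1 := by rw [map_mul, map_inv, map_mul, map_mul, d.hx, hy]; decide
  obtain ⟨ζ, hζ3, hζm, hζ⟩ := h.scalar hk1
  have hζ1 : ζ ≠ 1 := by
    rintro rfl
    apply h.nc' d.hx hy
    have : x * y * (y * x)⁻¹ = 1 := h.inj (by rw [hζm, one_smul, map_one])
    rwa [mul_inv_eq_one] at this
  have hk2 : φ (t1 * x * t1 * x * t1 * x) = 1 := by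
    simp only [map_mul, d.hx, d.ht1]; decide
  obtain ⟨z, hz3, hzm, hz⟩ := h.scalar hk2
  have hc2 := fun s => h.central hk2 s
  have h32 := h.cube hk2
  have txt : t1 * x * t1 = (t1 * x * t1 * x * t1 * x) * (x * x * t1 * (x * x)) := by
    rw [← ix]
    calc t1 * x * t1 = t1 * x * t1 * x * (t1 * t1) * x⁻¹ := by rw [d.qt1]; group
      _ = (t1 * x * t1 * x * t1 * x) * (x⁻¹ * t1 * x⁻¹) := by group
  have key2 : ∀ k : G, t1 * x * t1 = k * (x * x * t1 * (x * x)) → (∀ s, k * s = s * k) → k * k * k = 1 →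
      t1 * (x * x) * t1 = (k * k) * (x * t1 * x) := by
    intro k hk hck hk3
    have e1 : t1 * (x * x) * t1 = (t1 * x * t1)⁻¹ := by
      rw [← ix, _root_.mul_inv_rev, _root_.mul_inv_rev, it]; group
    have e2 : (x * x * t1 * (x * x))⁻¹ = x * t1 * x := by
      rw [← ix]
      calc (x⁻¹ * t1 * x⁻¹)⁻¹ = x * t1⁻¹ * x := by group
        _ = x * t1 * x := by rw [it]
    have e3 : k⁻¹ = k * k := by rw [inv_eq_iff_mul_eq_one, ← mul_assoc]; exact hk3
    have c1 := hck (x * t1 * x)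
    rw [e1, hk, _root_.mul_inv_rev, e2, e3]
    calc x * t1 * x * (k * k) = (x * t1 * x) * k * k := by rw [mul_assoc (x * t1 * x)]
      _ = k * (x * t1 * x) * k := by rw [c1]
      _ = k * ((x * t1 * x) * k) := by rw [mul_assoc]
      _ = k * (k * (x * t1 * x)) := by rw [c1]
      _ = k * k * (x * t1 * x) := by rw [mul_assoc k k]
  have txxt := key2 _ txt hc2 h32
  have R : TwoRel (m x) (m y) (m s) (m t1) (m u) z ζ := by
    refine ⟨h2, ?_, hz3, ?_, ?_, ?_, ?_, ?_, ?_, ?_, ?_, ?_, ?_, ?_, ?_⟩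
    · have : (ζ - 1) * (ζ * ζ + ζ + 1) = 0 := by linear_combination hζ3
      exact (mul_eq_zero.1 this).resolve_left (sub_ne_zero.2 hζ1)
    · rw [← map_mul, ← map_mul, d.qx, map_one]
    · rw [← map_mul, ← map_mul, qy, map_one]
    · rw [← map_mul, ← map_mul, ← hζ]; congr 1; group
    · rw [← map_mul, ← map_mul, ← sx]; congr 1; group
    · rw [← map_mul, ← map_mul, ← map_mul, ← sy]; congr 1; group
    · rw [← map_mul, ss]
    · rw [← map_mul, d.qu, map_one]
    · rw [← map_mul, d.qt1, map_one]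
    · rw [← map_mul, tu, map_mul]
    · rw [← map_mul, ts, map_mul, map_mul]
    · rw [← map_mul, ← map_mul, ← map_mul, ← map_mul, ← map_mul, ← hz, ← txt]
    · rw [← map_mul, ← map_mul, ← map_mul, ← map_mul, ← map_mul, txxt, mul_assoc (t1 * x * t1 * x * t1 * x), hz, hz,
        smul_smul]
  obtain ⟨W, hW, hfin, wx, wy, wt⟩ := R.exists_sub
  have mulW : ∀ {g g' : G}, (∀ v ∈ W, m g *ᵥ v ∈ W) → (∀ v ∈ W, m g' *ᵥ v ∈ W) → ∀ v ∈ W, m (g * g') *ᵥ v ∈ W :=
    fun hg hg' v hv => by rw [map_mul, ← Matrix.mulVec_mulVec]; exact hg _ (hg' _ hv)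
  have kerW : ∀ k, φ k = 1 → ∀ v ∈ W, m k *ᵥ v ∈ W := fun k hk v hv => by
    obtain ⟨c', -, hc'⟩ := h.ker k hk
    rw [hc', Matrix.smul_mulVec, Matrix.one_mulVec]
    exact W.smul_mem _ hv
  have modk : ∀ {g g' : G}, φ g = φ g' → (∀ v ∈ W, m g' *ᵥ v ∈ W) → ∀ v ∈ W, m g *ᵥ v ∈ W := by
    intro g g' hgg hg'
    have e : g = g' * (g'⁻¹ * g) := by group
    rw [e]
    exact mulW hg' (kerW _ (by rw [map_mul, map_inv, hgg, inv_mul_cancel]))
  have key := d.induct h (Q := fun g => ∀ v ∈ W, m g *ᵥ v ∈ W) kerW (fun g g' hg hg' => mulW hg hg') wt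
    (modk (g' := x * x * t1 * x) (by simp only [map_mul, d.ht2, d.hx, d.ht1]; decide)
      (mulW (mulW (mulW wx wx) wt) wx))
    (modk (g' := y * t1 * y * y * t1 * y * t1) (by simp only [map_mul, d.hu, hy, d.ht1]; decide)
      (mulW (mulW (mulW (mulW (mulW (mulW wy wt) wy) wy) wt) wy) wt))
    (modk (g' := t1 * y * t1 * y) (by simp only [map_mul, d.hr, hy, d.ht1]; decide)
      (mulW (mulW (mulW wt wy) wt) wy)) wx
  rcases hirr W key with h0 | h0
  · exact hW h0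
  · rw [h0, finrank_top, Module.finrank_fintype_fun_eq_card, Fintype.card_fin] at hfin
    omega

end final

end Cfsg.Agent.H910.Six
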