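import Cfsg.Agent.H910.Six.A6Three
import Cfsg.Agent.H910.Six.Two
import Cfsg.Agent.H937.T2Rep

/-!
# Cores with socle `A₆` in dimension six (helper910)

* `a6_three_or_six`: a core with socle `A₆` in dimension six that is not self-dual has `p ≥ 5` and centre of order `3` or `6`.
-/

set_option autoImplicit false
set_option linter.unusedSectionVars false

open Matrix Equiv Cfsg Cfsg.Geo Cfsg.Agent.H915.LD

namespace Cfsg.Agent.H910.Six

universe u

variable {F : Type u} [Field F] [Finite F] {P : Subgroup (GL (Fin 6) F)}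

/-- the centre of a core has order dividing the dimension -/
theorem card_scalars_dvd_card {ι : Type} [Fintype ι] [DecidableEq ι] {P : Subgroup (GL ι F)} (hC : Core P) :
    Nat.card ((scalars ι F).subgroupOf P) ∣ Fintype.card ι := by
  have h1 : IsCyclic (scalars ι F) := by
    have : Function.Surjective (Units.map (Matrix.scalar ι : F →+* Matrix ι ι F).toMonoidHom).rangeRestrict :=
      MonoidHom.rangeRestrict_surjective _
    exact isCyclic_of_surjective _ this
  let f : (scalars ι F).subgroupOf P →* scalars ι F :=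
    { toFun := fun z => ⟨((z : P) : GL ι F), Subgroup.mem_subgroupOf.1 z.2⟩
      map_one' := rfl
      map_mul' := fun _ _ => rfl }
  have hf : Function.Injective f := by
    intro a b hab
    have := congrArg (fun z : scalars ι F => (z : GL ι F)) hab
    exact Subtype.ext (Subtype.ext this)
  have h2 : IsCyclic ((scalars ι F).subgroupOf P) := isCyclic_of_injective f hf
  rw [← IsCyclic.exponent_eq_card]
  apply Monoid.exponent_dvd_of_forall_pow_eq_one
  intro z
  exact Subtype.ext (hC.pow_card z.2)

theorem a6_three_or_six (hC : Core P) (e : Soc P ≃* alternatingGroup (Fin 6)) (hsd : ¬ SD P) (p : ℕ) [hp : Fact p.Prime]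
    [CharP F p] : 5 ≤ p ∧ (Nat.card ((scalars (Fin 6) F).subgroupOf P) = 3 ∨
      Nat.card ((scalars (Fin 6) F).subgroupOf P) = 6) := by
  have h1 := card_scalars_dvd_card hC
  rw [Fintype.card_fin] at h1
  have h2 : 3 ∣ Nat.card ((scalars (Fin 6) F).subgroupOf P) := by
    by_contra h3
    exact hsd (H937.T2.a6_sd hC e h3)
  have h3 := H875.DefCov.card_scalars_coprime (P := P) p
  have h4 : Nat.card ((scalars (Fin 6) F).subgroupOf P) = 3 ∨ Nat.card ((scalars (Fin 6) F).subgroupOf P) = 6 := by
    have h5 := Nat.le_of_dvd (by norm_num) h1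
    generalize Nat.card ((scalars (Fin 6) F).subgroupOf P) = n at *
    interval_cases n <;> omega
  refine ⟨?_, h4⟩
  have hp2 := hp.out.two_le
  by_contra hlt
  have hp3 : p = 2 ∨ p = 3 := by
    have : p ≠ 4 := by rintro rfl; exact absurd hp.out (by norm_num)
    omega
  rcases hp3 with rfl | rfl
  · rcases h4 with h4 | h4
    · have hx := hex_of_core hC e h4
      exact hx.false_of_two (CharP.cast_eq_zero F 2) (core_irr hC)
    · rw [h4] at h3
      exact absurd h3 (by decide)
  · rcases h4 with h4 | h4
    · rw [h4] at h3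
      exact absurd h3 (by decide)
    · rw [h4] at h3
      exact absurd h3 (by decide)

/-- **Linear case**: what is left is `6.A₆`. -/
theorem sl6_a6_six {H : Subgroup (GL (Fin 6) F)} (hmax : IsMaximalIn (specialLinear (Fin 6) F) H)
    (hres : IsResidualCore H P) (e : Soc P ≃* alternatingGroup (Fin 6)) (hsd : ¬ SD P) (p : ℕ) [hp : Fact p.Prime]
    [CharP F p] : 5 ≤ p ∧ Nat.card ((scalars (Fin 6) F).subgroupOf P) = 6 := by
  obtain ⟨h1, h2 | h2⟩ := a6_three_or_six (core_of_residual hres) e hsd p
  · exact (no_a6_three_sl6 h1 hp.out hmax hres e h2).elim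
  · exact ⟨h1, h2⟩

/-- **Unitary case**: what is left is `6.A₆`. -/
theorem su6_a6_six {F : Type u} [Field F] [Fintype F] {q : ℕ} (hF : Fintype.card F = q ^ 2) {H P : Subgroup (GL (Fin 6) F)}
    (hmax : IsMaximalIn (GU 6 F q ⊓ specialLinear (Fin 6) F) H) (hres : IsResidualCore H P)
    (e : Soc P ≃* alternatingGroup (Fin 6)) (hsd : ¬ SD P) (p : ℕ) [hp : Fact p.Prime] [CharP F p] :
    5 ≤ p ∧ Nat.card ((scalars (Fin 6) F).subgroupOf P) = 6 := by
  obtain ⟨h1, h2 | h2⟩ := a6_three_or_six (core_of_residual hres) e hsd p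
  · exact (no_a6_three_su6 hF h1 hp.out hmax hres e h2).elim
  · exact ⟨h1, h2⟩

end Cfsg.Agent.H910.Six
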