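import Cfsg.Agent.H910.Six.Main3
import Cfsg.Agent.ClassicalGeometry.HermParabolic

/-!
# `3.A₆` is not maximal in `SL₆(q)`, `SU₆(q)` (helper910)
-/

set_option autoImplicit false
set_option linter.unusedSectionVars false

open Matrix Equiv Cfsg Cfsg.Geo Cfsg.Agent.H915.LD Cfsg.Agent.H910.Aut Cfsg.Agent.LFourA.AltPsiAut
open Cfsg.Agent.ClassicalGeometry.HermParabolic

namespace Cfsg.Agent.H910.Six

universe u

variable {F : Type u} [Field F]

section common

variable {P : Subgroup (GL (Fin 6) F)} {e : Soc P ≃* alternatingGroup (Fin 6)}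

theorem core_irr (hC : Core P) (W : Submodule F (Fin 6 → F)) (h : ∀ g, ∀ v ∈ W, mrep P g *ᵥ v ∈ W) : W = ⊥ ∨ W = ⊤ := by
  apply hC.absIrred.1 W
  rintro _ ⟨g, hg, rfl⟩
  rintro _ ⟨v, hv, rfl⟩
  rw [Matrix.toLin'_apply]
  exact h ⟨g, hg⟩ v hv

theorem core_cent (hC : Core P) (X : M6 F) (h : ∀ g, mrep P g * X = X * mrep P g) : ∃ c : F, X = c • (1 : M6 F) := by
  apply hC.absIrred.2 X
  rintro _ ⟨g, hg, rfl⟩
  exact (h ⟨g, hg⟩).symm

/-- the explicit form of a core of type `3.A₆` -/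
theorem explicit_of_core (hC : Core P) {p : ℕ} [CharP F p] (hp : 5 ≤ p) (e : Soc P ≃* alternatingGroup (Fin 6))
    (h3 : Nat.card ((scalars (Fin 6) F).subgroupOf P) = 3) :
    Hex (mrep P) (phi e) ∧ ∃ (t1 t2 u r x a b : P) (B : GL (Fin 6) F) (w : F),
      Data (mrep P) (phi e) t1 t2 u r x a b ∧ Explicit B w (mrep P) t1 t2 u r x := by
  have h := hex_of_core hC e h3
  obtain ⟨t1, t2, u, r, x, a, b, d⟩ := h.exists_data
  obtain ⟨B, w, ex⟩ := normal_form hp h d (h.trace_two hp (core_irr hC) (core_cent hC))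
  exact ⟨h, t1, t2, u, r, x, a, b, B, w, d, ex⟩

theorem det_diag {B D : GL (Fin 6) F}
    (hD : (D : M6 F) * (B : M6 F) = (B : M6 F) * Matrix.diagonal ![-1, 1, 1, 1, 1, -1]) : D ∈ specialLinear (Fin 6) F := by
  have h1 := congrArg Matrix.det hD
  rw [Matrix.det_mul, Matrix.det_mul, Matrix.det_diagonal] at h1
  have h2 : (∏ i, (![-1, 1, 1, 1, 1, -1] : Fin 6 → F) i) = 1 := by simp [Fin.prod_univ_six]
  rw [h2, mul_comm] at h1
  have h3 : (B : M6 F).det ≠ 0 := by
    have := (Matrix.GeneralLinearGroup.det B).ne_zero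
    rwa [Matrix.GeneralLinearGroup.val_det_apply] at this
  have h4 := mul_left_cancel₀ h3 h1
  change Matrix.GeneralLinearGroup.det D = 1
  apply Units.ext
  rw [Matrix.GeneralLinearGroup.val_det_apply, h4, Units.val_one]

theorem det_conj' (hC : Core P) (y : GL (Fin 6) F) (t : P) : y * (t : GL (Fin 6) F) * y⁻¹ ∈ specialLinear (Fin 6) F := by
  change Matrix.GeneralLinearGroup.det (y * (t : GL (Fin 6) F) * y⁻¹) = 1
  rw [map_mul, map_mul, map_inv, hC.det t.2, mul_one, mul_inv_cancel]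

end common

/-- **Linear case, `|Z| = 3`.** -/
theorem no_a6_three_sl6 [Finite F] {p : ℕ} [CharP F p] (hp : 5 ≤ p) (hp' : p.Prime) {H P : Subgroup (GL (Fin 6) F)}
    (hmax : IsMaximalIn (specialLinear (Fin 6) F) H) (hres : IsResidualCore H P)
    (e : Soc P ≃* alternatingGroup (Fin 6)) (h3 : Nat.card ((scalars (Fin 6) F).subgroupOf P) = 3) : False := by
  have hC := core_of_residual hres
  obtain ⟨h, t1, t2, u, r, x, a, b, B, w, d, ex⟩ := explicit_of_core hC hp e h3
  exact not_maximal hp hp' hmax hres h d ex (fun D hD => det_diag hD) (fun y _ => det_conj' hC y t1)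

section unitary

variable [Fintype F] {q : ℕ} (hF : Fintype.card F = q ^ 2)

/-- the automorphism `x ↦ x^q` -/
abbrev tau (hF : Fintype.card F = q ^ 2) : F ≃+* F := Cfsg.Agent.LieClassical.HermBasic.conj hF

theorem tau_apply (x : F) : tau hF x = x ^ q := rfl

theorem tau_tau (M : M6 F) : (M.map (tau hF)).map (tau hF) = M := map_conj_conj hF M

theorem mono_unitary {σ : Perm (Fin 6)} {dd : Fin 6 → F} (h : ∀ j, dd j * tau hF (dd j) = 1) :
    (mono σ dd)ᵀ * (mono σ dd).map (tau hF) = 1 := by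
  ext i j
  rw [Matrix.mul_apply, Finset.sum_eq_single (σ i)]
  · rw [Matrix.transpose_apply, Matrix.map_apply, mono_apply, mono_apply, if_pos rfl, Matrix.one_apply]
    by_cases hij : i = j
    · subst hij
      rw [if_pos rfl, if_pos rfl, h]
    · rw [if_neg (fun h' => hij (σ.injective h')), if_neg hij, map_zero, mul_zero]
  · intro k _ hk
    rw [Matrix.transpose_apply, mono_apply, if_neg hk, zero_mul]
  · intro h; exact absurd (Finset.mem_univ _) h

variable {P : Subgroup (GL (Fin 6) F)} {e : Soc P ≃* alternatingGroup (Fin 6)} {t1 t2 u r x a b : P} {w : F}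
  {B : GL (Fin 6) F}

/-- the centre is unitary -/
theorem w_norm (h : Hex (mrep P) (phi e)) (hPU : P ≤ GU 6 F q) (hw : w * w + w + 1 = 0) : w * tau hF w = 1 := by
  obtain ⟨X, Y, hX, hY, hne⟩ := h.nc
  have hz : phi e (X * Y * X⁻¹ * Y⁻¹) = 1 := by
    rw [map_mul, map_mul, map_mul, map_inv, map_inv, hX, hY]; decide
  obtain ⟨c, hc, hc0, -, h1⟩ := h.smul_of_ker hz
  obtain ⟨c', hc', hm⟩ := h.ker _ hz
  have hcc : c' ≠ 1 := by
    rintro rfl
    apply hne
    have : X * Y * X⁻¹ * Y⁻¹ = 1 := h.inj (by rw [hm, one_smul, map_one])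
    calc X * Y = (X * Y * X⁻¹ * Y⁻¹) * (Y * X) := by group
      _ = Y * X := by rw [this, one_mul]
  have hU := (mem_GU_iff_matrix hF _).1 (hPU (X * Y * X⁻¹ * Y⁻¹ : P).2)
  rw [← mrep_apply, hm] at hU
  have e1 := congrFun (congrFun hU 0) 0
  rw [Matrix.mul_apply, Finset.sum_eq_single (0 : Fin 6)] at e1
  · rw [Matrix.transpose_apply, Matrix.map_apply, Matrix.smul_apply, Matrix.one_apply_eq, smul_eq_mul, mul_one] at e1
    have e2 : c' * c' + c' + 1 = 0 := by
      have : (c' - 1) * (c' * c' + c' + 1) = 0 := by linear_combination hc'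
      exact (mul_eq_zero.1 this).resolve_left (sub_ne_zero.2 hcc)
    have e3 : (c' - w) * (c' - w * w) = 0 := by
      have w3 : w * w * w = 1 := by linear_combination (w - 1) * hw
      linear_combination e2 - c' * hw + w3
    have w3 : w * w * w = 1 := by linear_combination (w - 1) * hw
    rcases mul_eq_zero.1 e3 with e4 | e4
    · rw [← sub_eq_zero.1 e4]; exact e1
    · rw [sub_eq_zero.1 e4, map_mul] at e1
      have e5 : tau hF w * tau hF w * tau hF w = 1 := by rw [← map_mul, ← map_mul, w3, map_one]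
      have e6 : (w * tau hF w) * (w * tau hF w) = 1 := by linear_combination e1
      have e7 : (w * tau hF w) * (w * tau hF w) * (w * tau hF w) = 1 := by
        linear_combination (tau hF w * tau hF w * tau hF w) * w3 + e5
      rw [e6, one_mul] at e7
      exact e7
  · intro i _ hi
    rw [Matrix.map_apply, Matrix.smul_apply, Matrix.one_apply_ne hi, smul_zero, map_zero, mul_zero]
  · intro h; exact absurd (Finset.mem_univ _) h

/-- the Gram matrix of the basis is scalar -/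
theorem gram (hC : Core P) (h : Hex (mrep P) (phi e)) (d : Data (mrep P) (phi e) t1 t2 u r x a b)
    (ex : Explicit B w (mrep P) t1 t2 u r x) (hPU : P ≤ GU 6 F q) :
    ∃ l : F, (B : M6 F)ᵀ * (B : M6 F).map (tau hF) = l • (1 : M6 F) := by
  have hw := ex.hw
  have wn := w_norm hF h hPU hw
  have w3 : w * w * w = 1 := by linear_combination (w - 1) * hw
  have wn2 : (w * w) * tau hF (w * w) = 1 := by
    rw [map_mul]; linear_combination (w * tau hF w + 1) * wn
  obtain ⟨J, hJ⟩ : ∃ J : M6 F, J = (B : M6 F)ᵀ * (B : M6 F).map (tau hF) := ⟨_, rfl⟩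
  have key : ∀ (g : P) (M : M6 F), mrep P g * (B : M6 F) = (B : M6 F) * M → Mᵀ * M.map (tau hF) = 1 →
      mrep P g * ((B : M6 F) * J.map (tau hF) * ((B⁻¹ : GL (Fin 6) F) : M6 F)) =
        ((B : M6 F) * J.map (tau hF) * ((B⁻¹ : GL (Fin 6) F) : M6 F)) * mrep P g := by
    intro g M hg hM
    have hU := (mem_GU_iff_matrix hF _).1 (hPU g.2)
    rw [← mrep_apply] at hU
    have e1 : Mᵀ * J * M.map (tau hF) = J := by
      calc Mᵀ * J * M.map (tau hF) = ((B : M6 F) * M)ᵀ * ((B : M6 F) * M).map (tau hF) := by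
            rw [hJ, Matrix.transpose_mul, Matrix.map_mul]; simp only [mul_assoc]
        _ = (B : M6 F)ᵀ * ((mrep P g)ᵀ * (mrep P g).map (tau hF)) * (B : M6 F).map (tau hF) := by
            rw [← hg, Matrix.transpose_mul, Matrix.map_mul]; simp only [mul_assoc]
        _ = J := by rw [hU, mul_one, hJ]
    have hM' : M.map (tau hF) * Mᵀ = 1 := mul_eq_one_comm.1 hM
    have e2 : J * M.map (tau hF) = M.map (tau hF) * J := by
      calc J * M.map (tau hF) = (M.map (tau hF) * Mᵀ) * (J * M.map (tau hF)) := by rw [hM', one_mul]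
        _ = M.map (tau hF) * (Mᵀ * J * M.map (tau hF)) := by simp only [mul_assoc]
        _ = M.map (tau hF) * J := by rw [e1]
    have e3 : J.map (tau hF) * M = M * J.map (tau hF) := by
      have := congrArg (fun Z : M6 F => Z.map (tau hF)) e2
      simp only [Matrix.map_mul, tau_tau] at this
      exact this
    have hg' : M * ((B⁻¹ : GL (Fin 6) F) : M6 F) = ((B⁻¹ : GL (Fin 6) F) : M6 F) * mrep P g := by
      calc M * ((B⁻¹ : GL (Fin 6) F) : M6 F) = ((B⁻¹ : GL (Fin 6) F) : M6 F) * ((B : M6 F) * M) *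
            ((B⁻¹ : GL (Fin 6) F) : M6 F) := by rw [← mul_assoc, Units.inv_mul, one_mul]
        _ = ((B⁻¹ : GL (Fin 6) F) : M6 F) * mrep P g := by
            rw [← hg, mul_assoc, mul_assoc, Units.mul_inv, mul_one]
    calc mrep P g * ((B : M6 F) * J.map (tau hF) * ((B⁻¹ : GL (Fin 6) F) : M6 F))
        = (mrep P g * (B : M6 F)) * J.map (tau hF) * ((B⁻¹ : GL (Fin 6) F) : M6 F) := by simp only [mul_assoc]
      _ = (B : M6 F) * (M * J.map (tau hF)) * ((B⁻¹ : GL (Fin 6) F) : M6 F) := by rw [hg]; simp only [mul_assoc]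
      _ = (B : M6 F) * J.map (tau hF) * (M * ((B⁻¹ : GL (Fin 6) F) : M6 F)) := by rw [← e3]; simp only [mul_assoc]
      _ = _ := by rw [hg']; simp only [mul_assoc]
  have one : (1 : F) * tau hF 1 = 1 := by rw [map_one, mul_one]
  obtain ⟨l, hl⟩ := core_cent hC _ (d.induct h (Q := fun g => mrep P g * ((B : M6 F) * J.map (tau hF) *
      ((B⁻¹ : GL (Fin 6) F) : M6 F)) = ((B : M6 F) * J.map (tau hF) * ((B⁻¹ : GL (Fin 6) F) : M6 F)) * mrep P g)
    (fun k hk => by
      obtain ⟨z, -, hz⟩ := h.ker k hk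
      rw [hz, smul_mul_assoc, mul_smul_comm, one_mul, mul_one]) (fun g g' hg hg' => by
      rw [map_mul, mul_assoc, hg', ← mul_assoc, hg, mul_assoc])
    (key _ _ ex.e1 (mono_unitary hF fun _ => one)) (key _ _ ex.e2 (mono_unitary hF fun _ => one))
    (key _ _ ex.eu (mono_unitary hF fun _ => one)) (key _ _ ex.er (mono_unitary hF fun _ => one))
    (key _ _ ex.ex (mono_unitary hF fun j => by
      fin_cases j
      · exact one
      · exact one
      · exact one
      · exact one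
      · exact wn2
      · exact wn)))
  refine ⟨tau hF l, ?_⟩
  have e1 : J.map (tau hF) = l • (1 : M6 F) := by
    calc J.map (tau hF) = ((B⁻¹ : GL (Fin 6) F) : M6 F) * ((B : M6 F) * J.map (tau hF) * ((B⁻¹ : GL (Fin 6) F) : M6 F)) *
          (B : M6 F) := by
          simp only [mul_assoc, Units.inv_mul, mul_one]
          rw [← mul_assoc, Units.inv_mul, one_mul]
      _ = l • (1 : M6 F) := by rw [hl, mul_smul_comm, smul_mul_assoc, mul_one, Units.inv_mul]
  rw [← hJ, ← tau_tau hF J, e1]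
  ext i j
  rw [Matrix.map_apply, Matrix.smul_apply, Matrix.smul_apply, smul_eq_mul, smul_eq_mul, map_mul, Matrix.one_apply]
  split_ifs <;> simp

theorem inv_tau (g : GL (Fin 6) F) : (g : M6 F).map (tau hF) * ((g⁻¹ : GL (Fin 6) F) : M6 F).map (tau hF) = 1 := by
  rw [← Matrix.map_mul, Units.mul_inv]
  exact Matrix.map_one _ (map_zero _) (map_one _)

theorem inv_tr (g : GL (Fin 6) F) : ((g⁻¹ : GL (Fin 6) F) : M6 F)ᵀ * (g : M6 F)ᵀ = 1 := by
  rw [← Matrix.transpose_mul, Units.mul_inv, Matrix.transpose_one]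

theorem sim_of {l c : F} (hl : (B : M6 F)ᵀ * (B : M6 F).map (tau hF) = l • (1 : M6 F)) {g : GL (Fin 6) F} {N : M6 F}
    (hg : (g : M6 F) * (B : M6 F) = (B : M6 F) * N) (hN : Nᵀ * N.map (tau hF) = c • (1 : M6 F)) :
    (g : M6 F)ᵀ * (g : M6 F).map (tau hF) = c • (1 : M6 F) := by
  have e1 : (B : M6 F)ᵀ * ((g : M6 F)ᵀ * (g : M6 F).map (tau hF)) * (B : M6 F).map (tau hF) =
      c • ((B : M6 F)ᵀ * (B : M6 F).map (tau hF)) := by
    calc (B : M6 F)ᵀ * ((g : M6 F)ᵀ * (g : M6 F).map (tau hF)) * (B : M6 F).map (tau hF)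
        = ((g : M6 F) * (B : M6 F))ᵀ * ((g : M6 F) * (B : M6 F)).map (tau hF) := by
          rw [Matrix.transpose_mul, Matrix.map_mul]; simp only [mul_assoc]
      _ = Nᵀ * ((B : M6 F)ᵀ * (B : M6 F).map (tau hF)) * N.map (tau hF) := by
          rw [hg, Matrix.transpose_mul, Matrix.map_mul]; simp only [mul_assoc]
      _ = c • ((B : M6 F)ᵀ * (B : M6 F).map (tau hF)) := by
          rw [hl, mul_smul_comm, mul_one, smul_mul_assoc, hN, smul_comm]
  calc (g : M6 F)ᵀ * (g : M6 F).map (tau hF) = (((B⁻¹ : GL (Fin 6) F) : M6 F)ᵀ * (B : M6 F)ᵀ) *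
        ((g : M6 F)ᵀ * (g : M6 F).map (tau hF)) *
        ((B : M6 F).map (tau hF) * ((B⁻¹ : GL (Fin 6) F) : M6 F).map (tau hF)) := by
        rw [inv_tr, inv_tau, one_mul, mul_one]
    _ = ((B⁻¹ : GL (Fin 6) F) : M6 F)ᵀ * ((B : M6 F)ᵀ * ((g : M6 F)ᵀ * (g : M6 F).map (tau hF)) *
        (B : M6 F).map (tau hF)) * ((B⁻¹ : GL (Fin 6) F) : M6 F).map (tau hF) := by simp only [mul_assoc]
    _ = c • ((((B⁻¹ : GL (Fin 6) F) : M6 F)ᵀ * (B : M6 F)ᵀ) *
        ((B : M6 F).map (tau hF) * ((B⁻¹ : GL (Fin 6) F) : M6 F).map (tau hF))) := by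
        rw [e1, mul_smul_comm, smul_mul_assoc]; simp only [mul_assoc]
    _ = c • (1 : M6 F) := by rw [inv_tr, inv_tau, one_mul]

theorem conj_unitary {c : F} {y t : GL (Fin 6) F} (hy : (y : M6 F)ᵀ * (y : M6 F).map (tau hF) = c • (1 : M6 F))
    (ht : t ∈ GU 6 F q) : y * t * y⁻¹ ∈ GU 6 F q := by
  rw [mem_GU_iff_matrix hF] at ht ⊢
  have ht' : (t : M6 F)ᵀ * (t : M6 F).map (tau hF) = 1 := ht
  change (((y * t * y⁻¹ : GL (Fin 6) F)) : M6 F)ᵀ * ((y * t * y⁻¹ : GL (Fin 6) F) : M6 F).map (tau hF) = 1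
  rw [Units.val_mul, Units.val_mul, Matrix.transpose_mul, Matrix.transpose_mul, Matrix.map_mul, Matrix.map_mul]
  calc ((y⁻¹ : GL (Fin 6) F) : M6 F)ᵀ * ((t : M6 F)ᵀ * (y : M6 F)ᵀ) * ((y : M6 F).map (tau hF) * (t : M6 F).map (tau hF) *
        ((y⁻¹ : GL (Fin 6) F) : M6 F).map (tau hF))
      = ((y⁻¹ : GL (Fin 6) F) : M6 F)ᵀ * ((t : M6 F)ᵀ * ((y : M6 F)ᵀ * (y : M6 F).map (tau hF)) * (t : M6 F).map (tau hF)) *
        ((y⁻¹ : GL (Fin 6) F) : M6 F).map (tau hF) := by simp only [mul_assoc]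
    _ = ((y⁻¹ : GL (Fin 6) F) : M6 F)ᵀ * (c • (1 : M6 F)) * ((y⁻¹ : GL (Fin 6) F) : M6 F).map (tau hF) := by
        rw [hy, mul_smul_comm, mul_one, smul_mul_assoc, ht']
    _ = (((y⁻¹ : GL (Fin 6) F) : M6 F)ᵀ * (y : M6 F)ᵀ) *
        ((y : M6 F).map (tau hF) * ((y⁻¹ : GL (Fin 6) F) : M6 F).map (tau hF)) := by rw [← hy]; simp only [mul_assoc]
    _ = 1 := by rw [inv_tr, inv_tau, one_mul]

/-- conjugate of an Eisenstein integer -/
def econj (x : E) : E := (x.1 - x.2, -x.2)

theorem tau_ev (hw : w * w + w + 1 = 0) (wn : w * tau hF w = 1) (x : E) : tau hF (ev w x) = ev w (econj x) := by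
  have w3 : w * w * w = 1 := by linear_combination (w - 1) * hw
  have e1 : tau hF w = w * w := by linear_combination (-tau hF w) * w3 + (w * w) * wn
  rw [ev, map_add, map_mul, map_intCast, map_intCast, e1]
  simp only [ev, econj]
  push_cast
  linear_combination (x.2 : F) * hw

theorem mat_star (hw : w * w + w + 1 = 0) (wn : w * tau hF w = 1) {M M' : List (List E)}
    (h : ∀ i j : Fin 6, ent M' i j = econj (ent M j i)) : mat w M' = ((mat w M).map (tau hF))ᵀ := by
  ext i j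
  rw [Matrix.transpose_apply, Matrix.map_apply, mat, mat, Matrix.of_apply, Matrix.of_apply, tau_ev hF hw wn]
  have := h i j
  rw [ent, ent] at this
  rw [this]

theorem my_sim (hw : w * w + w + 1 = 0) (wn : w * tau hF w = 1) : (mat w My)ᵀ * (mat w My).map (tau hF) = (3 : F) • (1 : M6 F) := by
  have e1 : mat w Mys * mat w My = (3 : F) • (1 : M6 F) := by
    rw [← mat_mul hw (by decide +kernel) (by decide +kernel), ys_y, sM_mat hw]
    simp [ev]
  rw [mat_star hF hw wn (M := My) (by decide +kernel)] at e1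
  have e2 := congrArg Matrix.transpose e1
  rw [Matrix.transpose_mul, Matrix.transpose_transpose, Matrix.transpose_smul, Matrix.transpose_one] at e2
  exact e2

end unitary

/-- **Unitary case, `|Z| = 3`.** -/
theorem no_a6_three_su6 [Fintype F] {q : ℕ} (hF : Fintype.card F = q ^ 2) {p : ℕ} [CharP F p] (hp : 5 ≤ p) (hp' : p.Prime)
    {H P : Subgroup (GL (Fin 6) F)} (hmax : IsMaximalIn (GU 6 F q ⊓ specialLinear (Fin 6) F) H) (hres : IsResidualCore H P)
    (e : Soc P ≃* alternatingGroup (Fin 6)) (h3 : Nat.card ((scalars (Fin 6) F).subgroupOf P) = 3) : False := by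
  have hC := core_of_residual hres
  have hPU : P ≤ GU 6 F q := fun g hg => (hmax.1.le (hres.le hg)).1
  obtain ⟨h, t1, t2, u, r, x, a, b, B, w, d, ex⟩ := explicit_of_core hC hp e h3
  obtain ⟨l, hl⟩ := gram hF hC h d ex hPU
  have wn := w_norm hF h hPU ex.hw
  refine not_maximal hp hp' hmax hres h d ex (fun D hD => ⟨?_, det_diag hD⟩) (fun y hy => ⟨?_, det_conj' hC y t1⟩)
  · change D ∈ GU 6 F q
    rw [mem_GU_iff_matrix hF]
    have := sim_of hF hl (c := 1) hD (by
      have e1 : (Matrix.diagonal ![-1, 1, 1, 1, 1, -1] : M6 F).map (tau hF) = Matrix.diagonal ![-1, 1, 1, 1, 1, -1] := by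
        rw [Matrix.diagonal_map (map_zero _)]
        congr 1
        ext i
        fin_cases i <;> simp
      rw [e1, Matrix.diagonal_transpose, Matrix.diagonal_mul_diagonal, one_smul, ← Matrix.diagonal_one]
      congr 1
      ext i
      fin_cases i <;> simp)
    rw [one_smul] at this
    exact this
  · exact conj_unitary hF (sim_of hF hl hy (my_sim hF ex.hw wn)) (hPU t1.2)

end Cfsg.Agent.H910.Six
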