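import Mathlib

/-!
# Computing with Eisenstein integers (helper910)

`E = ℤ × ℤ`, `(a, b)` is `a + b w`; `ev w : E → F`; lists as vectors and matrices.
-/

set_option autoImplicit false

namespace Cfsg.Agent.H910.Six

/-- Eisenstein integers -/
abbrev E := ℤ × ℤ

/-- sum -/
def eadd (x y : E) : E := (x.1 + y.1, x.2 + y.2)

/-- product -/
def emul (x y : E) : E := (x.1 * y.1 - x.2 * y.2, x.1 * y.2 + x.2 * y.1 - x.2 * y.2)

/-- norm -/
def enorm (x : E) : ℤ := x.1 * x.1 - x.1 * x.2 + x.2 * x.2

/-- scalar product -/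
def dot : List E → List E → E
  | a :: l, b :: m => eadd (emul a b) (dot l m)
  | _, _ => (0, 0)

theorem dot_nil (m : List E) : dot [] m = (0, 0) := by cases m <;> rfl

theorem dot_nil' (l : List E) : dot l [] = (0, 0) := by cases l <;> rfl

/-- matrix times vector -/
def mulV (M : List (List E)) (v : List E) : List E := M.map fun r => dot r v

variable {F : Type*} [Field F]

/-- evaluation -/
def ev (w : F) (x : E) : F := x.1 + x.2 * w

theorem ev_zero (w : F) : ev w (0, 0) = 0 := by simp [ev]

theorem ev_one (w : F) : ev w (1, 0) = 1 := by simp [ev]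

theorem ev_add (w : F) (x y : E) : ev w (eadd x y) = ev w x + ev w y := by
  simp only [ev, eadd]; push_cast; ring

theorem ev_mul {w : F} (hw : w * w + w + 1 = 0) (x y : E) : ev w (emul x y) = ev w x * ev w y := by
  simp only [ev, emul]; push_cast
  linear_combination -(x.2 : F) * y.2 * hw

theorem ev_norm {w : F} (hw : w * w + w + 1 = 0) (x : E) : ev w x * ev w (x.1 - x.2, -x.2) = (enorm x : F) := by
  simp only [ev, enorm]; push_cast
  linear_combination -(x.2 : F) * x.2 * hw

theorem ev_ne_zero {w : F} (hw : w * w + w + 1 = 0) {p : ℕ} [CharP F p] (hp : 5 ≤ p) (hp' : p.Prime) {x : E}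
    (h : enorm x ∣ 144) : ev w x ≠ 0 := by
  intro h0
  have h1 := ev_norm hw x
  rw [h0, zero_mul] at h1
  obtain ⟨k, hk⟩ := h
  have h2 : ((144 : ℤ) : F) = 0 := by rw [hk]; push_cast; rw [← h1, zero_mul]
  have h3 : ((144 : ℕ) : F) = 0 := by exact_mod_cast h2
  rw [CharP.cast_eq_zero_iff F p] at h3
  have h4 : p ∣ 2 ^ 4 * 3 ^ 2 := by norm_num; exact h3
  rcases (Nat.Prime.dvd_mul hp').1 h4 with h5 | h5
  · have := Nat.le_of_dvd (by norm_num) (hp'.dvd_of_dvd_pow h5); omega
  · have := Nat.le_of_dvd (by norm_num) (hp'.dvd_of_dvd_pow h5); omega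

theorem ev_dot {w : F} (hw : w * w + w + 1 = 0) : ∀ (l m : List E) (n : ℕ), l.length ≤ n →
    ev w (dot l m) = ∑ i ∈ Finset.range n, ev w (l.getD i (0, 0)) * ev w (m.getD i (0, 0))
  | [], m, n, _ => by
    rw [dot_nil, ev_zero]
    symm
    apply Finset.sum_eq_zero
    intro i _
    rw [List.getD_nil, ev_zero, zero_mul]
  | a :: l, [], n, _ => by
    rw [dot_nil', ev_zero]
    symm
    apply Finset.sum_eq_zero
    intro i _
    rw [List.getD_nil (n := i), ev_zero, mul_zero]
  | a :: l, b :: m, 0, h => by simp at h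
  | a :: l, b :: m, n + 1, h => by
    rw [dot, ev_add, ev_mul hw, ev_dot hw l m n (by simpa using h), Finset.sum_range_succ']
    simp only [List.getD_cons_zero, List.getD_cons_succ]
    rw [add_comm]

/-- the vector -/
def vec (w : F) (v : List E) : Fin 6 → F := fun i => ev w (v.getD i (0, 0))

/-- the matrix -/
def mat (w : F) (M : List (List E)) : Matrix (Fin 6) (Fin 6) F :=
  Matrix.of fun i j => ev w ((M.getD i []).getD j (0, 0))

open Matrix in
theorem mat_mulVec {w : F} (hw : w * w + w + 1 = 0) {M : List (List E)} (hM : ∀ r ∈ M, r.length ≤ 6) (v : List E) :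
    mat w M *ᵥ vec w v = vec w (mulV M v) := by
  ext i
  have h1 : (mulV M v).getD i (0, 0) = dot (M.getD i []) v := by
    have : ((0, 0) : E) = dot [] v := rfl
    rw [mulV, this, List.getD_map]
  have h2 : (M.getD (i : ℕ) []).length ≤ 6 := by
    by_cases h : (i : ℕ) < M.length
    · rw [List.getD_eq_getElem _ _ h]
      exact hM _ (List.getElem_mem h)
    · rw [List.getD_eq_default _ _ (by omega)]; simp
  rw [vec, h1, ev_dot hw _ v 6 h2, Matrix.mulVec, dotProduct, Finset.sum_range]
  rfl

theorem vec_smul {w : F} (hw : w * w + w + 1 = 0) (s : E) (v : List E) : vec w (v.map (emul s)) = ev w s • vec w v := by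
  ext i
  have h1 : (v.map (emul s)).getD i (0, 0) = emul s (v.getD i (0, 0)) := by
    have : ((0, 0) : E) = emul s (0, 0) := by simp [emul]
    conv_lhs => rw [this, List.getD_map]
  rw [vec, h1, ev_mul hw, Pi.smul_apply, smul_eq_mul, vec]

/-- the check for one matrix: `M v_k = s v_k'` -/
def chk (vs : List (List E)) (M : List (List E)) (T : List (ℕ × E)) : Bool :=
  decide (T.length = vs.length) && decide (∀ r ∈ M, r.length ≤ 6) &&
  (vs.zip T).all fun q => decide (q.2.1 < vs.length) && decide (enorm q.2.2 ∣ 144) &&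
    decide (mulV M q.1 = (vs.getD q.2.1 []).map (emul q.2.2))

theorem chk_spec {vs : List (List E)} {M : List (List E)} {T : List (ℕ × E)} (h : chk vs M T = true) :
    (∀ r ∈ M, r.length ≤ 6) ∧ ∀ v ∈ vs, ∃ v' ∈ vs, ∃ s : E, enorm s ∣ 144 ∧ mulV M v = v'.map (emul s) := by
  rw [chk, Bool.and_eq_true, Bool.and_eq_true, decide_eq_true_eq, decide_eq_true_eq] at h
  obtain ⟨⟨h1, h2⟩, h3⟩ := h
  refine ⟨h2, fun v hv => ?_⟩
  obtain ⟨k, hk, rfl⟩ := List.mem_iff_getElem.1 hv
  have hk' : k < (vs.zip T).length := by rw [List.length_zip, h1, min_self]; exact hk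
  have h4 := List.all_eq_true.1 h3 _ (List.getElem_mem hk')
  rw [Bool.and_eq_true, Bool.and_eq_true, decide_eq_true_eq, decide_eq_true_eq, decide_eq_true_eq,
    List.getElem_zip] at h4
  obtain ⟨⟨h5, h6⟩, h7⟩ := h4
  refine ⟨vs[(T[k]'(by omega)).1]'h5, List.getElem_mem _, (T[k]'(by omega)).2, h6, ?_⟩
  rw [List.getD_eq_getElem _ _ h5] at h7
  exact h7

/-- matrix product -/
def mulM (M N : List (List E)) : List (List E) :=
  M.map fun r => (List.range 6).map fun j => dot r (N.map fun s => s.getD j (0, 0))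

theorem mat_mul {w : F} (hw : w * w + w + 1 = 0) {M N : List (List E)} (hM : ∀ r ∈ M, r.length ≤ 6) (hl : M.length = 6) :
    mat w (mulM M N) = mat w M * mat w N := by
  ext i j
  have hi : (i : ℕ) < M.length := by rw [hl]; exact i.2
  have e1 : (mulM M N).getD i [] = (List.range 6).map fun j => dot (M.getD i []) (N.map fun s => s.getD j (0, 0)) := by
    rw [mulM, List.getD_eq_getElem _ _ (by rw [List.length_map]; exact hi), List.getElem_map,
      List.getD_eq_getElem _ _ hi]
  have h1 : ((mulM M N).getD i []).getD j (0, 0) = dot (M.getD i []) (N.map fun s => s.getD j (0, 0)) := by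
    rw [e1, List.getD_eq_getElem _ _ (by rw [List.length_map, List.length_range]; exact j.2), List.getElem_map,
      List.getElem_range]
  have h2 : (M.getD (i : ℕ) []).length ≤ 6 := by
    rw [List.getD_eq_getElem _ _ hi]
    exact hM _ (List.getElem_mem hi)
  have h3 : ∀ k : ℕ, (N.map fun s => s.getD j (0, 0)).getD k (0, 0) = (N.getD k []).getD j (0, 0) := by
    intro k
    exact List.getD_map N [] fun s : List E => s.getD j (0, 0)
  rw [mat, Matrix.of_apply, h1, ev_dot hw _ _ 6 h2, Matrix.mul_apply, Finset.sum_range]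
  simp only [h3]
  rfl

end Cfsg.Agent.H910.Six
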