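import Cfsg.Agent.H910.Six.Hex

/-!
# The six lines permuted by `3.A₆` in dimension six (helper910)
-/

set_option autoImplicit false
set_option linter.unusedSectionVars false

open Matrix Equiv

namespace Cfsg.Agent.H910.Six

variable {F : Type*} [Field F] {G : Type*} [Group G] {m : G →* M6 F} {φ : G →* Perm (Fin 6)}
  {t1 t2 u r x a b : G}

/-- all the lifts of `(0 1 2)` and `(3 4 5)` fail to commute -/
theorem Hex.nc' (h : Hex m φ) {x y : G} (hx : φ x = c[0, 1, 2]) (hy : φ y = c[3, 4, 5]) : x * y ≠ y * x := by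
  obtain ⟨x', y', h1, h2, h3⟩ := h.nc
  intro h4
  apply h3
  have hk : φ (x⁻¹ * x') = 1 := by rw [map_mul, map_inv, h1, hx, inv_mul_cancel]
  have hl : φ (y⁻¹ * y') = 1 := by rw [map_mul, map_inv, h2, hy, inv_mul_cancel]
  have hc := h.central hk
  have hd := h.central hl
  have e : x' = x * (x⁻¹ * x') := by group
  have f : y' = y * (y⁻¹ * y') := by group
  generalize x⁻¹ * x' = k at *
  generalize y⁻¹ * y' = l at *
  rw [e, f]
  calc x * k * (y * l) = x * (k * y) * l := by group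
    _ = x * y * (k * l) := by rw [hc]; group
    _ = y * x * (l * k) := by rw [h4, hc l]
    _ = y * (x * l) * k := by group
    _ = y * (l * x) * k := by rw [hd]
    _ = y * l * (x * k) := by group

/-- an involution over an element fixing the vector `v` fixes `v` -/
theorem Hex.fix (h : Hex m φ) {g k : G} {v : Fin 6 → F} (hv : v ≠ 0) (hgk : φ g = φ k) (hg : g * g = 1)
    (hk : m k *ᵥ v = v) : m g *ᵥ v = v := by
  have hz : φ (k⁻¹ * g) = 1 := by rw [map_mul, map_inv, hgk, inv_mul_cancel]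
  obtain ⟨c, hc, hm⟩ := h.ker _ hz
  have e : m g = m k * m (k⁻¹ * g) := by rw [← map_mul]; congr 1; group
  have h1 : m g *ᵥ v = c • v := by
    rw [e, ← Matrix.mulVec_mulVec, hm, Matrix.smul_mulVec, Matrix.one_mulVec, Matrix.mulVec_smul, hk]
  have h2 : (c * c) • v = v := by
    have h3 : m g *ᵥ (m g *ᵥ v) = v := by rw [Matrix.mulVec_mulVec, ← map_mul, hg, map_one, Matrix.one_mulVec]
    rw [h1, Matrix.mulVec_smul, h1, smul_smul] at h3
    exact h3
  have h3 : c * c = 1 := by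
    have h4 : (c * c - 1) • v = 0 := by rw [sub_smul, h2, one_smul, sub_self]
    rcases smul_eq_zero.1 h4 with h5 | h5
    · linear_combination h5
    · exact absurd h5 hv
  have h4 : c = 1 := by linear_combination hc - c * h3
  rw [h1, h4, one_smul]

/-- a lift acts on a vector fixed by another lift as a cube root of unity -/
theorem Hex.scal (h : Hex m φ) {g k : G} {v : Fin 6 → F} (hgk : φ g = φ k)
    (hk : m k *ᵥ v = v) : ∃ c : F, c ^ 3 = 1 ∧ m g *ᵥ v = c • v := by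
  have hz : φ (k⁻¹ * g) = 1 := by rw [map_mul, map_inv, hgk, inv_mul_cancel]
  obtain ⟨c, hc, hm⟩ := h.ker _ hz
  have e : m g = m k * m (k⁻¹ * g) := by rw [← map_mul]; congr 1; group
  refine ⟨c, hc, ?_⟩
  rw [e, ← Matrix.mulVec_mulVec, hm, Matrix.smul_mulVec, Matrix.one_mulVec, Matrix.mulVec_smul, hk]

/-- the action on the six vectors -/
structure Frame (m : G →* M6 F) (φ : G →* Perm (Fin 6)) (t1 t2 u r x : G) (v : Fin 6 → (Fin 6 → F)) (c : F) : Prop where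
  ne : ∀ i, v i ≠ 0
  a1 : ∀ i, m t1 *ᵥ v i = v (φ t1 i)
  a2 : ∀ i, m t2 *ᵥ v i = v (φ t2 i)
  au : ∀ i, m u *ᵥ v i = v (φ u i)
  ar : ∀ i, m r *ᵥ v i = v (φ r i)
  ax : ∀ i, m x *ᵥ v i = (![1, 1, 1, 1, c * c, c] : Fin 6 → F) i • v (φ x i)
  hc : c ^ 3 = 1

theorem Data.exists_frame (h : Hex m φ) (d : Data m φ t1 t2 u r x a b) {w : Fin 6 → F} (hw : w ≠ 0)
    (xw : m x *ᵥ w = w) (aw : m a *ᵥ w = w) (bw : m b *ᵥ w = w) (uw : m u *ᵥ w = w) :
    ∃ (v : Fin 6 → (Fin 6 → F)) (c : F), Frame m φ t1 t2 u r x v c := by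
  -- more involutions fixing `w`
  have mm : ∀ (g g' : G) (z : Fin 6 → F), m g *ᵥ (m g' *ᵥ z) = m (g * g') *ᵥ z := fun g g' z => by
    rw [Matrix.mulVec_mulVec, map_mul]
  have invo : ∀ (g : G), g * g = 1 → ∀ z : Fin 6 → F, m g *ᵥ (m g *ᵥ z) = z := fun g hg z => by
    rw [mm, hg, map_one, Matrix.one_mulVec]
  have cj : ∀ (g k l : G), l * k * l⁻¹ = g → ∀ z : Fin 6 → F, m g *ᵥ (m l *ᵥ z) = m l *ᵥ (m k *ᵥ z) := fun g k l hg z => by
    rw [mm, mm, ← hg]; congr 2; group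
  obtain ⟨a', ha', qa'⟩ := h.exists_inv (c[0, 4] * c[1, 5]) (by decide) (by decide)
  obtain ⟨b', hb', qb'⟩ := h.exists_inv (c[0, 5] * c[1, 4]) (by decide) (by decide)
  obtain ⟨t3, ht3, qt3⟩ := h.exists_inv (c[0, 3] * c[1, 2]) (by decide) (by decide)
  have a'w : m a' *ᵥ w = w := h.fix (k := b * u * a * x) hw (by
    simp only [map_mul, ha', d.hb, d.hu, d.ha, d.hx]; decide) qa' (by
    simp only [← mm, xw, aw, bw, uw])
  have b'w : m b' *ᵥ w = w := h.fix (k := b * u * a * x * u) hw (by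
    simp only [map_mul, hb', d.hb, d.hu, d.ha, d.hx]; decide) qb' (by
    simp only [← mm, xw, aw, bw, uw])
  -- relations
  have t12 : t1 * t2 = t3 := h.mul_inv (by rw [d.ht1, d.ht2]; decide) d.qt1 d.qt2 qt3 (by rw [d.ht1, d.ht2, ht3]; decide)
  have t21 : t2 * t1 = t3 := h.mul_inv (by rw [d.ht1, d.ht2]; decide) d.qt2 d.qt1 qt3 (by rw [d.ht1, d.ht2, ht3]; decide)
  have t13 : t1 * t3 = t2 := by rw [← t12, ← mul_assoc, d.qt1, one_mul]
  have t23 : t2 * t3 = t1 := by rw [← t21, ← mul_assoc, d.qt2, one_mul]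
  have r1 : t1 * r = r * u := by
    rw [← h.conj (a := u) (b := t1) (k := r) (by rw [d.hr, d.hu, d.ht1]; decide) d.qu d.qt1]; group
  have r2 : t2 * r = r * a' := by
    rw [← h.conj (a := a') (b := t2) (k := r) (by rw [d.hr, ha', d.ht2]; decide) qa' d.qt2]; group
  have u1 : u * t1 = t1 * u := h.comm (by rw [d.hu, d.ht1]; decide) d.qt1
  have u2 : t2 * u = u * t3 := by
    rw [← h.conj (a := t3) (b := t2) (k := u) (by rw [d.hu, ht3, d.ht2]; decide) qt3 d.qt2]; group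
  have u3 : u * t2 = t3 * u := by
    calc u * t2 = u * (t2 * u) * u⁻¹ := by group
      _ = (u * u) * t3 * u⁻¹ := by rw [u2]; group
      _ = t3 * u := by rw [d.qu, one_mul, inv_eq_of_mul_eq_one_left d.qu]
  have r3 : r * t3 = t3 * b' := by
    have := h.conj (a := b') (b := r) (k := t3) (by rw [d.hr, hb', ht3]; decide) qb' d.qr
    rw [← this]
    calc t3 * b' * t3⁻¹ * t3 = t3 * b' := by group
      _ = t3 * b' := rfl
  have r4 : r * t2 = t2 * a' := by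
    rw [← h.conj (a := a') (b := r) (k := t2) (by rw [d.hr, ha', d.ht2]; decide) qa' d.qr]; group
  have r5 : r * t1 = u * r := by
    calc r * t1 = r * (t1 * r) * r⁻¹ := by group
      _ = (r * r) * u * r⁻¹ := by rw [r1]; group
      _ = u * r := by rw [d.qr, one_mul, inv_eq_of_mul_eq_one_left d.qr]
  have x1 : x * t3 = t2 * x := by
    rw [← h.conj (a := t3) (b := t2) (k := x) (by rw [d.hx, ht3, d.ht2]; decide) qt3 d.qt2]; group
  have x2 : x * t2 = t1 * x := by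
    rw [← h.conj (a := t2) (b := t1) (k := x) (by rw [d.hx, d.ht1, d.ht2]; decide) d.qt2 d.qt1]; group
  have x3 : x * t1 = t3 * x := by
    rw [← h.conj (a := t1) (b := t3) (k := x) (by rw [d.hx, d.ht1, ht3]; decide) d.qt1 qt3]; group
  have x4 : x * u = u * (x * x) := by
    rw [← d.inv_x, ← d.ux]
    calc x * u = (u * u) * x * u := by rw [d.qu, one_mul]
      _ = u * (u * x * u) := by group
  -- the vectors
  have red : ∀ k s : G, m s *ᵥ w = w → m (k * s) *ᵥ w = m k *ᵥ w := fun k s hs => by rw [← mm, hs]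
  obtain ⟨c, hc, hxc⟩ := h.scal (g := x) (k := r * (x * a * x) * r) (v := m r *ᵥ w) (by
    simp only [map_mul, d.hx, d.ha, d.hr]; decide) (by
    simp only [← mm, invo r d.qr, xw, aw])
  have hxr : m (x * r) *ᵥ w = c • (m r *ᵥ w) := by rw [← mm, hxc]
  have hxur : m (x * (u * r)) *ᵥ w = (c * c) • (m (u * r) *ᵥ w) := by
    rw [← mul_assoc, x4, mul_assoc, ← mm, ← mm, ← mm x x, hxc, Matrix.mulVec_smul, hxc, smul_smul,
      Matrix.mulVec_smul, mm]
  have hvne : ∀ g : G, m g *ᵥ w ≠ 0 := fun g hg => by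
    apply hw
    have : m g⁻¹ *ᵥ (m g *ᵥ w) = w := by rw [mm, inv_mul_cancel, map_one, Matrix.one_mulVec]
    rw [← this, hg, Matrix.mulVec_zero]
  refine ⟨![m t3 *ᵥ w, m t2 *ᵥ w, m t1 *ᵥ w, w, m (u * r) *ᵥ w, m r *ᵥ w], c, ?_, ?_, ?_, ?_, ?_, ?_, hc⟩
  · intro i
    fin_cases i
    exacts [hvne _, hvne _, hvne _, hw, hvne _, hvne _]
  · rw [d.ht1]
    intro i
    fin_cases i
    · show m t1 *ᵥ (m t3 *ᵥ w) = m t2 *ᵥ w
      rw [mm, t13]
    · show m t1 *ᵥ (m t2 *ᵥ w) = m t3 *ᵥ w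
      rw [mm, t12]
    · show m t1 *ᵥ (m t1 *ᵥ w) = w
      rw [invo _ d.qt1]
    · rfl
    · show m t1 *ᵥ (m (u * r) *ᵥ w) = m (u * r) *ᵥ w
      rw [mm, ← mul_assoc, ← u1, mul_assoc, r1, ← mul_assoc, red _ _ uw]
    · show m t1 *ᵥ (m r *ᵥ w) = m r *ᵥ w
      rw [mm, r1, red _ _ uw]
  · rw [d.ht2]
    intro i
    fin_cases i
    · show m t2 *ᵥ (m t3 *ᵥ w) = m t1 *ᵥ w
      rw [mm, t23]
    · show m t2 *ᵥ (m t2 *ᵥ w) = w
      rw [invo _ d.qt2]
    · show m t2 *ᵥ (m t1 *ᵥ w) = m t3 *ᵥ w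
      rw [mm, t21]
    · rfl
    · show m t2 *ᵥ (m (u * r) *ᵥ w) = m (u * r) *ᵥ w
      have e : t2 * (u * r) = (u * r) * (u * a') := by
        rw [← mul_assoc, u2, mul_assoc, ← t12, mul_assoc t1, r2, ← mul_assoc t1, r1]; group
      rw [mm, e, red _ _ (by rw [← mm, a'w, uw])]
    · show m t2 *ᵥ (m r *ᵥ w) = m r *ᵥ w
      rw [mm, r2, red _ _ a'w]
  · rw [d.hu]
    intro i
    fin_cases i
    · show m u *ᵥ (m t3 *ᵥ w) = m t2 *ᵥ w
      rw [mm, ← u2, red _ _ uw]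
    · show m u *ᵥ (m t2 *ᵥ w) = m t3 *ᵥ w
      rw [mm, u3, red _ _ uw]
    · show m u *ᵥ (m t1 *ᵥ w) = m t1 *ᵥ w
      rw [mm, u1, red _ _ uw]
    · exact uw
    · show m u *ᵥ (m (u * r) *ᵥ w) = m r *ᵥ w
      rw [← mm, invo _ d.qu]
    · show m u *ᵥ (m r *ᵥ w) = m (u * r) *ᵥ w
      rw [mm]
  · rw [d.hr]
    intro i
    fin_cases i
    · show m r *ᵥ (m t3 *ᵥ w) = m t3 *ᵥ w
      rw [mm, r3, red _ _ b'w]
    · show m r *ᵥ (m t2 *ᵥ w) = m t2 *ᵥ w
      rw [mm, r4, red _ _ a'w]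
    · show m r *ᵥ (m t1 *ᵥ w) = m (u * r) *ᵥ w
      rw [mm, r5]
    · rfl
    · show m r *ᵥ (m (u * r) *ᵥ w) = m t1 *ᵥ w
      rw [← r5, ← mm, invo _ d.qr]
    · show m r *ᵥ (m r *ᵥ w) = w
      rw [invo _ d.qr]
  · rw [d.hx]
    intro i
    fin_cases i
    · show m x *ᵥ (m t3 *ᵥ w) = (1 : F) • (m t2 *ᵥ w)
      rw [mm, x1, red _ _ xw, one_smul]
    · show m x *ᵥ (m t2 *ᵥ w) = (1 : F) • (m t1 *ᵥ w)
      rw [mm, x2, red _ _ xw, one_smul]
    · show m x *ᵥ (m t1 *ᵥ w) = (1 : F) • (m t3 *ᵥ w)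
      rw [mm, x3, red _ _ xw, one_smul]
    · show m x *ᵥ w = (1 : F) • w
      rw [xw, one_smul]
    · show m x *ᵥ (m (u * r) *ᵥ w) = (c * c) • (m (u * r) *ᵥ w)
      rw [mm, hxur]
    · show m x *ᵥ (m r *ᵥ w) = c • (m r *ᵥ w)
      rw [hxc]

end Cfsg.Agent.H910.Six
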