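import Cfsg.Agent.H910.Six.Frame
import Cfsg.Agent.Lib.AltCarmichael

/-!
# Generation of `3.A₆`, linear independence of the frame (helper910)
-/

set_option autoImplicit false
set_option linter.unusedSectionVars false

open Matrix Equiv

namespace Cfsg.Agent.H910.Six

variable {F : Type*} [Field F] {G : Type*} [Group G] {m : G →* M6 F} {φ : G →* Perm (Fin 6)}
  {t1 t2 u r x a b : G}

open Cfsg.Agent.Lib.AltCarmichael in
theorem closure_perms : alternatingGroup (Fin 6) ≤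
    Subgroup.closure ({c[0, 1] * c[2, 3], c[0, 2] * c[1, 3], c[0, 1] * c[4, 5], c[2, 4] * c[3, 5], c[0, 1, 2]} :
      Set (Perm (Fin 6))) := by
  set H := Subgroup.closure ({c[0, 1] * c[2, 3], c[0, 2] * c[1, 3], c[0, 1] * c[4, 5], c[2, 4] * c[3, 5], c[0, 1, 2]} :
      Set (Perm (Fin 6))) with hH
  have h1 : c[0, 1] * c[2, 3] ∈ H := Subgroup.subset_closure (by simp)
  have h2 : c[0, 2] * c[1, 3] ∈ H := Subgroup.subset_closure (by simp)
  have hu : c[0, 1] * c[4, 5] ∈ H := Subgroup.subset_closure (by simp)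
  have hr : c[2, 4] * c[3, 5] ∈ H := Subgroup.subset_closure (by simp)
  have hx : c[0, 1, 2] ∈ H := Subgroup.subset_closure (by simp)
  rw [← gen_cyc 4 (by norm_num), gen_def, Subgroup.closure_le]
  rintro _ ⟨i, hi, rfl⟩
  have e0 : cyc 4 0 = (c[2, 4] * c[3, 5]) * c[0, 1, 2] * (c[0, 1] * c[2, 3]) * (c[2, 4] * c[3, 5]) := by decide
  have e1 : cyc 4 1 = (c[2, 4] * c[3, 5]) * (c[0, 2] * c[1, 3]) * c[0, 1, 2] * c[0, 1, 2] * (c[2, 4] * c[3, 5]) := by decide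
  have e2 : cyc 4 2 = (c[0, 2] * c[1, 3]) * (c[2, 4] * c[3, 5]) * c[0, 1, 2] * (c[0, 1] * c[2, 3]) * (c[2, 4] * c[3, 5]) *
    (c[0, 2] * c[1, 3]) := by decide
  have e3 : cyc 4 3 = (c[0, 1] * c[2, 3]) * (c[0, 2] * c[1, 3]) * (c[2, 4] * c[3, 5]) * c[0, 1, 2] * (c[2, 4] * c[3, 5]) *
    (c[0, 2] * c[1, 3]) * (c[0, 1] * c[4, 5]) := by decide
  rw [SetLike.mem_coe]
  have : i = 0 ∨ i = 1 ∨ i = 2 ∨ i = 3 := by omega
  rcases this with rfl | rfl | rfl | rfl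
  · rw [e0]; exact mul_mem (mul_mem (mul_mem hr hx) h1) hr
  · rw [e1]; exact mul_mem (mul_mem (mul_mem (mul_mem hr h2) hx) hx) hr
  · rw [e2]; exact mul_mem (mul_mem (mul_mem (mul_mem (mul_mem h2 hr) hx) h1) hr) h2
  · rw [e3]; exact mul_mem (mul_mem (mul_mem (mul_mem (mul_mem (mul_mem h1 h2) hr) hx) hr) h2) hu

/-- induction on `G` -/
theorem Data.induct (h : Hex m φ) (d : Data m φ t1 t2 u r x a b) {Q : G → Prop} (hk : ∀ k, φ k = 1 → Q k)
    (hm : ∀ g g', Q g → Q g' → Q (g * g')) (q1 : Q t1) (q2 : Q t2) (qu : Q u) (qr : Q r) (qx : Q x) : ∀ g, Q g := by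
  intro g
  have h1 : φ g ∈ (Subgroup.closure ({t1, t2, u, r, x} : Set G)).map φ := by
    rw [MonoidHom.map_closure]
    have e : φ '' ({t1, t2, u, r, x} : Set G) = ({c[0, 1] * c[2, 3], c[0, 2] * c[1, 3], c[0, 1] * c[4, 5],
        c[2, 4] * c[3, 5], c[0, 1, 2]} : Set (Perm (Fin 6))) := by
      simp only [Set.image_insert_eq, Set.image_singleton, d.ht1, d.ht2, d.hu, d.hr, d.hx]
    rw [e]
    exact closure_perms (Perm.mem_alternatingGroup.2 (h.even g))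
  obtain ⟨s, hs, hsg⟩ := h1
  have h2 : Q s := by
    have hinv : ∀ y ∈ ({t1, t2, u, r, x} : Set G), Q y ∧ Q y⁻¹ := by
      rintro y (rfl | rfl | rfl | rfl | rfl)
      · exact ⟨q1, by rw [inv_eq_of_mul_eq_one_left d.qt1]; exact q1⟩
      · exact ⟨q2, by rw [inv_eq_of_mul_eq_one_left d.qt2]; exact q2⟩
      · exact ⟨qu, by rw [inv_eq_of_mul_eq_one_left d.qu]; exact qu⟩
      · exact ⟨qr, by rw [inv_eq_of_mul_eq_one_left d.qr]; exact qr⟩
      · exact ⟨qx, by rw [d.inv_x]; exact hm _ _ qx qx⟩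
    refine Subgroup.closure_induction_left (p := fun y _ => Q y) (hk 1 (map_one φ)) (fun y hy z _ hz => hm _ _ (hinv y hy).1 hz)
      (fun y hy z _ hz => hm _ _ (hinv y hy).2 hz) hs
  have e : g = s * (s⁻¹ * g) := by group
  rw [e]
  exact hm _ _ h2 (hk _ (by rw [map_mul, map_inv, hsg, inv_mul_cancel]))

/-- lifts of `(0 1 2)` and `(3 4 5)` do not commute on any vector -/
theorem Hex.nc_vec (h : Hex m φ) {x y : G} (hx : φ x = c[0, 1, 2]) (hy : φ y = c[3, 4, 5]) {v : Fin 6 → F} (hv : v ≠ 0) :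
    m (x * y) *ᵥ v ≠ m (y * x) *ᵥ v := by
  intro he
  have hk : φ (x * y * (y * x)⁻¹) = 1 := by
    rw [map_mul, map_inv, map_mul, map_mul, hx, hy]; decide
  obtain ⟨c, hc, hc0, hm, h1⟩ := h.smul_of_ker hk
  have hne : c ≠ 1 := by
    intro hc1
    apply h.nc' hx hy
    have := h1 hc1
    rwa [mul_inv_eq_one] at this
  have e : x * y = x * y * (y * x)⁻¹ * (y * x) := by group
  rw [e, hm, Matrix.smul_mulVec] at he
  have h2 : (c - 1) • (m (y * x) *ᵥ v) = 0 := by rw [sub_smul, he, one_smul, sub_self]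
  rcases smul_eq_zero.1 h2 with h3 | h3
  · exact hne (by linear_combination h3)
  · apply hv
    have : m (y * x)⁻¹ *ᵥ (m (y * x) *ᵥ v) = v := by
      rw [Matrix.mulVec_mulVec, ← map_mul, inv_mul_cancel, map_one, Matrix.one_mulVec]
    rw [← this, h3, Matrix.mulVec_zero]

variable {v : Fin 6 → (Fin 6 → F)} {c : F}

/-- if `x` permutes the vectors without scalars we have a contradiction -/
theorem Frame.ne_one (h : Hex m φ) (d : Data m φ t1 t2 u r x a b) (f : Frame m φ t1 t2 u r x v c) : c ≠ 1 := by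
  intro hc1
  have key : ∀ g : G, ∃ e : F, ∀ i, m g *ᵥ v i = e • v (φ g i) := by
    refine d.induct h (fun k hk => ?_) (fun g g' => ?_) ⟨1, fun i => by rw [one_smul, f.a1]⟩ ⟨1, fun i => by rw [one_smul, f.a2]⟩
      ⟨1, fun i => by rw [one_smul, f.au]⟩ ⟨1, fun i => by rw [one_smul, f.ar]⟩ ⟨1, fun i => ?_⟩
    · obtain ⟨e, -, he⟩ := h.ker k hk
      refine ⟨e, fun i => ?_⟩
      rw [he, hk, Matrix.smul_mulVec, Matrix.one_mulVec, Perm.one_apply]
    · rintro ⟨e, he⟩ ⟨e', he'⟩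
      refine ⟨e' * e, fun i => ?_⟩
      rw [map_mul, ← Matrix.mulVec_mulVec, he', Matrix.mulVec_smul, he, smul_smul, map_mul, Perm.mul_apply]
    · rw [f.ax, hc1]
      congr 1
      fin_cases i <;> simp
  obtain ⟨y, hy⟩ := h.onto c[3, 4, 5] (by decide)
  refine h.nc_vec d.hx hy (f.ne 3) ?_
  obtain ⟨e, he⟩ := key x
  obtain ⟨e', he'⟩ := key y
  have hc : φ (x * y) = φ (y * x) := by rw [map_mul, map_mul, d.hx, hy]; decide
  rw [map_mul, map_mul, ← Matrix.mulVec_mulVec, ← Matrix.mulVec_mulVec, he', Matrix.mulVec_smul, he, he, Matrix.mulVec_smul, he',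
    smul_smul, smul_smul, ← Perm.mul_apply, ← Perm.mul_apply, ← map_mul, ← map_mul, hc, mul_comm]

theorem Frame.v01 (h : Hex m φ) (d : Data m φ t1 t2 u r x a b) (f : Frame m φ t1 t2 u r x v c) : v 0 ≠ v 1 := by
  intro h01
  have x0 := f.ax 0
  have x1 := f.ax 1
  have x5 := f.ax 5
  rw [d.hx] at x0 x1 x5
  have e12 : v 1 = v 2 := by
    rw [show (c[0, 1, 2] : Perm (Fin 6)) 0 = 1 by decide] at x0
    rw [show (c[0, 1, 2] : Perm (Fin 6)) 1 = 2 by decide] at x1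
    simp only [Matrix.cons_val_zero, Matrix.cons_val_one, one_smul] at x0 x1
    rw [← x0, ← x1, h01]
  have e03 : v 0 = v 3 := by
    have y1 := f.a1 1
    have y2 := f.a1 2
    rw [d.ht1] at y1 y2
    rw [show (c[0, 1] * c[2, 3] : Perm (Fin 6)) 1 = 0 by decide] at y1
    rw [show (c[0, 1] * c[2, 3] : Perm (Fin 6)) 2 = 3 by decide] at y2
    rw [← y1, ← y2, e12]
  have e05 : v 0 = v 5 := by
    have y1 := f.ar 0
    have y2 := f.ar 3
    rw [d.hr] at y1 y2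
    rw [show (c[2, 4] * c[3, 5] : Perm (Fin 6)) 0 = 0 by decide] at y1
    rw [show (c[2, 4] * c[3, 5] : Perm (Fin 6)) 3 = 5 by decide] at y2
    rw [← y1, ← y2, e03]
  have x3 := f.ax 3
  rw [d.hx] at x3
  rw [show (c[0, 1, 2] : Perm (Fin 6)) 3 = 3 by decide] at x3
  rw [show (c[0, 1, 2] : Perm (Fin 6)) 5 = 5 by decide, ← e05] at x5
  rw [← e03] at x3
  have h3 : (![1, 1, 1, 1, c * c, c] : Fin 6 → F) 3 = 1 := rfl
  have h5 : (![1, 1, 1, 1, c * c, c] : Fin 6 → F) 5 = c := rfl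
  rw [h3, one_smul] at x3
  rw [h5, x3] at x5
  apply f.ne_one h d
  have h6 : (c - 1) • v 0 = 0 := by rw [sub_smul, ← x5, one_smul, sub_self]
  rcases smul_eq_zero.1 h6 with h7 | h7
  · linear_combination h7
  · exact absurd h7 (f.ne 0)

theorem Frame.rel_apply {g : G} {e : Fin 6 → F} (hg : ∀ i, m g *ᵥ v i = e i • v (φ g i)) {k : Fin 6 → F}
    (hk : ∑ i, k i • v i = 0) : ∑ i, (k i * e i) • v (φ g i) = 0 := by
  have h1 : m g *ᵥ (∑ i, k i • v i) = 0 := by rw [hk, Matrix.mulVec_zero]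
  rw [Matrix.mulVec_sum] at h1
  rw [← h1]
  refine Finset.sum_congr rfl fun i _ => ?_
  rw [Matrix.mulVec_smul, hg, smul_smul]

theorem Frame.rel01 (h : Hex m φ) (d : Data m φ t1 t2 u r x a b) (f : Frame m φ t1 t2 u r x v c) (h2 : (2 : F) ≠ 0)
    {k : Fin 6 → F} (hk : ∑ i, k i • v i = 0) : k 0 = k 1 := by
  have r1 := Frame.rel_apply (g := t1) (e := fun _ => 1) (fun i => by rw [one_smul, f.a1]) hk
  have r2 := Frame.rel_apply (g := u) (e := fun _ => 1) (fun i => by rw [one_smul, f.au]) hk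
  have r3 := Frame.rel_apply (g := t1 * u) (e := fun _ => 1) (fun i => by
    rw [one_smul, map_mul, ← Matrix.mulVec_mulVec, f.au, f.a1, map_mul, Perm.mul_apply]) hk
  rw [map_mul] at r3
  rw [d.ht1] at r1 r3
  rw [d.hu] at r2 r3
  simp only [mul_one] at r1 r2 r3
  rw [Fin.sum_univ_six] at r1 r2 r3 hk
  rw [show (c[0, 1] * c[2, 3] : Perm (Fin 6)) 0 = 1 by decide, show (c[0, 1] * c[2, 3] : Perm (Fin 6)) 1 = 0 by decide,
    show (c[0, 1] * c[2, 3] : Perm (Fin 6)) 2 = 3 by decide, show (c[0, 1] * c[2, 3] : Perm (Fin 6)) 3 = 2 by decide,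
    show (c[0, 1] * c[2, 3] : Perm (Fin 6)) 4 = 4 by decide, show (c[0, 1] * c[2, 3] : Perm (Fin 6)) 5 = 5 by decide] at r1
  rw [show (c[0, 1] * c[4, 5] : Perm (Fin 6)) 0 = 1 by decide, show (c[0, 1] * c[4, 5] : Perm (Fin 6)) 1 = 0 by decide,
    show (c[0, 1] * c[4, 5] : Perm (Fin 6)) 2 = 2 by decide, show (c[0, 1] * c[4, 5] : Perm (Fin 6)) 3 = 3 by decide,
    show (c[0, 1] * c[4, 5] : Perm (Fin 6)) 4 = 5 by decide, show (c[0, 1] * c[4, 5] : Perm (Fin 6)) 5 = 4 by decide] at r2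
  rw [show (c[0, 1] * c[2, 3] * (c[0, 1] * c[4, 5]) : Perm (Fin 6)) 0 = 0 by decide,
    show (c[0, 1] * c[2, 3] * (c[0, 1] * c[4, 5]) : Perm (Fin 6)) 1 = 1 by decide,
    show (c[0, 1] * c[2, 3] * (c[0, 1] * c[4, 5]) : Perm (Fin 6)) 2 = 3 by decide,
    show (c[0, 1] * c[2, 3] * (c[0, 1] * c[4, 5]) : Perm (Fin 6)) 3 = 2 by decide,
    show (c[0, 1] * c[2, 3] * (c[0, 1] * c[4, 5]) : Perm (Fin 6)) 4 = 5 by decide,
    show (c[0, 1] * c[2, 3] * (c[0, 1] * c[4, 5]) : Perm (Fin 6)) 5 = 4 by decide] at r3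
  have e : ((2 : F) * (k 0 - k 1)) • (v 0 - v 1) = 0 := by
    have : ((2 : F) * (k 0 - k 1)) • (v 0 - v 1) =
        (k 0 • v 0 + k 1 • v 1 + k 2 • v 2 + k 3 • v 3 + k 4 • v 4 + k 5 • v 5) +
        (k 0 • v 0 + k 1 • v 1 + k 2 • v 3 + k 3 • v 2 + k 4 • v 5 + k 5 • v 4) -
        (k 0 • v 1 + k 1 • v 0 + k 2 • v 3 + k 3 • v 2 + k 4 • v 4 + k 5 • v 5) -
        (k 0 • v 1 + k 1 • v 0 + k 2 • v 2 + k 3 • v 3 + k 4 • v 5 + k 5 • v 4) := by module
    rw [this, hk, r1, r2, r3]; simp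
  rcases smul_eq_zero.1 e with h3 | h3
  · rcases mul_eq_zero.1 h3 with h4 | h4
    · exact absurd h4 h2
    · exact sub_eq_zero.1 h4
  · exact absurd (sub_eq_zero.1 h3) (f.v01 h d)

theorem Frame.rel_all (h : Hex m φ) (d : Data m φ t1 t2 u r x a b) (f : Frame m φ t1 t2 u r x v c) (h2 : (2 : F) ≠ 0)
    {k : Fin 6 → F} (hk : ∑ i, k i • v i = 0) :
    k 0 = k 1 ∧ k 1 = k 2 ∧ k 2 = k 3 ∧ k 4 = k 5 ∧ k 3 = k 4 := by
  -- relations with permuted coefficients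
  have perm : ∀ (σ : Perm (Fin 6)) (k' : Fin 6 → F), (∑ i, k' i • v (σ i)) = ∑ i, k' (σ.symm i) • v i := by
    intro σ k'
    rw [← Equiv.sum_comp σ.symm]
    simp
  have a1 := Frame.rel_apply (g := x) f.ax hk
  have a2 := Frame.rel_apply (g := t2) (e := fun _ => 1) (fun i => by rw [one_smul, f.a2]) hk
  have a3 := Frame.rel_apply (g := r) (e := fun _ => 1) (fun i => by rw [one_smul, f.ar]) hk
  have b1 := f.rel01 h d h2 hk
  rw [perm, d.hx] at a1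
  rw [perm, d.ht2] at a2
  rw [perm, d.hr] at a3
  have c1 := f.rel01 h d h2 a1
  have c2 := f.rel01 h d h2 a2
  -- `r` then `t2`
  have a4 := Frame.rel_apply (g := t2) (e := fun _ => 1) (fun i => by rw [one_smul, f.a2]) a3
  rw [perm, d.ht2] at a4
  have c4 := f.rel01 h d h2 a4
  rw [show (c[0, 1, 2] : Perm (Fin 6)).symm 0 = 2 by decide, show (c[0, 1, 2] : Perm (Fin 6)).symm 1 = 0 by decide] at c1
  rw [show (c[0, 2] * c[1, 3] : Perm (Fin 6)).symm 0 = 2 by decide,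
    show (c[0, 2] * c[1, 3] : Perm (Fin 6)).symm 1 = 3 by decide] at c2 c4
  rw [show (c[2, 4] * c[3, 5] : Perm (Fin 6)).symm 2 = 4 by decide,
    show (c[2, 4] * c[3, 5] : Perm (Fin 6)).symm 3 = 5 by decide] at c4
  have m2 : (![1, 1, 1, 1, c * c, c] : Fin 6 → F) 2 = 1 := rfl
  have m0 : (![1, 1, 1, 1, c * c, c] : Fin 6 → F) 0 = 1 := rfl
  simp only [m2, m0, mul_one] at c1 c2 c4
  -- `x` after `r`: `k 3 = k 4` needs one more
  have a5 := Frame.rel_apply (g := x) f.ax a3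
  rw [perm, d.hx] at a5
  have c5 := f.rel01 h d h2 a5
  rw [show (c[0, 1, 2] : Perm (Fin 6)).symm 0 = 2 by decide, show (c[0, 1, 2] : Perm (Fin 6)).symm 1 = 0 by decide,
    show (c[2, 4] * c[3, 5] : Perm (Fin 6)).symm 2 = 4 by decide,
    show (c[2, 4] * c[3, 5] : Perm (Fin 6)).symm 0 = 0 by decide] at c5
  simp only [m2, m0, mul_one] at c5
  refine ⟨b1, ?_, c2, c4, ?_⟩
  · rw [← b1, c1]
  · rw [← c2, c1, c5]

theorem Frame.indep (h : Hex m φ) (d : Data m φ t1 t2 u r x a b) (f : Frame m φ t1 t2 u r x v c) (h2 : (2 : F) ≠ 0)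
    {k : Fin 6 → F} (hk : ∑ i, k i • v i = 0) : ∀ i, k i = 0 := by
  obtain ⟨k0, k1, k2, k3, k4⟩ := f.rel_all h d h2 hk
  have a1 := Frame.rel_apply (g := x) f.ax hk
  have perm : ∀ (σ : Perm (Fin 6)) (k' : Fin 6 → F), (∑ i, k' i • v (σ i)) = ∑ i, k' (σ.symm i) • v i := by
    intro σ k'
    rw [← Equiv.sum_comp σ.symm]
    simp
  rw [perm, d.hx] at a1
  obtain ⟨l0, l1, l2, l3, l4⟩ := f.rel_all h d h2 a1
  rw [show (c[0, 1, 2] : Perm (Fin 6)).symm 4 = 4 by decide, show (c[0, 1, 2] : Perm (Fin 6)).symm 5 = 5 by decide] at l3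
  rw [show (c[0, 1, 2] : Perm (Fin 6)).symm 3 = 3 by decide, show (c[0, 1, 2] : Perm (Fin 6)).symm 4 = 4 by decide] at l4
  have m3 : (![1, 1, 1, 1, c * c, c] : Fin 6 → F) 3 = 1 := rfl
  have m4 : (![1, 1, 1, 1, c * c, c] : Fin 6 → F) 4 = c * c := rfl
  have m5 : (![1, 1, 1, 1, c * c, c] : Fin 6 → F) 5 = c := rfl
  rw [m3, m4, mul_one] at l4
  rw [m4, m5] at l3
  have hc1 := f.ne_one h d
  have h5 : k 5 = 0 := by
    have e1 : k 5 * (c - 1) = 0 := by linear_combination l3 * (-1) + l4 * (-1) + k4 + (c * c) * k3 - (c * c) * k3 + k3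
    rcases mul_eq_zero.1 e1 with h6 | h6
    · exact h6
    · exact absurd (by linear_combination h6) hc1
  intro i
  fin_cases i
  · show k 0 = 0; rw [k0, k1, k2, k4, k3, h5]
  · show k 1 = 0; rw [k1, k2, k4, k3, h5]
  · show k 2 = 0; rw [k2, k4, k3, h5]
  · show k 3 = 0; rw [k4, k3, h5]
  · show k 4 = 0; rw [k3, h5]
  · exact h5

end Cfsg.Agent.H910.Six
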