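import Mathlib

/-!
# The groups `3.A₆` in dimension six: lifts (helper910)

`Hex m φ`: `m` is a faithful six-dimensional representation of `G`, `φ : G → S₆` has image `A₆`, the kernel acts by
cube roots of unity and the lifts of `(0 1 2)` and `(3 4 5)` do not commute.
-/

set_option autoImplicit false
set_option linter.unusedSectionVars false

open Matrix Equiv

namespace Cfsg.Agent.H910.Six

variable {F : Type*} [Field F]

/-- six by six matrices -/
abbrev M6 (F : Type*) := Matrix (Fin 6) (Fin 6) F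

section idem

variable {n : Type*} [Fintype n] [DecidableEq n]

theorem trace_idem {E : Matrix n n F} (h : E * E = E) : E.trace = (E.rank : F) := by
  have h1 : LinearMap.IsProj (LinearMap.range E.mulVecLin) E.mulVecLin := by
    refine ⟨fun x => ⟨x, rfl⟩, ?_⟩
    rintro _ ⟨y, rfl⟩
    rw [Matrix.mulVecLin_apply, Matrix.mulVecLin_apply, Matrix.mulVec_mulVec, h]
  have h2 := h1.trace
  rw [← Matrix.toLin'_apply' E, Matrix.trace_toLin'_eq] at h2
  rw [h2]
  rfl

/-- `rank_eq_zero` for idempotents -/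
theorem eq_zero_of_rank {E : Matrix n n F} (h : E.rank = 0) : E = 0 := by
  rw [Matrix.rank, Submodule.finrank_eq_zero, LinearMap.range_eq_bot] at h
  rw [← Matrix.toLin'_apply', ← map_zero (Matrix.toLin' : Matrix n n F ≃ₗ[F] _)] at h
  exact Matrix.toLin'.injective h

/-- an idempotent of trace `0` bounded by an idempotent of small rank is zero -/
theorem idem_eq_zero {p : ℕ} [CharP F p] {E D : Matrix n n F} (hE : E * E = E) (ht : E.trace = 0) (hED : E * D = E)
    (hr : D.rank < p) : E = 0 := by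
  apply eq_zero_of_rank
  have h1 : (E.rank : F) = 0 := by rw [← trace_idem hE, ht]
  rw [CharP.cast_eq_zero_iff F p] at h1
  have h2 : E.rank ≤ D.rank := by
    conv_lhs => rw [← hED]
    exact Matrix.rank_mul_le_right _ _
  exact Nat.eq_zero_of_dvd_of_lt h1 (lt_of_le_of_lt h2 hr)

end idem

section ring

variable {R : Type*} [Ring R] {A B X U : R}

theorem r_x (ma : A * A = 1) (mab : A * B = B * A) (mxa : X * A = A * B * X) (mxb : X * B = A * X)
    (mx : X * X * X = 1) : X * ((1 + A) * (1 + B) * (1 + X + X * X)) = (1 + A) * (1 + B) * (1 + X + X * X) := by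
  have e1 : X * ((1 + A) * (1 + B)) = (1 + A) * (1 + B) * X := by
    have e : A * B * (A * X) = B * X := by
      rw [mab]
      calc B * A * (A * X) = B * (A * A) * X := by noncomm_ring
        _ = B * X := by rw [ma, mul_one]
    calc X * ((1 + A) * (1 + B)) = X + X * A + X * B + (X * A) * B := by noncomm_ring
      _ = X + A * B * X + X * B + A * B * X * B := by rw [mxa]
      _ = X + A * B * X + X * B + A * B * (X * B) := by rw [mul_assoc (A * B) X B]
      _ = X + A * B * X + A * X + A * B * (A * X) := by rw [mxb]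
      _ = X + A * B * X + A * X + B * X := by rw [e]
      _ = (1 + A) * (1 + B) * X := by noncomm_ring
  rw [← mul_assoc, e1, mul_assoc]
  congr 1
  calc X * (1 + X + X * X) = X + X * X + X * X * X := by noncomm_ring
    _ = 1 + X + X * X := by rw [mx]; abel

theorem r_a (ma : A * A = 1) : A * ((1 + A) * (1 + B) * (1 + X + X * X)) = (1 + A) * (1 + B) * (1 + X + X * X) := by
  have : A * (1 + A) = 1 + A := by rw [mul_add, ma, mul_one, add_comm]
  rw [← mul_assoc, ← mul_assoc, this]

theorem r_b (mb : B * B = 1) (mab : A * B = B * A) :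
    B * ((1 + A) * (1 + B) * (1 + X + X * X)) = (1 + A) * (1 + B) * (1 + X + X * X) := by
  have e : B * ((1 + A) * (1 + B)) = (1 + A) * (1 + B) := by
    calc B * ((1 + A) * (1 + B)) = B + B * B + B * A + (B * A) * B := by noncomm_ring
      _ = B + 1 + A * B + A * B * B := by rw [mb, ← mab]
      _ = B + 1 + A * B + A * (B * B) := by rw [mul_assoc A B B]
      _ = (1 + A) * (1 + B) := by rw [mb]; noncomm_ring
  rw [← mul_assoc, e]

theorem r_sq (mx : X * X * X = 1) : (1 + X + X * X) * (1 + X + X * X) = 3 * (1 + X + X * X) := by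
  calc (1 + X + X * X) * (1 + X + X * X) =
      1 + 2 * X + 3 * (X * X) + 2 * (X * X * X) + X * X * X * X := by noncomm_ring
    _ = 3 * (1 + X + X * X) := by rw [mx]; noncomm_ring

theorem r_us (mx : X * X * X = 1) (mux : U * X = X * X * U) : U * (1 + X + X * X) = (1 + X + X * X) * U := by
  have e : X * X * U * X = X * U := by
    rw [mul_assoc (X * X), mux]
    calc X * X * (X * X * U) = X * X * X * (X * U) := by noncomm_ring
      _ = X * U := by rw [mx, one_mul]
  calc U * (1 + X + X * X) = U + U * X + (U * X) * X := by noncomm_ring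
    _ = U + X * X * U + X * X * U * X := by rw [mux]
    _ = U + X * X * U + X * U := by rw [e]
    _ = (1 + X + X * X) * U := by noncomm_ring

theorem r_expand : (1 + A) * (1 + B) * (1 + X + X * X) = 1 + A + B + A * B + X + X * X +
    A * X + B * X + A * B * X + A * (X * X) + B * (X * X) + A * B * (X * X) := by noncomm_ring

theorem r_idem {S : R} (mu : U * U = 1) (us : U * S = S * U) (ss : S * S = 3 * S) :
    (1 - U) * S * ((1 - U) * S) = 6 * ((1 - U) * S) := by
  have e1 : (1 - U) * (1 - U) = 2 * (1 - U) := by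
    calc (1 - U) * (1 - U) = 1 - 2 * U + U * U := by noncomm_ring
      _ = 2 * (1 - U) := by rw [mu]; noncomm_ring
  have e2 : S * (1 - U) = (1 - U) * S := by rw [mul_sub, sub_mul, us, mul_one, one_mul]
  calc (1 - U) * S * ((1 - U) * S) = (1 - U) * (S * (1 - U)) * S := by noncomm_ring
    _ = (1 - U) * (1 - U) * (S * S) := by rw [e2]; noncomm_ring
    _ = 6 * ((1 - U) * S) := by rw [e1, ss]; noncomm_ring

end ring

/-- See the head of the file. -/
structure Hex {G : Type*} [Group G] (m : G →* M6 F) (φ : G →* Perm (Fin 6)) : Prop where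
  inj : Function.Injective m
  onto : ∀ σ : Perm (Fin 6), Perm.sign σ = 1 → ∃ g, φ g = σ
  even : ∀ g, Perm.sign (φ g) = 1
  ker : ∀ g, φ g = 1 → ∃ c : F, c ^ 3 = 1 ∧ m g = c • (1 : M6 F)
  nc : ∃ x y, φ x = c[0, 1, 2] ∧ φ y = c[3, 4, 5] ∧ x * y ≠ y * x

section lifts

variable {G : Type*} [Group G] {m : G →* M6 F} {φ : G →* Perm (Fin 6)}

theorem Hex.smul_of_ker (h : Hex m φ) {k : G} (hk : φ k = 1) : ∃ c : F, c ^ 3 = 1 ∧ c ≠ 0 ∧
    (∀ g, m (k * g) = c • m g) ∧ (c = 1 → k = 1) := by
  obtain ⟨c, hc, hm⟩ := h.ker k hk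
  refine ⟨c, hc, ?_, ?_, ?_⟩
  · rintro rfl; norm_num at hc
  · intro g; rw [map_mul, hm, smul_mul_assoc, one_mul]
  · rintro rfl
    apply h.inj
    rw [hm, one_smul, map_one]

theorem Hex.central (h : Hex m φ) {k : G} (hk : φ k = 1) (g : G) : k * g = g * k := by
  obtain ⟨c, hc, hm⟩ := h.ker k hk
  apply h.inj
  rw [map_mul, map_mul, hm, smul_mul_assoc, one_mul, mul_smul_comm, mul_one]

theorem Hex.cube (h : Hex m φ) {k : G} (hk : φ k = 1) : k * k * k = 1 := by
  obtain ⟨c, hc, hm⟩ := h.ker k hk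
  apply h.inj
  rw [map_mul, map_mul, hm, map_one, smul_mul_smul_comm, smul_mul_smul_comm, one_mul, one_mul,
    show c * c * c = c ^ 3 by ring, hc, one_smul]

/-- uniqueness of the involution over an involution -/
theorem Hex.uniq (h : Hex m φ) {g g' : G} (h1 : φ g = φ g') (hg : g * g = 1) (hg' : g' * g' = 1) : g = g' := by
  have hk : φ (g⁻¹ * g') = 1 := by rw [map_mul, map_inv, h1, inv_mul_cancel]
  have hc := h.central hk g
  have h3 := h.cube hk
  have e : g' = g * (g⁻¹ * g') := by group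
  generalize g⁻¹ * g' = k at *
  have h4 : k * k = 1 := by
    have : g' * g' = g * g * (k * k) := by
      rw [e]
      calc g * k * (g * k) = g * (k * g) * k := by group
        _ = g * (g * k) * k := by rw [hc]
        _ = g * g * (k * k) := by group
    rw [hg, hg', one_mul] at this
    exact this.symm
  rw [h4, one_mul] at h3
  rw [e, h3, mul_one]

theorem Hex.exists_inv (h : Hex m φ) (s : Perm (Fin 6)) (hs : s * s = 1) (hsg : Perm.sign s = 1) :
    ∃ g, φ g = s ∧ g * g = 1 := by
  obtain ⟨g, hg⟩ := h.onto s hsg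
  have hk : φ (g * g) = 1 := by rw [map_mul, hg, hs]
  refine ⟨g * (g * g), by rw [map_mul, hk, hg, mul_one], ?_⟩
  have h3 := h.cube hk
  calc g * (g * g) * (g * (g * g)) = g * g * (g * g) * (g * g) := by group
    _ = 1 := h3

/-- lifts of commuting involutions commute -/
theorem Hex.comm (h : Hex m φ) {a b : G} (hab : φ a * φ b = φ b * φ a) (hb : b * b = 1) :
    a * b = b * a := by
  have h1 : a * b * a⁻¹ = b := h.uniq (by rw [map_mul, map_mul, hab, map_inv, mul_inv_cancel_right])
    (by rw [show a * b * a⁻¹ * (a * b * a⁻¹) = a * (b * b) * a⁻¹ by group, hb, mul_one, mul_inv_cancel]) hb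
  calc a * b = a * b * a⁻¹ * a := by group
    _ = b * a := by rw [h1]

/-- the conjugate of an involution is the involution over the conjugate -/
theorem Hex.conj (h : Hex m φ) {a b k : G} (hab : φ k * φ a * (φ k)⁻¹ = φ b) (ha : a * a = 1) (hb : b * b = 1) :
    k * a * k⁻¹ = b :=
  h.uniq (by rw [map_mul, map_mul, map_inv, hab])
    (by rw [show k * a * k⁻¹ * (k * a * k⁻¹) = k * (a * a) * k⁻¹ by group, ha, mul_one, mul_inv_cancel]) hb

theorem Hex.mul_inv (h : Hex m φ) {a b c : G} (hab : φ a * φ b = φ b * φ a) (ha : a * a = 1) (hb : b * b = 1)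
    (hc : c * c = 1) (habc : φ a * φ b = φ c) : a * b = c := by
  refine h.uniq (by rw [map_mul, habc]) ?_ hc
  have := h.comm hab hb
  calc a * b * (a * b) = a * (b * a) * b := by group
    _ = a * (a * b) * b := by rw [this]
    _ = (a * a) * (b * b) := by group
    _ = 1 := by rw [ha, hb, mul_one]

/-- the lift of an element of order three inverted by an involution -/
theorem Hex.exists_three (h : Hex m φ) {s : Perm (Fin 6)} {u : G} (hsg : Perm.sign s = 1)
    (hinv : φ u * s * φ u = s⁻¹) : ∃ x, φ x = s ∧ u * x * u = x⁻¹ := by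
  obtain ⟨x, hx⟩ := h.onto s hsg
  have hk : φ (u * x * u * x) = 1 := by rw [map_mul, map_mul, map_mul, hx, hinv, inv_mul_cancel]
  have hc := fun g => h.central hk g
  have h3 := h.cube hk
  generalize hkk : u * x * u * x = k at *
  refine ⟨x * k, by rw [map_mul, hk, hx, mul_one], ?_⟩
  rw [eq_inv_iff_mul_eq_one]
  calc u * (x * k) * u * (x * k) = u * x * (k * u) * (x * k) := by group
    _ = u * x * (u * k) * (x * k) := by rw [hc]
    _ = u * x * u * (k * x) * k := by group
    _ = u * x * u * (x * k) * k := by rw [hc]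
    _ = (u * x * u * x) * k * k := by group
    _ = 1 := by rw [hkk, h3]

theorem Hex.cube_three (h : Hex m φ) {x u : G} (hx : φ x * φ x * φ x = 1) (hu : u * u = 1) (hinv : u * x * u = x⁻¹) :
    x * x * x = 1 := by
  have hk : φ (x * x * x) = 1 := by rw [map_mul, map_mul, hx]
  have hc := h.central hk u
  have h3 := h.cube hk
  have h4 : u * (x * x * x) * u = (x * x * x)⁻¹ := by
    calc u * (x * x * x) * u = (u * x * u) * (u⁻¹ * u⁻¹) * (u * x * u) * (u⁻¹ * u⁻¹) * (u * x * u) := by group
      _ = x⁻¹ * x⁻¹ * x⁻¹ := by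
        rw [hinv, show u⁻¹ * u⁻¹ = (u * u)⁻¹ by group, hu, inv_one, mul_one, mul_one]
      _ = (x * x * x)⁻¹ := by group
  generalize x * x * x = k at *
  have h5 : u * k * u = k := by rw [mul_assoc, hc, ← mul_assoc, hu, one_mul]
  rw [h5] at h4
  have h6 : k * k = 1 := by nth_rewrite 1 [h4]; exact inv_mul_cancel k
  rw [h6, one_mul] at h3
  exact h3

theorem tr_conj' (m : G →* M6 F) (k g : G) : (m (k * g * k⁻¹)).trace = (m g).trace := by
  rw [map_mul, Matrix.trace_mul_comm, ← map_mul, inv_mul_cancel_left]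

/-- the trace of an element over a three-cycle is zero -/
theorem Hex.trace_zero (h : Hex m φ) {x : G} (hx : φ x = c[0, 1, 2]) : (m x).trace = 0 := by
  obtain ⟨x', y, h1, h2, h3⟩ := h.nc
  have hk : φ (x'⁻¹ * x) = 1 := by rw [map_mul, map_inv, h1, hx, inv_mul_cancel]
  have h3' : x * y ≠ y * x := by
    intro h4
    apply h3
    have hc := h.central hk
    have e : x' = x * (x'⁻¹ * x)⁻¹ := by group
    generalize x'⁻¹ * x = k at *
    have hc' : ∀ g, k⁻¹ * g = g * k⁻¹ := fun g => by
      rw [inv_mul_eq_iff_eq_mul, ← mul_assoc, hc, mul_inv_cancel_right]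
    rw [e]
    calc x * k⁻¹ * y = x * (k⁻¹ * y) := by group
      _ = x * y * k⁻¹ := by rw [hc']; group
      _ = y * x * k⁻¹ := by rw [h4]
      _ = y * (x * k⁻¹) := by group
  have hk2 : φ (y * x * y⁻¹ * x⁻¹) = 1 := by
    rw [map_mul, map_mul, map_mul, map_inv, map_inv, hx, h2]; decide
  obtain ⟨c, hc, hc0, hm, h1'⟩ := h.smul_of_ker hk2
  have h5 : (m (y * x * y⁻¹)).trace = c * (m x).trace := by
    rw [show y * x * y⁻¹ = y * x * y⁻¹ * x⁻¹ * x by group, hm, Matrix.trace_smul, smul_eq_mul]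
  rw [tr_conj'] at h5
  have hc1 : c ≠ 1 := by
    intro hc1
    apply h3'
    have := h1' hc1
    have h6 : y * x * y⁻¹ * x⁻¹ = 1 := this
    have h7 : y * x = x * y := by
      calc y * x = (y * x * y⁻¹ * x⁻¹) * (x * y) := by group
        _ = x * y := by rw [h6, one_mul]
    exact h7.symm
  have h8 : (1 - c) * (m x).trace = 0 := by linear_combination h5
  rcases mul_eq_zero.1 h8 with h9 | h9
  · exact absurd (by linear_combination -h9 : c = 1) hc1
  · exact h9

theorem Hex.trace_zero' (h : Hex m φ) {x : G} {τ : Perm (Fin 6)} (hτ : Perm.sign τ = 1)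
    (hx : φ x = τ * c[0, 1, 2] * τ⁻¹) : (m x).trace = 0 := by
  obtain ⟨k, hk⟩ := h.onto τ hτ
  rw [← tr_conj' m k⁻¹ x]
  apply h.trace_zero
  rw [inv_inv, map_mul, map_mul, map_inv, hx, hk]
  group

/-- the chosen lifts -/
structure Data (m : G →* M6 F) (φ : G →* Perm (Fin 6)) (t1 t2 u r x a b : G) : Prop where
  ht1 : φ t1 = c[0, 1] * c[2, 3]
  ht2 : φ t2 = c[0, 2] * c[1, 3]
  hu : φ u = c[0, 1] * c[4, 5]
  hr : φ r = c[2, 4] * c[3, 5]
  hx : φ x = c[0, 1, 2]
  ha : φ a = c[0, 1] * c[2, 4]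
  hb : φ b = c[0, 2] * c[1, 4]
  qt1 : t1 * t1 = 1
  qt2 : t2 * t2 = 1
  qu : u * u = 1
  qr : r * r = 1
  qa : a * a = 1
  qb : b * b = 1
  qx : x * x * x = 1
  ux : u * x * u = x⁻¹

theorem Hex.exists_data (h : Hex m φ) : ∃ t1 t2 u r x a b : G, Data m φ t1 t2 u r x a b := by
  obtain ⟨t1, ht1, qt1⟩ := h.exists_inv (c[0, 1] * c[2, 3]) (by decide) (by decide)
  obtain ⟨t2, ht2, qt2⟩ := h.exists_inv (c[0, 2] * c[1, 3]) (by decide) (by decide)
  obtain ⟨u, hu, qu⟩ := h.exists_inv (c[0, 1] * c[4, 5]) (by decide) (by decide)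
  obtain ⟨r, hr, qr⟩ := h.exists_inv (c[2, 4] * c[3, 5]) (by decide) (by decide)
  obtain ⟨a, ha, qa⟩ := h.exists_inv (c[0, 1] * c[2, 4]) (by decide) (by decide)
  obtain ⟨b, hb, qb⟩ := h.exists_inv (c[0, 2] * c[1, 4]) (by decide) (by decide)
  obtain ⟨x, hx, ux⟩ := h.exists_three (s := c[0, 1, 2]) (u := u) (by decide) (by rw [hu]; decide)
  exact ⟨t1, t2, u, r, x, a, b, ht1, ht2, hu, hr, hx, ha, hb, qt1, qt2, qu, qr, qa, qb,
    h.cube_three (by rw [hx]; decide) qu ux, ux⟩

variable {t1 t2 u r x a b : G}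

theorem Data.inv_x (d : Data m φ t1 t2 u r x a b) : x⁻¹ = x * x := by
  rw [inv_eq_iff_mul_eq_one, ← mul_assoc]; exact d.qx

/-- the group `A₄` on `{0, 1, 2, 4}` -/
theorem Data.rel (h : Hex m φ) (d : Data m φ t1 t2 u r x a b) :
    a * b = b * a ∧ x * a * x⁻¹ = a * b ∧ x * b * x⁻¹ = a := by
  have h1 : a * b = b * a := h.comm (by rw [d.ha, d.hb]; decide) d.qb
  have q : a * b * (a * b) = 1 := by
    calc a * b * (a * b) = a * (b * a) * b := by group
      _ = (a * a) * (b * b) := by rw [← h1]; group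
      _ = 1 := by rw [d.qa, d.qb, mul_one]
  refine ⟨h1, h.conj (by rw [map_mul, d.hx, d.ha, d.hb]; decide) d.qa q,
    h.conj (by rw [d.hx, d.ha, d.hb]; decide) d.qb d.qa⟩

theorem Data.traces (h : Hex m φ) (d : Data m φ t1 t2 u r x a b) :
    (m x).trace = 0 ∧ (m (x * x)).trace = 0 ∧ (m (a * x)).trace = 0 ∧ (m (b * x)).trace = 0 ∧
    (m (a * b * x)).trace = 0 ∧ (m (a * (x * x))).trace = 0 ∧ (m (b * (x * x))).trace = 0 ∧
    (m (a * b * (x * x))).trace = 0 := by
  obtain ⟨h1, h2, h3⟩ := d.rel h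
  have h4 : x * (a * b) * x⁻¹ = b := by
    calc x * (a * b) * x⁻¹ = (x * a * x⁻¹) * (x * b * x⁻¹) := by group
      _ = a * b * a := by rw [h2, h3]
      _ = b * (a * a) := by rw [h1]; group
      _ = b := by rw [d.qa, mul_one]
  have z := h.trace_zero d.hx
  have z2 : (m (x * x)).trace = 0 := by
    rw [← d.inv_x, ← d.ux]
    have : u = u⁻¹ := by rw [eq_inv_iff_mul_eq_one]; exact d.qu
    nth_rewrite 2 [this]
    rw [tr_conj', z]
  have ia : a⁻¹ = a := by rw [inv_eq_iff_mul_eq_one]; exact d.qa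
  have ib : b⁻¹ = b := by rw [inv_eq_iff_mul_eq_one]; exact d.qb
  have iab : (a * b)⁻¹ = a * b := by rw [_root_.mul_inv_rev, ia, ib, h1]
  refine ⟨z, z2, ?_, ?_, ?_, ?_, ?_, ?_⟩
  · have e : a * b * x * (a * b)⁻¹ = a * x := by
      rw [iab]
      calc a * b * x * (a * b) = a * b * (x * (a * b) * x⁻¹) * x := by group
        _ = a * (b * b) * x := by rw [h4]; group
        _ = a * x := by rw [d.qb, mul_one]
    rw [← e, tr_conj', z]
  · have e : a * x * a⁻¹ = b * x := by
      rw [ia]
      calc a * x * a = a * (x * a * x⁻¹) * x := by group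
        _ = (a * a) * b * x := by rw [h2]; group
        _ = b * x := by rw [d.qa, one_mul]
    rw [← e, tr_conj', z]
  · have e : b * x * b⁻¹ = a * b * x := by
      rw [ib]
      calc b * x * b = b * (x * b * x⁻¹) * x := by group
        _ = a * b * x := by rw [h3, h1]
    rw [← e, tr_conj', z]
  · have e : b * (x * x) * b⁻¹ = a * (x * x) := by
      rw [ib]
      calc b * (x * x) * b = b * (x * (x * b * x⁻¹) * x⁻¹) * (x * x) := by group
        _ = b * (a * b) * (x * x) := by rw [h3, h2]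
        _ = (b * a) * b * (x * x) := by group
        _ = a * (b * b) * (x * x) := by rw [← h1]; group
        _ = a * (x * x) := by rw [d.qb, mul_one]
    rw [← e, tr_conj', z2]
  · have e : a * b * (x * x) * (a * b)⁻¹ = b * (x * x) := by
      rw [iab]
      calc a * b * (x * x) * (a * b) = a * b * (x * (x * (a * b) * x⁻¹) * x⁻¹) * (x * x) := by group
        _ = (a * b) * a * (x * x) := by rw [h4, h3]
        _ = b * (a * a) * (x * x) := by rw [h1]; group
        _ = b * (x * x) := by rw [d.qa, mul_one]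
    rw [← e, tr_conj', z2]
  · have e : a * (x * x) * a⁻¹ = a * b * (x * x) := by
      rw [ia]
      calc a * (x * x) * a = a * (x * (x * a * x⁻¹) * x⁻¹) * (x * x) := by group
        _ = a * b * (x * x) := by rw [h2, h4]
    rw [← e, tr_conj', z2]

/-- the vector fixed by the group `A₅` of the point `3` -/
theorem Data.exists_fixed {p : ℕ} [CharP F p] (hp : 5 ≤ p) (h : Hex m φ) (d : Data m φ t1 t2 u r x a b)
    (htr : ∀ g : G, g * g = 1 → φ g ≠ 1 → (m g).trace = 2) :
    ∃ v : Fin 6 → F, v ≠ 0 ∧ m x *ᵥ v = v ∧ m a *ᵥ v = v ∧ m b *ᵥ v = v ∧ m u *ᵥ v = v := by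
  obtain ⟨h1, h2, h3⟩ := d.rel h
  obtain ⟨z, z2, z3, z4, z5, z6, z7, z8⟩ := d.traces h
  have hne : ∀ n : ℕ, ¬ p ∣ n → (n : F) ≠ 0 := fun n hn h => hn ((CharP.cast_eq_zero_iff F p n).1 h)
  have n2 : (2 : F) ≠ 0 := by
    have := hne 2 (fun h => by have := Nat.le_of_dvd (by norm_num) h; omega)
    exact_mod_cast this
  have n3 : (3 : F) ≠ 0 := by
    have := hne 3 (fun h => by have := Nat.le_of_dvd (by norm_num) h; omega)
    exact_mod_cast this
  have q : a * b * (a * b) = 1 := by
    calc a * b * (a * b) = a * (b * a) * b := by group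
      _ = (a * a) * (b * b) := by rw [← h1]; group
      _ = 1 := by rw [d.qa, d.qb, mul_one]
  have ta := htr a d.qa (by rw [d.ha]; decide)
  have tb := htr b d.qb (by rw [d.hb]; decide)
  have tab := htr (a * b) q (by rw [map_mul, d.ha, d.hb]; decide)
  have t1' : (1 : M6 F).trace = 6 := by simp
  have mx : m x * m x * m x = 1 := by rw [← map_mul, ← map_mul, d.qx, map_one]
  have ma : m a * m a = 1 := by rw [← map_mul, d.qa, map_one]
  have mb : m b * m b = 1 := by rw [← map_mul, d.qb, map_one]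
  have mu : m u * m u = 1 := by rw [← map_mul, d.qu, map_one]
  have mab : m a * m b = m b * m a := by rw [← map_mul, h1, map_mul]
  have mxa : m x * m a = m a * m b * m x := by
    rw [← map_mul, ← map_mul, ← map_mul, ← h2]; congr 1; group
  have mxb : m x * m b = m a * m x := by
    rw [← map_mul, ← map_mul, ← h3]; congr 1; group
  -- the sum over `A₄`
  have hE : ((1 + m a) * (1 + m b) * (1 + m x + m x * m x)).trace = 12 := by
    have e : (1 + m a) * (1 + m b) * (1 + m x + m x * m x) = 1 + m a + m b + m (a * b) + m x + m (x * x) +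
        m (a * x) + m (b * x) + m (a * b * x) + m (a * (x * x)) + m (b * (x * x)) + m (a * b * (x * x)) := by
      rw [r_expand]
      simp only [map_mul]
    rw [e]
    simp only [Matrix.trace_add, t1', ta, tb, tab, z, z2, z3, z4, z5, z6, z7, z8]
    norm_num
  have hE0 : (1 + m a) * (1 + m b) * (1 + m x + m x * m x) ≠ 0 := by
    intro h0
    rw [h0, Matrix.trace_zero] at hE
    have h12 : (12 : F) = 2 * 2 * 3 := by norm_num
    rw [h12] at hE
    exact mul_ne_zero (mul_ne_zero n2 n2) n3 hE.symm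
  have xE := r_x ma mab mxa mxb mx
  have aE := r_a (B := m b) (X := m x) ma
  have bE := r_b (A := m a) (X := m x) mb mab
  have sx := r_sq mx
  have mux : m u * m x = m x * m x * m u := by
    have : u * x = x * x * u := by
      rw [← d.inv_x, ← d.ux, mul_assoc (u * x), d.qu, mul_one]
    rw [← map_mul, this, map_mul, map_mul]
  have mus := r_us mx mux
  set S : M6 F := 1 + m x + m x * m x with hS
  -- `S / 3` has rank two
  have tS : S.trace = 6 := by
    rw [hS, Matrix.trace_add, Matrix.trace_add, t1', z, ← map_mul, z2]; norm_num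
  have hpos : (3 : F)⁻¹ * 3 = 1 := inv_mul_cancel₀ n3
  have hpos2 : (2 : F)⁻¹ * 2 = 1 := inv_mul_cancel₀ n2
  have three_eq : (3 : M6 F) = (3 : F) • (1 : M6 F) := by
    ext i j
    simp [Matrix.one_apply, Matrix.ofNat_apply]
  have idS : ((3 : F)⁻¹ • S) * ((3 : F)⁻¹ • S) = (3 : F)⁻¹ • S := by
    rw [smul_mul_smul_comm, sx, three_eq, smul_mul_assoc, one_mul, smul_smul]
    congr 1
    field_simp
  have rS : ((3 : F)⁻¹ • S).rank < p := by
    have e1 := trace_idem idS
    rw [Matrix.trace_smul, tS, smul_eq_mul] at e1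
    have e2 : ((((3 : F)⁻¹ • S).rank : ℕ) : F) = ((2 : ℕ) : F) := by
      rw [← e1]; push_cast; field_simp; norm_num
    have e3 : ((3 : F)⁻¹ • S).rank ≤ 6 := by
      have := Matrix.rank_le_card_width ((3 : F)⁻¹ • S)
      simpa using this
    rw [CharP.cast_eq_iff_mod_eq F p] at e2
    rw [Nat.mod_eq_of_lt (show 2 < p by omega)] at e2
    by_contra hlt
    push Not at hlt
    have e4 : ((3 : F)⁻¹ • S).rank % p = ((3 : F)⁻¹ • S).rank - p := by
      rw [Nat.mod_eq_sub_mod hlt, Nat.mod_eq_of_lt (by omega)]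
    omega
  have six_eq : (6 : M6 F) = (6 : F) • (1 : M6 F) := by
    ext i j
    simp [Matrix.one_apply, Matrix.ofNat_apply]
  have n6 : (6 : F) ≠ 0 := by rw [show (6 : F) = 2 * 3 by norm_num]; exact mul_ne_zero n2 n3
  have hD := r_idem (S := S) mu mus sx
  have idE : ((6 : F)⁻¹ • ((1 - m u) * S)) * ((6 : F)⁻¹ • ((1 - m u) * S)) = (6 : F)⁻¹ • ((1 - m u) * S) := by
    rw [smul_mul_smul_comm, hD, six_eq, smul_mul_assoc, one_mul, smul_smul]
    congr 1
    field_simp
  have tux : (m (u * x)).trace = 2 := by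
    apply htr
    · calc u * x * (u * x) = (u * x * u) * x := by group
        _ = 1 := by rw [d.ux, inv_mul_cancel]
    · rw [map_mul, d.hu, d.hx]; decide
  have tuxx : (m (u * (x * x))).trace = 2 := by
    apply htr
    · calc u * (x * x) * (u * (x * x)) = (u * x * u) * (u * u)⁻¹ * (u * x * u) * (x * x) := by group
        _ = 1 := by rw [d.ux, d.qu]; group
    · rw [map_mul, map_mul, d.hu, d.hx]; decide
  have tE : ((6 : F)⁻¹ • ((1 - m u) * S)).trace = 0 := by
    have e : m u * S = m u + m (u * x) + m (u * (x * x)) := by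
      rw [hS, mul_add, mul_add, mul_one, map_mul, map_mul, map_mul]
    rw [Matrix.trace_smul, sub_mul, one_mul, Matrix.trace_sub, tS, e, Matrix.trace_add, Matrix.trace_add, tux, tuxx,
      htr u d.qu (by rw [d.hu]; decide)]
    norm_num
  have hED : ((6 : F)⁻¹ • ((1 - m u) * S)) * ((3 : F)⁻¹ • S) = (6 : F)⁻¹ • ((1 - m u) * S) := by
    rw [smul_mul_smul_comm, mul_assoc, sx, three_eq, smul_mul_assoc, one_mul, mul_smul_comm, smul_smul]
    congr 1
    field_simp
  have hz := idem_eq_zero idE tE hED rS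
  have hz' : (1 - m u) * S = 0 := by
    rcases smul_eq_zero.1 hz with h0 | h0
    · exact absurd h0 (inv_ne_zero n6)
    · exact h0
  -- a non-zero column
  obtain ⟨j, hj⟩ : ∃ j, ((1 + m a) * (1 + m b) * S) *ᵥ (Pi.single j 1) ≠ 0 := by
    by_contra hcon
    push Not at hcon
    apply hE0
    ext i k
    have := congrFun (hcon k) i
    rwa [Matrix.mulVec_single_one] at this
  refine ⟨_, hj, ?_, ?_, ?_, ?_⟩
  · rw [Matrix.mulVec_mulVec, xE]
  · rw [Matrix.mulVec_mulVec, aE]
  · rw [Matrix.mulVec_mulVec, bE]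
  · set v := ((1 + m a) * (1 + m b) * S) *ᵥ (Pi.single j 1) with hv
    have xv : m x *ᵥ v = v := by rw [hv, Matrix.mulVec_mulVec, xE]
    have sv : S *ᵥ v = (3 : F) • v := by
      rw [hS, Matrix.add_mulVec, Matrix.add_mulVec, Matrix.one_mulVec, ← Matrix.mulVec_mulVec, xv, xv]
      rw [show (3 : F) = 1 + 1 + 1 by norm_num, add_smul, add_smul, one_smul]
    have h0 : ((1 - m u) * S) *ᵥ v = 0 := by rw [hz', Matrix.zero_mulVec]
    rw [← Matrix.mulVec_mulVec, sv, Matrix.mulVec_smul, Matrix.sub_mulVec, Matrix.one_mulVec] at h0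
    rcases smul_eq_zero.1 h0 with h1 | h1
    · exact absurd h1 n3
    · exact (sub_eq_zero.1 h1).symm

end lifts

end Cfsg.Agent.H910.Six
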