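import Cfsg.Agent.H910.Six.Trace
import Cfsg.Agent.H915.LD

/-!
# A core with socle `A₆` and centre of order three is `3.A₆` (helper910)
-/

set_option autoImplicit false
set_option linter.unusedSectionVars false

open Matrix Equiv Cfsg Cfsg.Geo Cfsg.Agent.H915.LD

namespace Cfsg.Agent.H910.Six

section centr

/-- the subgroup of the elements commuting with `(0 1 2)` and `(3 4 5)` -/
def H9 : Subgroup (Perm (Fin 6)) := Subgroup.centralizer {c[0, 1, 2], c[3, 4, 5]}

theorem mem_H9 {σ : Perm (Fin 6)} : σ ∈ H9 ↔ (c[0, 1, 2] * σ = σ * c[0, 1, 2] ∧ c[3, 4, 5] * σ = σ * c[3, 4, 5]) := by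
  unfold H9
  rw [Subgroup.mem_centralizer_iff]
  simp

theorem H9_form : ∀ σ : Perm (Fin 6), (c[0, 1, 2] * σ = σ * c[0, 1, 2] ∧ c[3, 4, 5] * σ = σ * c[3, 4, 5]) →
    ∃ i j : Fin 3, σ = c[0, 1, 2] ^ (i : ℕ) * c[3, 4, 5] ^ (j : ℕ) := by
  decide +kernel

theorem card_H9 : Nat.card H9 = 9 := by
  have e : (H9 : Set (Perm (Fin 6))) = ((Finset.univ.filter fun σ : Perm (Fin 6) =>
      (c[0, 1, 2] * σ = σ * c[0, 1, 2] ∧ c[3, 4, 5] * σ = σ * c[3, 4, 5]) : Finset (Perm (Fin 6))) : Set (Perm (Fin 6))) := by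
    ext σ
    simp only [SetLike.mem_coe, mem_H9, Finset.coe_filter, Finset.mem_univ, true_and, Set.mem_setOf_eq]
  have : Nat.card H9 = Nat.card (H9 : Set (Perm (Fin 6))) := rfl
  rw [this, e, Nat.card_coe_set_eq, Set.ncard_coe_finset]
  decide +kernel

theorem H9_le : H9 ≤ alternatingGroup (Fin 6) := by
  intro σ hσ
  rw [mem_H9] at hσ
  obtain ⟨i, j, rfl⟩ := H9_form σ hσ
  rw [Perm.mem_alternatingGroup]
  revert i j
  decide

theorem relIndex_H9 : H9.relIndex (alternatingGroup (Fin 6)) = 40 := by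
  have h1 := Subgroup.relIndex_mul_relIndex (⊥ : Subgroup (Perm (Fin 6))) H9 (alternatingGroup (Fin 6)) bot_le H9_le
  rw [Subgroup.relIndex_bot_left, Subgroup.relIndex_bot_left, card_H9] at h1
  have h2 : Nat.card (alternatingGroup (Fin 6)) = 360 := by
    have h3 := nat_card_alternatingGroup (α := Fin 6)
    rw [Nat.card_eq_fintype_card (α := Fin 6), Fintype.card_fin] at h3
    rw [h3]
    rfl
  omega

end centr

/-- In a perfect group a central element of order `3` is not in the preimage of an abelian subgroup of index prime to three. -/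
theorem no_comm_of_perfect {G : Type*} [Group G] (hperf : commutator G = ⊤) {H : Subgroup G}
    (hc : ∀ a ∈ H, ∀ b ∈ H, a * b = b * a) {z : G} (hz : z ∈ Subgroup.center G) {n : ℕ} (hn : H.index = 3 * n + 1)
    (h3 : z ^ 3 = 1) : z = 1 := by
  letI : CommGroup H := { (inferInstance : Group H) with mul_comm := fun a b => Subtype.ext (hc a a.2 b b.2) }
  haveI : H.FiniteIndex := ⟨by rw [hn]; omega⟩
  have key : ∀ (k : ℕ) (g₀ : G), g₀⁻¹ * z ^ k * g₀ ∈ H → g₀⁻¹ * z ^ k * g₀ = z ^ k := by
    intro k g₀ _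
    have h1 := Subgroup.mem_center_iff.1 (pow_mem hz k) g₀
    rw [mul_assoc, ← h1, inv_mul_cancel_left]
  have h1 := MonoidHom.transfer_eq_pow (H := H) (MonoidHom.id H) z key
  have h2 : MonoidHom.transfer (MonoidHom.id H) z = 1 := by
    have : z ∈ (MonoidHom.transfer (MonoidHom.id H)).ker := by
      apply Abelianization.commutator_subset_ker
      rw [hperf]; trivial
    exact this
  rw [h2] at h1
  have h3' := congrArg (fun a : H => (a : G)) h1
  simp only [MonoidHom.id_apply] at h3'
  have h4 : z ^ H.index = 1 := h3'.symm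
  rw [hn, pow_succ, pow_mul, h3, one_pow, one_mul] at h4
  exact h4

variable {F : Type*} [Field F] {P : Subgroup (GL (Fin 6) F)}

/-- the matrices of `P` -/
def mrep (P : Subgroup (GL (Fin 6) F)) : P →* M6 F := (Units.coeHom _).comp P.subtype

theorem mrep_apply (g : P) : mrep P g = ((g : GL (Fin 6) F) : M6 F) := rfl

theorem mrep_inj : Function.Injective (mrep P) := by
  intro a b h
  exact Subtype.ext (Units.ext h)

/-- the permutations of `P` -/
def phi (e : Soc P ≃* alternatingGroup (Fin 6)) : P →* Perm (Fin 6) :=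
  (alternatingGroup (Fin 6)).subtype.comp (e.toMonoidHom.comp (toSoc P))

theorem phi_onto (e : Soc P ≃* alternatingGroup (Fin 6)) (σ : Perm (Fin 6)) (hσ : Perm.sign σ = 1) :
    ∃ g, phi e g = σ := by
  obtain ⟨g, hg⟩ := (e.surjective.comp (toSoc_surjective P)) ⟨σ, Perm.mem_alternatingGroup.2 hσ⟩
  exact ⟨g, congrArg Subtype.val hg⟩

theorem phi_even (e : Soc P ≃* alternatingGroup (Fin 6)) (g : P) : Perm.sign (phi e g) = 1 :=
  Perm.mem_alternatingGroup.1 (e (toSoc P g)).2

theorem mem_of_phi (e : Soc P ≃* alternatingGroup (Fin 6)) {g : P} : phi e g = 1 ↔ g ∈ (scalars (Fin 6) F).subgroupOf P := by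
  rw [← ker_comp e, MonoidHom.mem_ker]
  constructor
  · intro h
    exact Subtype.ext h
  · intro h
    exact congrArg Subtype.val h

theorem hex_of_core (hC : Core P) (e : Soc P ≃* alternatingGroup (Fin 6))
    (h3 : Nat.card ((scalars (Fin 6) F).subgroupOf P) = 3) : Hex (mrep P) (phi e) := by
  have hcube : ∀ z ∈ (scalars (Fin 6) F).subgroupOf P, z ^ 3 = 1 := by
    intro z hz
    have h4 : (⟨z, hz⟩ : (scalars (Fin 6) F).subgroupOf P) ^ Nat.card ((scalars (Fin 6) F).subgroupOf P) = 1 :=
      pow_card_eq_one'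
    rw [h3] at h4
    exact congrArg Subtype.val h4
  refine ⟨mrep_inj, phi_onto e, phi_even e, ?_, ?_⟩
  · intro g hg
    rw [mem_of_phi] at hg
    have h1 := hcube g hg
    rw [Subgroup.mem_subgroupOf, mem_scalars_iff] at hg
    obtain ⟨c, hc⟩ := hg
    refine ⟨c, ?_, hc⟩
    have h2 := congrArg (mrep P) h1
    rw [map_pow, map_one, mrep_apply, hc, smul_pow, one_pow] at h2
    have h5 := congrFun (congrFun h2 0) 0
    simpa using h5
  · obtain ⟨x, hx⟩ := phi_onto e c[0, 1, 2] (by decide)
    obtain ⟨y, hy⟩ := phi_onto e c[3, 4, 5] (by decide)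
    refine ⟨x, y, hx, hy, fun hxy => ?_⟩
    obtain ⟨z, hz, hz1⟩ : ∃ z ∈ (scalars (Fin 6) F).subgroupOf P, z ≠ 1 := by
      by_contra hcon
      push Not at hcon
      have : (scalars (Fin 6) F).subgroupOf P = ⊥ := (Subgroup.eq_bot_iff_forall _).2 hcon
      rw [this, Subgroup.card_bot] at h3
      omega
    apply hz1
    have hidx : (H9.comap (phi e)).index = 40 := by
      rw [Subgroup.index_comap]
      have : (phi e).range = alternatingGroup (Fin 6) := by
        ext σ
        constructor
        · rintro ⟨g, rfl⟩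
          exact Perm.mem_alternatingGroup.2 (phi_even e g)
        · intro hσ
          exact phi_onto e σ (Perm.mem_alternatingGroup.1 hσ)
      rw [this, relIndex_H9]
    refine no_comm_of_perfect hC.commutator_top (H := H9.comap (phi e)) ?_ (scalars_le_center hz) (n := 13) hidx (hcube z hz)
    have form : ∀ g ∈ H9.comap (phi e), ∃ i j : ℕ, ∃ k ∈ Subgroup.center P, g = x ^ i * y ^ j * k := by
      intro g hg
      rw [Subgroup.mem_comap, mem_H9] at hg
      obtain ⟨i, j, hij⟩ := H9_form _ hg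
      refine ⟨i, j, (x ^ (i : ℕ) * y ^ (j : ℕ))⁻¹ * g, ?_, by group⟩
      apply scalars_le_center
      rw [← mem_of_phi e, map_mul, map_inv, map_mul, map_pow, map_pow, hx, hy, hij, inv_mul_cancel]
    intro g hg h hh
    obtain ⟨i, j, k, hk, rfl⟩ := form g hg
    obtain ⟨i', j', k', hk', rfl⟩ := form h hh
    have cxy : Commute x y := hxy
    have ck : ∀ s, Commute k s := fun s => (Subgroup.mem_center_iff.1 hk s).symm
    have ck' : ∀ s, Commute k' s := fun s => (Subgroup.mem_center_iff.1 hk' s).symm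
    have c1 : Commute (x ^ i * y ^ j * k) (x ^ i' * y ^ j' * k') := by
      apply Commute.mul_right
      · apply Commute.mul_left
        · apply Commute.mul_right
          · exact ((Commute.refl x).pow_pow i i').mul_left (cxy.symm.pow_pow j i')
          · exact (cxy.pow_pow i j').mul_left ((Commute.refl y).pow_pow j j')
        · exact ck _
      · exact (ck' _).symm
    exact c1

end Cfsg.Agent.H910.Six
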