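import Cfsg.Agent.H910.Six.Omega
import Cfsg.Agent.H910.Six.Aut
import Cfsg.Agent.LFourA.AltPsiAut

/-!
# `3.A₆` in dimension six: the normaliser (helper910)
-/

set_option autoImplicit false
set_option linter.unusedSectionVars false

open Matrix Equiv Cfsg Cfsg.Geo Cfsg.Agent.H915.LD Cfsg.Agent.H910.Aut Cfsg.Agent.LFourA.AltPsiAut

namespace Cfsg.Agent.H910.Six

universe u

variable {F : Type u} [Field F]

/-- `g` has the matrix `M` in the basis `B` -/
structure Rp (w : F) (B : GL (Fin 6) F) (g : M6 F) (M : List (List E)) : Prop where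
  eq : g * (B : M6 F) = (B : M6 F) * mat w M
  len : M.length = 6
  row : ∀ r ∈ M, r.length ≤ 6

theorem Rp.mul {w : F} {B : GL (Fin 6) F} {g g' : M6 F} {M M' : List (List E)} (hw : w * w + w + 1 = 0) (h : Rp w B g M)
    (h' : Rp w B g' M') : Rp w B (g * g') (mulM M M') := by
  refine ⟨by rw [mat_mul hw h.row h.len, mul_assoc, h'.eq, ← mul_assoc, h.eq, mul_assoc], ?_, ?_⟩
  · rw [mulM, List.length_map, h.len]
  · intro r hr
    rw [mulM, List.mem_map] at hr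
    obtain ⟨s, -, rfl⟩ := hr
    rw [List.length_map, List.length_range]

variable {P : Subgroup (GL (Fin 6) F)} {e : Soc P ≃* alternatingGroup (Fin 6)} {t1 t2 u r x a b : P} {w : F}
  {B : GL (Fin 6) F}

theorem Rp.of_explicit (ex : Explicit B w (mrep P) t1 t2 u r x) :
    Rp w B (mrep P t1) Mt1 ∧ Rp w B (mrep P t2) Mt2 ∧ Rp w B (mrep P u) Mu ∧ Rp w B (mrep P r) Mr ∧
    Rp w B (mrep P x) Mx :=
  ⟨⟨by rw [ex.e1, mat_t1], by decide +kernel, by decide +kernel⟩, ⟨by rw [ex.e2, mat_t2], by decide +kernel, by decide +kernel⟩,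
    ⟨by rw [ex.eu, mat_u], by decide +kernel, by decide +kernel⟩, ⟨by rw [ex.er, mat_r], by decide +kernel, by decide +kernel⟩,
    ⟨by rw [ex.ex, mat_x ex.hw], by decide +kernel, by decide +kernel⟩⟩

/-- `h s = W h` -/
theorem Rp.conj {h1 : GL (Fin 6) F} {Mh Ms MW : List (List E)} (hw : w * w + w + 1 = 0)
    (hh : Rp w B (h1 : M6 F) Mh) {s W : P} (hs : Rp w B (mrep P s) Ms) (hW : Rp w B (mrep P W) MW)
    (hc : mulM Mh Ms = mulM MW Mh) : h1 * (s : GL (Fin 6) F) * h1⁻¹ = W := by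
  rw [mul_inv_eq_iff_eq_mul]
  apply Units.ext
  have e1 := (hh.mul hw hs).eq
  have e2 := (hW.mul hw hh).eq
  rw [hc, ← e2, mrep_apply, mrep_apply, ← Units.val_mul, ← Units.val_mul, ← Units.val_mul, ← Units.val_mul] at e1
  have e3 := Units.ext e1
  rw [mul_left_inj] at e3
  exact congrArg Units.val e3

theorem w1 : mulM Mh Mt1 = mulM Mr Mh := by decide +kernel
theorem w2 : mulM Mh Mt2 = mulM (mulM (mulM (mulM (mulM (mulM (mulM Mt2 Mu) Mr) Mx) Mr) Mt2) Mu) Mh := by decide +kernel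
theorem w3 : mulM Mh Mu = mulM (mulM (mulM Mt1 Mu) Mr) Mh := by decide +kernel
theorem w4 : mulM Mh Mr = mulM Mu Mh := by decide +kernel
theorem w5 : mulM Mh Mx = mulM (mulM (mulM (mulM (mulM (mulM (mulM (mulM (mulM Mu Mx) Mr) Mx) Mr) Mx) Mt1) Mx) Mr) Mh := by
  decide +kernel

/-- the images of the generators under conjugation by `h` -/
theorem conj_gen {h1 : GL (Fin 6) F} (ex : Explicit B w (mrep P) t1 t2 u r x)
    (hh : (h1 : M6 F) * (B : M6 F) = (B : M6 F) * mat w Mh) :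
    h1 * (t1 : GL (Fin 6) F) * h1⁻¹ = r ∧ h1 * (t2 : GL (Fin 6) F) * h1⁻¹ = (t2 * u * r * x * r * t2 * u : P) ∧
    h1 * (u : GL (Fin 6) F) * h1⁻¹ = (t1 * u * r : P) ∧ h1 * (r : GL (Fin 6) F) * h1⁻¹ = u ∧
    h1 * (x : GL (Fin 6) F) * h1⁻¹ = (u * x * r * x * r * x * t1 * x * r : P) := by
  obtain ⟨r1, r2, r3, r4, r5⟩ := Rp.of_explicit ex
  have hw := ex.hw
  have rh : Rp w B (h1 : M6 F) Mh := ⟨hh, by decide +kernel, by decide +kernel⟩
  refine ⟨rh.conj hw r1 r4 w1, rh.conj hw r2 ?_ w2, rh.conj hw r3 ?_ w3, rh.conj hw r4 r3 w4, rh.conj hw r5 ?_ w5⟩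
  · simp only [map_mul]
    exact ((((((r2.mul hw r3).mul hw r4).mul hw r5).mul hw r4).mul hw r2).mul hw r3)
  · simp only [map_mul]
    exact ((r1.mul hw r3).mul hw r4)
  · simp only [map_mul]
    exact ((((((((r3.mul hw r5).mul hw r4).mul hw r5).mul hw r4).mul hw r5).mul hw r1).mul hw r5).mul hw r4)

theorem nrm_h [Finite F] {h1 : GL (Fin 6) F} (h : Hex (mrep P) (phi e)) (d : Data (mrep P) (phi e) t1 t2 u r x a b)
    (ex : Explicit B w (mrep P) t1 t2 u r x) (hh : (h1 : M6 F) * (B : M6 F) = (B : M6 F) * mat w Mh) : Nrm P h1 := by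
  obtain ⟨c1, c2, c3, c4, c5⟩ := conj_gen ex hh
  apply Nrm.of_to
  have key := d.induct h (Q := fun g => h1 * (g : GL (Fin 6) F) * h1⁻¹ ∈ P) (fun k hk => by
      rw [mem_of_phi e, Subgroup.mem_subgroupOf] at hk
      rw [conj_scalar hk]; exact k.2) (fun g g' hg hg' => by
      rw [Subgroup.coe_mul, show h1 * ((g : GL (Fin 6) F) * g') * h1⁻¹ = (h1 * g * h1⁻¹) * (h1 * g' * h1⁻¹) by group]
      exact P.mul_mem hg hg') (by rw [c1]; exact r.2) (by rw [c2]; exact Subtype.property _)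
      (by rw [c3]; exact Subtype.property _) (by rw [c4]; exact u.2) (by rw [c5]; exact Subtype.property _)
  exact fun x hx => key ⟨x, hx⟩

/-- `h` induces an exotic automorphism -/
theorem exotic_h {h1 : GL (Fin 6) F} (d : Data (mrep P) (phi e) t1 t2 u r x a b)
    (ex : Explicit B w (mrep P) t1 t2 u r x) (hh : (h1 : M6 F) * (B : M6 F) = (B : M6 F) * mat w Mh) (hn : Nrm P h1)
    {α : MulAut A6} (hα : ∀ y : P, e (toSoc P (hn.conj y)) = α (e (toSoc P y))) : α ∉ NE := by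
  obtain ⟨c1, c2, c3, c4, c5⟩ := conj_gen ex hh
  intro hNE
  rw [mem_NE_iff] at hNE
  have e1 : e (toSoc P x) = u3 := Subtype.ext (by
    change phi e x = _
    rw [d.hx]; decide)
  have e2 : hn.conj x = u * x * r * x * r * x * t1 * x * r := Subtype.ext (by rw [Nrm.conj_coe, c5])
  rw [← e1, ← hα, e2] at hNE
  have e3 : ((e (toSoc P (u * x * r * x * r * x * t1 * x * r)) : A6) : Perm (Fin 6)) =
      phi e (u * x * r * x * r * x * t1 * x * r) := rfl
  rw [e3] at hNE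
  simp only [map_mul, d.hu, d.hx, d.hr, d.ht1] at hNE
  have := hNE.card_support
  revert this
  decide +kernel

/-- odd permutations are not induced -/
theorem not_odd (h : Hex (mrep P) (phi e)) {g : GL (Fin 6) F} (hn : Nrm P g) {σ : Perm (Fin 6)}
    (hσ : ∀ y : P, phi e (hn.conj y) = σ * phi e y * σ⁻¹) : Perm.sign σ = 1 := by
  by_contra hs
  have hs' : Perm.sign σ = -1 := (Int.units_eq_one_or _).resolve_left hs
  obtain ⟨X, Y, hX, hY, hne⟩ := h.nc
  obtain ⟨k, hk⟩ := h.onto (σ * c[0, 1]) (by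
    rw [Perm.sign_mul, hs']; decide)
  -- the scalar `[X, Y]`
  have hz : phi e (X * Y * X⁻¹ * Y⁻¹) = 1 := by
    rw [map_mul, map_mul, map_mul, map_inv, map_inv, hX, hY]; decide
  have hzc := h.central hz
  have hz3 := h.cube hz
  have hz' : ∀ s : GL (Fin 6) F, s * (X * Y * X⁻¹ * Y⁻¹ : P) * s⁻¹ = (X * Y * X⁻¹ * Y⁻¹ : P) := by
    intro s
    exact conj_scalar (Subgroup.mem_subgroupOf.1 ((mem_of_phi e).1 hz))
  -- `k⁻¹ g` acts as the transposition
  have hn' : Nrm P ((k : GL (Fin 6) F)⁻¹ * g) := (Nrm.of_mem (P.inv_mem k.2)).mul hn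
  have hact : ∀ y : P, phi e (hn'.conj y) = c[0, 1] * phi e y * c[0, 1] := by
    intro y
    have e1 : hn'.conj y = k⁻¹ * hn.conj y * k := by
      apply Subtype.ext
      simp only [Nrm.conj_coe, Subgroup.coe_mul, Subgroup.coe_inv]
      group
    rw [e1, map_mul, map_mul, map_inv, hσ, hk]
    have e2 : (c[0, 1] : Perm (Fin 6))⁻¹ = c[0, 1] := by decide
    calc (σ * c[0, 1])⁻¹ * (σ * phi e y * σ⁻¹) * (σ * c[0, 1]) = c[0, 1]⁻¹ * phi e y * c[0, 1] := by group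
      _ = c[0, 1] * phi e y * c[0, 1] := by rw [e2]
  have e1 : phi e (X * hn'.conj X) = 1 := by
    rw [map_mul, hact, hX]; decide
  have e2 : phi e (hn'.conj Y * Y⁻¹) = 1 := by
    rw [map_mul, hact, map_inv, hY]; decide
  have z1 := h.central e1
  have z2 := h.central e2
  have e3 : hn'.conj (X * Y * X⁻¹ * Y⁻¹) = X * Y * X⁻¹ * Y⁻¹ := Subtype.ext (hz' _)
  rw [map_mul, map_mul, map_mul, map_inv, map_inv] at e3
  have hX' : hn'.conj X = X⁻¹ * (X * hn'.conj X) := by group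
  have hY' : hn'.conj Y = (hn'.conj Y * Y⁻¹) * Y := by group
  generalize hn'.conj X = X' at *
  generalize hn'.conj Y = Y' at *
  generalize X * X' = c1 at *
  generalize Y' * Y⁻¹ = c2 at *
  subst hX' hY'
  have e4 : X⁻¹ * c1 * (c2 * Y) * (X⁻¹ * c1)⁻¹ * (c2 * Y)⁻¹ = X⁻¹ * Y * X * Y⁻¹ := by
    calc X⁻¹ * c1 * (c2 * Y) * (X⁻¹ * c1)⁻¹ * (c2 * Y)⁻¹
        = X⁻¹ * (c1 * (c2 * Y)) * c1⁻¹ * X * Y⁻¹ * c2⁻¹ := by group
      _ = X⁻¹ * (c2 * (Y * X * Y⁻¹)) * c2⁻¹ := by rw [z1]; group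
      _ = X⁻¹ * Y * X * Y⁻¹ := by rw [z2]; group
  rw [e4] at e3
  -- `z⁻¹ = z`
  have e5 : X⁻¹ * (X * Y * X⁻¹ * Y⁻¹) * X = X * Y * X⁻¹ * Y⁻¹ := by rw [mul_assoc, hzc, inv_mul_cancel_left]
  have e6 : (X⁻¹ * Y * X * Y⁻¹) * (X * Y * X⁻¹ * Y⁻¹) = 1 := by
    have : X⁻¹ * (X * Y * X⁻¹ * Y⁻¹) * X = Y * X⁻¹ * Y⁻¹ * X := by group
    rw [← e5, this]; group
  rw [e3] at e6
  apply hne
  rw [e6, one_mul] at hz3
  calc X * Y = (X * Y * X⁻¹ * Y⁻¹) * (Y * X) := by group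
    _ = Y * X := by rw [hz3, one_mul]

/-- **The normaliser of `3.A₆`.** -/
theorem normaliser (hC : Core P) (h : Hex (mrep P) (phi e)) (d : Data (mrep P) (phi e) t1 t2 u r x a b)
    (ex : Explicit B w (mrep P) t1 t2 u r x) {h1 : GL (Fin 6) F} (hh : (h1 : M6 F) * (B : M6 F) = (B : M6 F) * mat w Mh)
    (hn1 : Nrm P h1) {g : GL (Fin 6) F} (hn : Nrm P g) :
    ∃ k : P, (∃ c : F, (g : M6 F) = c • ((k : GL (Fin 6) F) : M6 F)) ∨
      (∃ c : F, (g : M6 F) = c • ((h1 * (k : GL (Fin 6) F) : GL (Fin 6) F) : M6 F)) := by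
  -- automorphisms mapping three-cycles to three-cycles come from `P`
  have key : ∀ {g : GL (Fin 6) F} (hn : Nrm P g) {α : MulAut A6},
      (∀ y : P, e (toSoc P (hn.conj y)) = α (e (toSoc P y))) → α ∈ NE →
      ∃ k : P, ∃ c : F, (g : M6 F) = c • ((k : GL (Fin 6) F) : M6 F) := by
    intro g hn α hα hNE
    obtain ⟨σ, hσ⟩ := exists_perm hNE
    have h1 : ∀ y : P, phi e (hn.conj y) = σ * phi e y * σ⁻¹ := by
      intro y
      change ((e (toSoc P (hn.conj y)) : A6) : Perm (Fin 6)) = _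
      rw [hα, hσ]
      rfl
    obtain ⟨k, hk⟩ := h.onto σ (not_odd h hn h1)
    refine ⟨k, scalar_of_eq hC e hn (Nrm.of_mem k.2) hα fun y => ?_⟩
    rw [← hα]
    apply Subtype.ext
    change phi e ((Nrm.of_mem k.2).conj y) = phi e (hn.conj y)
    rw [h1, ← hk, ← map_inv, ← map_mul, ← map_mul]
    congr 1
  obtain ⟨α, hα⟩ := hn.exists_aut e
  by_cases hNE : α ∈ NE
  · obtain ⟨k, hk⟩ := key hn hα hNE
    exact ⟨k, Or.inl hk⟩
  · obtain ⟨β, hβ⟩ := hn1.exists_aut e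
    have hβN := exotic_h d ex hh hn1 hβ
    obtain ⟨k, c, hk⟩ := key (hn1.inv.mul hn) (α := β⁻¹ * α) (fun y => by
      have e1 : hn1.conj ((hn1.inv.mul hn).conj y) = hn.conj y := by
        apply Subtype.ext
        simp only [Nrm.conj_coe]
        group
      apply β.injective
      rw [← hβ, e1, hα, MulAut.mul_apply, MulAut.apply_inv_self]) (inv_mul_mem hβN hNE)
    refine ⟨k, Or.inr ⟨c, ?_⟩⟩
    have e2 : (g : M6 F) = (h1 : M6 F) * ((h1⁻¹ * g : GL (Fin 6) F) : M6 F) := by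
      rw [← Units.val_mul, mul_inv_cancel_left]
    rw [e2, hk, Matrix.mul_smul, Units.val_mul]

/-- `P` preserves the lines -/
theorem pres_P [Finite F] {p : ℕ} [CharP F p] (hp : 5 ≤ p) (hp' : p.Prime) (h : Hex (mrep P) (phi e))
    (d : Data (mrep P) (phi e) t1 t2 u r x a b) (ex : Explicit B w (mrep P) t1 t2 u r x) (g : P) : Pres w B g := by
  obtain ⟨r1, r2, r3, r4, r5⟩ := Rp.of_explicit ex
  refine d.induct h (Q := fun g => Pres w B (g : GL (Fin 6) F)) (fun k hk => ?_) (fun g g' hg hg' => ?_)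
    (Pres.of_chk hp hp' ex.hw chk_t1 r1.eq) (Pres.of_chk hp hp' ex.hw chk_t2 r2.eq) (Pres.of_chk hp hp' ex.hw chk_u r3.eq)
    (Pres.of_chk hp hp' ex.hw chk_r r4.eq) (Pres.of_chk hp hp' ex.hw chk_x r5.eq) g
  · rw [mem_of_phi e, Subgroup.mem_subgroupOf, mem_scalars_iff] at hk
    obtain ⟨c, hc⟩ := hk
    exact Pres.one.smul (c := c) (by rw [hc, Units.val_one])
  · rw [Subgroup.coe_mul]
    exact hg.mul hg'

/-- the stabiliser -/
def Stab (w : F) (B : GL (Fin 6) F) (K : Subgroup (GL (Fin 6) F)) : Subgroup (GL (Fin 6) F) where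
  carrier := {g | g ∈ K ∧ Pres w B g}
  one_mem' := ⟨K.one_mem, Pres.one⟩
  mul_mem' := fun h h' => ⟨K.mul_mem h.1 h'.1, h.2.mul h'.2⟩
  inv_mem' := fun h => ⟨K.inv_mem h.1, h.2.inv⟩

/-- `diag (-1, 1, 1, 1, 1, -1)` does not preserve the lines -/
theorem not_pres {p : ℕ} [CharP F p] (hp : 5 ≤ p) (hp' : p.Prime) (hw : w * w + w + 1 = 0) {D : GL (Fin 6) F}
    (hD : (D : M6 F) * (B : M6 F) = (B : M6 F) * Matrix.diagonal ![-1, 1, 1, 1, 1, -1]) : ¬ Pres w B D := by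
  intro hpres
  have n2 : (2 : F) ≠ 0 := by
    intro h0
    have := (CharP.cast_eq_zero_iff F p 2).1 (by exact_mod_cast h0)
    have := Nat.le_of_dvd (by norm_num) this
    omega
  have h1 : (B : M6 F) *ᵥ vec w [(1, 0), (-1, 0), (0, 0), (0, 0), (0, 0), (0, 0)] ∈ Om w B :=
    ⟨_, vs_mem, 1, one_ne_zero, (one_smul _ _).symm⟩
  rw [← hpres] at h1
  obtain ⟨v, hv, c, hc, e⟩ := h1
  rw [Matrix.mulVec_mulVec, hD, ← Matrix.mulVec_mulVec, ← Matrix.mulVec_smul] at e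
  have hinj : ∀ {y z : Fin 6 → F}, (B : M6 F) *ᵥ y = (B : M6 F) *ᵥ z → y = z := by
    intro y z hyz
    have : ((B⁻¹ : GL (Fin 6) F) : M6 F) *ᵥ ((B : M6 F) *ᵥ y) = ((B⁻¹ : GL (Fin 6) F) : M6 F) *ᵥ ((B : M6 F) *ᵥ z) := by
      rw [hyz]
    rwa [Matrix.mulVec_mulVec, Matrix.mulVec_mulVec, Units.inv_mul, Matrix.one_mulVec, Matrix.one_mulVec] at this
  have e1 := hinj e
  have q : ∀ i : Fin 6, (Matrix.diagonal ![-1, 1, 1, 1, 1, -1] *ᵥ
      vec w [(1, 0), (-1, 0), (0, 0), (0, 0), (0, 0), (0, 0)]) i = (![-1, -1, 0, 0, 0, 0] : Fin 6 → F) i := by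
    intro i
    rw [Matrix.mulVec_diagonal]
    fin_cases i <;> simp [vec, ev]
  rcases vs_good v hv with ⟨i, hi, hn⟩ | hn
  · have e2 := congrFun e1 i
    rw [q, Pi.smul_apply, smul_eq_mul, vec] at e2
    have e3 : (![-1, -1, 0, 0, 0, 0] : Fin 6 → F) i = 0 := by
      fin_cases i <;> first | rfl | (simp at hi)
    rw [e3] at e2
    exact mul_ne_zero hc (ev_ne_zero hw hp hp' hn) e2.symm
  · have e2 := congrFun e1 0
    have e3 := congrFun e1 1
    rw [q, Pi.smul_apply, smul_eq_mul, vec] at e2 e3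
    have e4 : c * ev w (esub (v.getD 0 (0, 0)) (v.getD 1 (0, 0))) = 0 := by
      have : ev w (esub (v.getD 0 (0, 0)) (v.getD 1 (0, 0))) = ev w (v.getD 0 (0, 0)) - ev w (v.getD 1 (0, 0)) := by
        simp only [ev, esub]; push_cast; ring
      rw [this]
      have e5 : (![-1, -1, 0, 0, 0, 0] : Fin 6 → F) 0 = -1 := rfl
      have e6 : (![-1, -1, 0, 0, 0, 0] : Fin 6 → F) 1 = -1 := rfl
      rw [e5] at e2
      rw [e6] at e3
      have e2' : -1 = c * ev w (v.getD 0 (0, 0)) := e2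
      have e3' : -1 = c * ev w (v.getD 1 (0, 0)) := e3
      linear_combination e3' - e2'
    exact mul_ne_zero hc (ev_ne_zero hw hp hp' hn) e4

theorem exists_unit {M N : M6 F} {c : F} (hc : c ≠ 0) (hMN : M * N = c • (1 : M6 F)) (B : GL (Fin 6) F) :
    ∃ g : GL (Fin 6) F, (g : M6 F) * (B : M6 F) = (B : M6 F) * M := by
  have h1 : M * (c⁻¹ • N) = 1 := by rw [Matrix.mul_smul, hMN, smul_smul, inv_mul_cancel₀ hc, one_smul]
  have h2 : (c⁻¹ • N) * M = 1 := mul_eq_one_comm.1 h1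
  refine ⟨B * ⟨M, c⁻¹ • N, h1, h2⟩ * B⁻¹, ?_⟩
  rw [Units.val_mul, Units.val_mul, mul_assoc, Units.inv_mul, mul_one]

/-- every element of `P` is monomial -/
theorem mono_P (h : Hex (mrep P) (phi e)) (d : Data (mrep P) (phi e) t1 t2 u r x a b)
    (ex : Explicit B w (mrep P) t1 t2 u r x) (g : P) :
    ∃ dd : Fin 6 → F, mrep P g * (B : M6 F) = (B : M6 F) * mono (phi e g) dd := by
  refine d.induct h (Q := fun g => ∃ dd : Fin 6 → F, mrep P g * (B : M6 F) = (B : M6 F) * mono (phi e g) dd)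
    (fun k hk => ?_) (fun g g' hg hg' => ?_) ⟨_, by rw [ex.e1, d.ht1]⟩ ⟨_, by rw [ex.e2, d.ht2]⟩ ⟨_, by rw [ex.eu, d.hu]⟩
    ⟨_, by rw [ex.er, d.hr]⟩ ⟨_, by rw [ex.ex, d.hx]⟩ g
  · obtain ⟨c, -, hc⟩ := h.ker k hk
    refine ⟨fun _ => c, ?_⟩
    rw [hc, hk, smul_mul_assoc, one_mul]
    have : mono (1 : Perm (Fin 6)) (fun _ => c) = c • (1 : M6 F) := by
      rw [← mono_one]
      ext i j
      rw [mono_apply, Matrix.smul_apply, mono_apply]
      split_ifs <;> simp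
    rw [this, mul_smul_comm, mul_one]
  · obtain ⟨dd, h1⟩ := hg
    obtain ⟨dd', h2⟩ := hg'
    refine ⟨fun j => dd (phi e g' j) * dd' j, ?_⟩
    rw [map_mul, mul_assoc, h2, ← mul_assoc, h1, mul_assoc, mono_mul, map_mul]

theorem mat_n (hw : w * w + w + 1 = 0) (n3 : (3 : F) ≠ 0) {y0 y1 : GL (Fin 6) F} (ex : Explicit B w (mrep P) t1 t2 u r x)
    (hy : (y1 : M6 F) * (B : M6 F) = (B : M6 F) * mat w My) (h0 : y0 = y1 * (t1 : GL (Fin 6) F) * y1⁻¹) :
    (3 : F) • ((y0 : M6 F) * (B : M6 F)) = (B : M6 F) * mat w Mn := by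
  have e0 : (y0 : M6 F) * (y1 : M6 F) = (y1 : M6 F) * mrep P t1 := by
    rw [mrep_apply, ← Units.val_mul, ← Units.val_mul, h0, inv_mul_cancel_right]
  have e1 : ((y0 : M6 F) * (B : M6 F)) * mat w My = (B : M6 F) * (mat w My * mat w Mt1) := by
    rw [mul_assoc, ← hy, ← mul_assoc, e0, mul_assoc, ex.e1, ← mul_assoc, hy, mul_assoc, mat_t1]
  have e2 : mat w Mn * mat w My = (3 : F) • (mat w My * mat w Mt1) := by
    rw [← mat_mul hw (by decide +kernel) (by decide +kernel), n_y, mat_mul hw (by decide +kernel) (by decide +kernel),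
      mat_mul hw (by decide +kernel) (by decide +kernel), sM_mat hw, Matrix.mul_smul, mul_one]
    simp [ev]
  have e3 : mat w My * mat w Mys = (3 : F) • (1 : M6 F) := by
    rw [← mat_mul hw (by decide +kernel) (by decide +kernel), y_ys, sM_mat hw]
    simp [ev]
  have e4 : (3 : F) • ((y0 : M6 F) * (B : M6 F)) * mat w My = (B : M6 F) * mat w Mn * mat w My := by
    rw [smul_mul_assoc, e1, mul_assoc, e2, Matrix.mul_smul]
  have e5 := congrArg (fun Z : M6 F => Z * mat w Mys) e4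
  simp only [mul_assoc, e3, Matrix.mul_smul, mul_one] at e5
  have e6 := smul_right_injective (M6 F) n3 e5
  simpa [mul_assoc] using e6

/-- **The main theorem for `3.A₆`.** -/
theorem not_maximal [Finite F] {p : ℕ} [CharP F p] (hp : 5 ≤ p) (hp' : p.Prime) {K H : Subgroup (GL (Fin 6) F)}
    (hmax : IsMaximalIn K H) (hres : IsResidualCore H P) (h : Hex (mrep P) (phi e))
    (d : Data (mrep P) (phi e) t1 t2 u r x a b) (ex : Explicit B w (mrep P) t1 t2 u r x)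
    (hK1 : ∀ D : GL (Fin 6) F, (D : M6 F) * (B : M6 F) = (B : M6 F) * Matrix.diagonal ![-1, 1, 1, 1, 1, -1] → D ∈ K)
    (hK2 : ∀ y1 : GL (Fin 6) F, (y1 : M6 F) * (B : M6 F) = (B : M6 F) * mat w My →
      y1 * (t1 : GL (Fin 6) F) * y1⁻¹ ∈ K) : False := by
  have hC := core_of_residual hres
  have hw := ex.hw
  have hne : ∀ n : ℕ, ¬ p ∣ n → (n : F) ≠ 0 := fun n hn h => hn ((CharP.cast_eq_zero_iff F p n).1 h)
  have n2 : (2 : F) ≠ 0 := by
    have := hne 2 (fun h => by have := Nat.le_of_dvd (by norm_num) h; omega)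
    exact_mod_cast this
  have n3 : (3 : F) ≠ 0 := by
    have := hne 3 (fun h => by have := Nat.le_of_dvd (by norm_num) h; omega)
    exact_mod_cast this
  have n6 : (6 : F) ≠ 0 := by rw [show (6 : F) = 2 * 3 by norm_num]; exact mul_ne_zero n2 n3
  obtain ⟨h1, hh1⟩ := exists_unit (M := mat w Mh) (N := mat w Mhs) n6 (by
    rw [← mat_mul hw (by decide +kernel) (by decide +kernel), h_hs, sM_mat hw]; simp [ev]) B
  obtain ⟨y1, hy1⟩ := exists_unit (M := mat w My) (N := mat w Mys) n3 (by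
    rw [← mat_mul hw (by decide +kernel) (by decide +kernel), y_ys, sM_mat hw]; simp [ev]) B
  obtain ⟨D, hD⟩ := exists_unit (F := F) (M := Matrix.diagonal ![-1, 1, 1, 1, 1, -1])
    (N := Matrix.diagonal ![-1, 1, 1, 1, 1, -1]) one_ne_zero (by
      rw [Matrix.diagonal_mul_diagonal, one_smul, ← Matrix.diagonal_one]
      congr 1
      ext i
      fin_cases i <;> simp) B
  have hn1 := nrm_h h d ex hh1
  have hph : Pres w B h1 := Pres.of_chk hp hp' hw chk_h hh1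
  have hpy : Pres w B y1 := Pres.of_chk hp hp' hw chk_y hy1
  have hP := pres_P hp hp' h d ex
  have hle : H ≤ Stab w B K := by
    intro g hg
    refine ⟨hmax.1.le hg, ?_⟩
    obtain ⟨k, ⟨c, hc⟩ | ⟨c, hc⟩⟩ := normaliser hC h d ex hh1 hn1 (Nrm.of_core hres hg)
    · exact (hP k).smul hc
    · exact (hph.mul (hP k)).smul hc
  rcases hmax.2 (Stab w B K) hle (fun g hg => hg.1) with hY | hY
  · have hy0 : y1 * (t1 : GL (Fin 6) F) * y1⁻¹ ∈ H := by
      rw [← hY]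
      exact ⟨hK2 y1 hy1, (hpy.mul (hP t1)).mul hpy.inv⟩
    have hmem := hres.normal _ hy0 t2 t2.2
    obtain ⟨dd, hdd⟩ := mono_P h d ex ⟨_, hmem⟩
    have hN := mat_n hw n3 ex hy1 rfl
    generalize phi e ⟨_, hmem⟩ = σ at hdd
    generalize hy : y1 * (t1 : GL (Fin 6) F) * y1⁻¹ = y0 at *
    have e1 : mat w Mn * mat w Mt2 = mono σ dd * mat w Mn := by
      have e2 : (y0 : M6 F) * mrep P t2 = mrep P ⟨_, hmem⟩ * (y0 : M6 F) := by
        rw [mrep_apply, mrep_apply, ← Units.val_mul, ← Units.val_mul, inv_mul_cancel_right]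
      have e3 : (B : M6 F) * (mat w Mn * mat w Mt2) = (B : M6 F) * (mono σ dd * mat w Mn) := by
        rw [← mul_assoc, ← hN, ← mul_assoc, ← hdd, mul_assoc _ (B : M6 F), ← hN, smul_mul_assoc, mul_smul_comm, ← mul_assoc,
          ← e2, mul_assoc, mul_assoc, mat_t2, ex.e2]
      have e4 := congrArg (fun Z : M6 F => ((B⁻¹ : GL (Fin 6) F) : M6 F) * Z) e3
      simp only [← mul_assoc, Units.inv_mul, one_mul] at e4
      exact e4
    obtain ⟨j, k, hjk⟩ := n_t2 (σ.symm 0)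
    have row : ∀ j : Fin 6, ev w (ent (mulM Mn Mt2) 0 j) = dd (σ.symm 0) * ev w (ent Mn (σ.symm 0) j) := by
      intro j
      have e2 := congrFun (congrFun e1 0) j
      rw [← mat_mul hw (by decide +kernel) (by decide +kernel), Matrix.mul_apply, Finset.sum_eq_single (σ.symm 0)] at e2
      · rw [mono_apply, if_pos (σ.apply_symm_apply 0).symm] at e2
        exact e2
      · intro i _ hi
        rw [mono_apply, if_neg, zero_mul]
        intro h0
        apply hi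
        rw [h0, Equiv.symm_apply_apply]
      · intro h0; exact absurd (Finset.mem_univ _) h0
    apply ev_ne_zero hw hp hp' hjk
    have e5 : ∀ x y : E, ev w (esub x y) = ev w x - ev w y := by
      intro x y
      simp only [ev, esub]; push_cast; ring
    rw [e5, ev_mul hw, ev_mul hw, row, row]
    ring
  · exact not_pres hp hp' hw hD (by
      have : D ∈ Stab w B K := by rw [hY]; exact hK1 D hD
      exact this.2)

end Cfsg.Agent.H910.Six
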