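import Cfsg.Agent.H910.Six.Gen

/-!
# The normal form of `3.A₆` in dimension six (helper910)

`normal_form`: in a suitable basis `G` consists of monomial matrices with cube roots of unity, and the generators are
explicit.
-/

set_option autoImplicit false
set_option linter.unusedSectionVars false

open Matrix Equiv

namespace Cfsg.Agent.H910.Six

variable {F : Type*} [Field F] {G : Type*} [Group G] {m : G →* M6 F} {φ : G →* Perm (Fin 6)}
  {t1 t2 u r x a b : G} {v : Fin 6 → (Fin 6 → F)} {c : F}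

/-- the monomial matrix `e_j ↦ d_j e_(σ j)` -/
def mono (σ : Perm (Fin 6)) (d : Fin 6 → F) : M6 F := Matrix.of fun i j => if i = σ j then d j else 0

theorem mono_apply (σ : Perm (Fin 6)) (d : Fin 6 → F) (i j : Fin 6) : mono σ d i j = if i = σ j then d j else 0 := rfl

theorem mono_mulVec (σ : Perm (Fin 6)) (d : Fin 6 → F) (z : Fin 6 → F) (i : Fin 6) :
    (mono σ d *ᵥ z) i = d (σ.symm i) * z (σ.symm i) := by
  rw [Matrix.mulVec, dotProduct, Finset.sum_eq_single (σ.symm i)]
  · rw [mono_apply, Equiv.apply_symm_apply, if_pos rfl]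
  · intro j _ hj
    rw [mono_apply, if_neg, zero_mul]
    rintro rfl
    exact hj (σ.symm_apply_apply j).symm
  · intro h; exact absurd (Finset.mem_univ _) h

theorem mono_mul (σ τ : Perm (Fin 6)) (d e : Fin 6 → F) : mono σ d * mono τ e = mono (σ * τ) (fun j => d (τ j) * e j) := by
  ext i j
  rw [Matrix.mul_apply, Finset.sum_eq_single (τ j)]
  · rw [mono_apply, mono_apply, mono_apply, if_pos rfl, Perm.mul_apply]
    split_ifs <;> simp
  · intro k _ hk
    rw [mono_apply τ, if_neg hk, mul_zero]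
  · intro h; exact absurd (Finset.mem_univ _) h

theorem mono_one : mono (1 : Perm (Fin 6)) (fun _ => (1 : F)) = 1 := by
  ext i j
  rw [mono_apply, Matrix.one_apply, Perm.one_apply]

/-- the matrix with the given columns -/
def colMat (v : Fin 6 → (Fin 6 → F)) : M6 F := Matrix.of fun i j => v j i

theorem mul_colMat {M : M6 F} {σ : Perm (Fin 6)} {d : Fin 6 → F} (h : ∀ i, M *ᵥ v i = d i • v (σ i)) :
    M * colMat v = colMat v * mono σ d := by
  ext i j
  have e : (colMat v * mono σ d) i j = v (σ j) i * d j := by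
    rw [Matrix.mul_apply, Finset.sum_eq_single (σ j)]
    · rw [mono_apply, if_pos rfl]; rfl
    · intro k _ hk
      rw [mono_apply, if_neg hk, mul_zero]
    · intro h; exact absurd (Finset.mem_univ _) h
  have := congrFun (h j) i
  rw [Matrix.mulVec, dotProduct, Pi.smul_apply, smul_eq_mul] at this
  rw [e, Matrix.mul_apply, mul_comm, ← this]
  rfl

theorem Frame.isUnit (h : Hex m φ) (d : Data m φ t1 t2 u r x a b) (f : Frame m φ t1 t2 u r x v c) (h2 : (2 : F) ≠ 0) :
    IsUnit (colMat v) := by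
  rw [← Matrix.linearIndependent_cols_iff_isUnit]
  have e : (colMat v).col = v := by
    ext j i
    rfl
  rw [e, Fintype.linearIndependent_iff]
  intro k hk
  exact f.indep h d h2 hk

/-- the explicit form of the five generators -/
structure Explicit (B : GL (Fin 6) F) (w : F) (m : G →* M6 F) (t1 t2 u r x : G) : Prop where
  hw : w * w + w + 1 = 0
  e1 : m t1 * (B : M6 F) = (B : M6 F) * mono (c[0, 1] * c[2, 3]) (fun _ => (1 : F))
  e2 : m t2 * (B : M6 F) = (B : M6 F) * mono (c[0, 2] * c[1, 3]) (fun _ => (1 : F))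
  eu : m u * (B : M6 F) = (B : M6 F) * mono (c[0, 1] * c[4, 5]) (fun _ => (1 : F))
  er : m r * (B : M6 F) = (B : M6 F) * mono (c[2, 4] * c[3, 5]) (fun _ => (1 : F))
  ex : m x * (B : M6 F) = (B : M6 F) * mono c[0, 1, 2] (![1, 1, 1, 1, w * w, w] : Fin 6 → F)

theorem Frame.explicit (h : Hex m φ) (d : Data m φ t1 t2 u r x a b) (f : Frame m φ t1 t2 u r x v c) (h2 : (2 : F) ≠ 0) :
    ∃ B : GL (Fin 6) F, Explicit B c m t1 t2 u r x := by
  obtain ⟨B, hB⟩ := f.isUnit h d h2
  have e1 := mul_colMat (M := m t1) (v := v) (σ := φ t1) (d := fun _ => 1) (fun i => by rw [one_smul, f.a1])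
  have e2 := mul_colMat (M := m t2) (v := v) (σ := φ t2) (d := fun _ => 1) (fun i => by rw [one_smul, f.a2])
  have eu := mul_colMat (M := m u) (v := v) (σ := φ u) (d := fun _ => 1) (fun i => by rw [one_smul, f.au])
  have er := mul_colMat (M := m r) (v := v) (σ := φ r) (d := fun _ => 1) (fun i => by rw [one_smul, f.ar])
  have ex := mul_colMat (M := m x) (v := v) (σ := φ x) f.ax
  rw [← hB] at e1 e2 eu er ex
  rw [d.ht1] at e1
  rw [d.ht2] at e2
  rw [d.hu] at eu
  rw [d.hr] at er
  rw [d.hx] at ex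
  refine ⟨B, ?_, e1, e2, eu, er, ex⟩
  have hz := h.trace_zero d.hx
  have e : m x = (B : M6 F) * mono c[0, 1, 2] ![1, 1, 1, 1, c * c, c] * ((B⁻¹ : GL (Fin 6) F) : M6 F) := by
    rw [← ex, mul_assoc, Units.mul_inv, mul_one]
  rw [e, Matrix.trace_mul_comm, ← mul_assoc, Units.inv_mul, one_mul] at hz
  have e3 : (mono c[0, 1, 2] (![1, 1, 1, 1, c * c, c] : Fin 6 → F)).trace = 1 + c * c + c := by
    rw [Matrix.trace, Fin.sum_univ_six]
    simp only [Matrix.diag_apply, mono_apply]
    rw [if_neg (by decide), if_neg (by decide), if_neg (by decide), if_pos (by decide), if_pos (by decide), if_pos (by decide)]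
    simp
  rw [e3] at hz
  linear_combination hz

/-- **The normal form.** -/
theorem normal_form {p : ℕ} [CharP F p] (hp : 5 ≤ p) (h : Hex m φ) (d : Data m φ t1 t2 u r x a b)
    (htr : ∀ g : G, g * g = 1 → φ g ≠ 1 → (m g).trace = 2) :
    ∃ (B : GL (Fin 6) F) (w : F), Explicit B w m t1 t2 u r x := by
  have n2 : (2 : F) ≠ 0 := by
    intro h0
    have := (CharP.cast_eq_zero_iff F p 2).1 (by exact_mod_cast h0)
    have := Nat.le_of_dvd (by norm_num) this
    omega
  obtain ⟨z, hz, xz, az, bz, uz⟩ := d.exists_fixed hp h htr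
  obtain ⟨v, c, f⟩ := d.exists_frame h hz xz az bz uz
  obtain ⟨B, hB⟩ := f.explicit h d n2
  exact ⟨B, c, hB⟩

end Cfsg.Agent.H910.Six
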