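import Cfsg.Agent.H910.Six.OmegaChk
import Cfsg.Agent.H910.Six.HexOf

/-!
# The stabiliser of the 252 lines (helper910)
-/

set_option autoImplicit false
set_option linter.unusedSectionVars false

open Matrix Equiv

namespace Cfsg.Agent.H910.Six

variable {F : Type*} [Field F]

/-- the non-zero vectors on the 252 lines -/
def Om (w : F) (B : GL (Fin 6) F) : Set (Fin 6 → F) :=
  {z | ∃ v ∈ vs, ∃ c : F, c ≠ 0 ∧ z = c • ((B : M6 F) *ᵥ vec w v)}

/-- `g` preserves the lines -/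
def Pres (w : F) (B g : GL (Fin 6) F) : Prop := ∀ z, (g : M6 F) *ᵥ z ∈ Om w B ↔ z ∈ Om w B

variable {w : F} {B : GL (Fin 6) F}

theorem Pres.one : Pres w B 1 := fun z => by rw [Units.val_one, Matrix.one_mulVec]

theorem Pres.mul {g h : GL (Fin 6) F} (hg : Pres w B g) (hh : Pres w B h) : Pres w B (g * h) := fun z => by
  rw [Units.val_mul, ← Matrix.mulVec_mulVec, hg, hh]

theorem Pres.inv {g : GL (Fin 6) F} (hg : Pres w B g) : Pres w B g⁻¹ := fun z => by
  rw [← hg, Matrix.mulVec_mulVec, ← Units.val_mul, mul_inv_cancel, Units.val_one, Matrix.one_mulVec]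

theorem Pres.smul {g h : GL (Fin 6) F} {c : F} (hg : Pres w B g) (hc : (h : M6 F) = c • (g : M6 F)) : Pres w B h := by
  have hc0 : c ≠ 0 := by
    rintro rfl
    rw [zero_smul] at hc
    have h1 : (h : M6 F) * ((h⁻¹ : GL (Fin 6) F) : M6 F) = 1 := Units.mul_inv h
    rw [hc, Matrix.zero_mul] at h1
    have := congrFun (congrFun h1 0) 0
    simp at this
  intro z
  rw [← hg z, hc, Matrix.smul_mulVec]
  constructor
  · rintro ⟨v, hv, d, hd, e⟩
    refine ⟨v, hv, c⁻¹ * d, mul_ne_zero (inv_ne_zero hc0) hd, ?_⟩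
    rw [mul_smul, ← e, smul_smul, inv_mul_cancel₀ hc0, one_smul]
  · rintro ⟨v, hv, d, hd, e⟩
    exact ⟨v, hv, c * d, mul_ne_zero hc0 hd, by rw [e, smul_smul]⟩

theorem pres_of_map [Finite F] {g : GL (Fin 6) F} (h : ∀ z ∈ Om w B, (g : M6 F) *ᵥ z ∈ Om w B) : Pres w B g := by
  intro z
  refine ⟨fun hz => ?_, h z⟩
  have hinj : Function.Injective fun z : Fin 6 → F => (g : M6 F) *ᵥ z := by
    intro a b hab
    have : ((g⁻¹ : GL (Fin 6) F) : M6 F) *ᵥ ((g : M6 F) *ᵥ a) = ((g⁻¹ : GL (Fin 6) F) : M6 F) *ᵥ ((g : M6 F) *ᵥ b) := by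
      rw [show (g : M6 F) *ᵥ a = (g : M6 F) *ᵥ b from hab]
    rwa [Matrix.mulVec_mulVec, Matrix.mulVec_mulVec, Units.inv_mul, Matrix.one_mulVec, Matrix.one_mulVec] at this
  have hfin : (Om w B).Finite := Set.toFinite _
  have hsurj := (hfin.injOn_iff_bijOn_of_mapsTo (f := fun z : Fin 6 → F => (g : M6 F) *ᵥ z) h).1 hinj.injOn
  obtain ⟨y, hy, e⟩ := hsurj.surjOn hz
  rwa [← hinj e]

theorem Pres.of_chk [Finite F] {p : ℕ} [CharP F p] (hp : 5 ≤ p) (hp' : p.Prime) (hw : w * w + w + 1 = 0)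
    {M : List (List E)} {T : List (ℕ × E)} (hchk : chk vs M T = true) {g : GL (Fin 6) F}
    (hg : (g : M6 F) * (B : M6 F) = (B : M6 F) * mat w M) : Pres w B g := by
  obtain ⟨h1, h2⟩ := chk_spec hchk
  apply pres_of_map
  rintro _ ⟨v, hv, c, hc, rfl⟩
  obtain ⟨v', hv', s, hs, e⟩ := h2 v hv
  refine ⟨v', hv', c * ev w s, mul_ne_zero hc (ev_ne_zero hw hp hp' hs), ?_⟩
  rw [Matrix.mulVec_smul, Matrix.mulVec_mulVec, hg, ← Matrix.mulVec_mulVec, mat_mulVec hw h1, e, vec_smul hw,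
    Matrix.mulVec_smul, smul_smul]

theorem mat_mono {M : List (List E)} {σ : Perm (Fin 6)} {d : Fin 6 → E}
    (h : ∀ i j : Fin 6, ent M i j = if i = σ j then d j else (0, 0)) : mat w M = mono σ fun j => ev w (d j) := by
  ext i j
  rw [mono_apply, mat, Matrix.of_apply]
  have := h i j
  rw [ent] at this
  rw [this]
  split_ifs
  · rfl
  · exact ev_zero w

theorem mat_t1 : mat w Mt1 = mono (c[0, 1] * c[2, 3]) (fun _ => (1 : F)) := by
  rw [mat_mono (σ := c[0, 1] * c[2, 3]) (d := fun _ => (1, 0)) (by decide +kernel)]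
  simp only [ev_one]

theorem mat_t2 : mat w Mt2 = mono (c[0, 2] * c[1, 3]) (fun _ => (1 : F)) := by
  rw [mat_mono (σ := c[0, 2] * c[1, 3]) (d := fun _ => (1, 0)) (by decide +kernel)]
  simp only [ev_one]

theorem mat_u : mat w Mu = mono (c[0, 1] * c[4, 5]) (fun _ => (1 : F)) := by
  rw [mat_mono (σ := c[0, 1] * c[4, 5]) (d := fun _ => (1, 0)) (by decide +kernel)]
  simp only [ev_one]

theorem mat_r : mat w Mr = mono (c[2, 4] * c[3, 5]) (fun _ => (1 : F)) := by
  rw [mat_mono (σ := c[2, 4] * c[3, 5]) (d := fun _ => (1, 0)) (by decide +kernel)]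
  simp only [ev_one]

theorem mat_x (hw : w * w + w + 1 = 0) : mat w Mx = mono c[0, 1, 2] (![1, 1, 1, 1, w * w, w] : Fin 6 → F) := by
  rw [mat_mono (σ := c[0, 1, 2]) (d := ![(1, 0), (1, 0), (1, 0), (1, 0), (-1, -1), (0, 1)]) (by decide +kernel)]
  congr 1
  have e2 : w * w = -1 - w := by linear_combination hw
  ext j
  fin_cases j <;> simp [ev, e2]
  ring

variable {G : Type*} [Group G] {m : G →* M6 F} {φ : G →* Perm (Fin 6)} {t1 t2 u r x a b : G}

theorem sM_mat (hw : w * w + w + 1 = 0) (e : E) : mat w (sM e) = ev w e • (1 : M6 F) := by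
  ext i j
  have e1 : (sM e).getD i [] = (List.range 6).map fun j => if (i : ℕ) = j then e else (0, 0) := by
    rw [sM, List.getD_eq_getElem _ _ (by rw [List.length_map, List.length_range]; exact i.2), List.getElem_map,
      List.getElem_range]
  have : ((sM e).getD i []).getD j (0, 0) = if (i : ℕ) = j then e else (0, 0) := by
    rw [e1, List.getD_eq_getElem _ _ (by rw [List.length_map, List.length_range]; exact j.2), List.getElem_map,
      List.getElem_range]
  rw [mat, Matrix.of_apply, this, Matrix.smul_apply, Matrix.one_apply]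
  by_cases h : i = j
  · rw [if_pos h, if_pos (by rw [h]), smul_eq_mul, mul_one]
  · rw [if_neg h, if_neg (fun h' => h (Fin.ext h')), ev_zero, smul_zero]

end Cfsg.Agent.H910.Six
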