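import Cfsg.Agent.H910.Six.OmegaData

/-!
# The 252 lines of `6.L₃(4).2` (helper910), checks
-/

set_option autoImplicit false
set_option maxRecDepth 100000

namespace Cfsg.Agent.H910.Six

theorem chk_t1 : chk vs Mt1 Tt1 = true := by decide +kernel
theorem chk_t2 : chk vs Mt2 Tt2 = true := by decide +kernel
theorem chk_u : chk vs Mu Tu = true := by decide +kernel
theorem chk_r : chk vs Mr Tr = true := by decide +kernel
theorem chk_x : chk vs Mx Tx = true := by decide +kernel
theorem chk_h : chk vs Mh Th = true := by decide +kernel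
theorem chk_y : chk vs My Ty = true := by decide +kernel

/-- a scalar matrix -/
def sM (e : E) : List (List E) := (List.range 6).map fun i => (List.range 6).map fun j => if i = j then e else (0, 0)

theorem hs_h : mulM Mhs Mh = sM (6, 0) := by decide +kernel
theorem h_hs : mulM Mh Mhs = sM (6, 0) := by decide +kernel
theorem ys_y : mulM Mys My = sM (3, 0) := by decide +kernel
theorem y_ys : mulM My Mys = sM (3, 0) := by decide +kernel
theorem n_y : mulM Mn My = mulM (mulM My Mt1) (sM (3, 0)) := by decide +kernel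

/-- difference -/
def esub (x y : E) : E := (x.1 - y.1, x.2 - y.2)

/-- entry -/
def ent (M : List (List E)) (i j : ℕ) : E := (M.getD i []).getD j (0, 0)

/-- the first row of `N t2` is not proportional to a row of `N` -/
theorem n_t2 : ∀ i : Fin 6, ∃ j k : Fin 6, enorm (esub (emul (ent (mulM Mn Mt2) 0 j) (ent Mn i k))
    (emul (ent (mulM Mn Mt2) 0 k) (ent Mn i j))) ∣ 144 := by decide +kernel

/-- no line is spanned by `e₀ + e₁` -/
theorem vs_good : ∀ v ∈ vs, (∃ i : Fin 6, 1 < (i : ℕ) ∧ enorm (v.getD i (0, 0)) ∣ 144) ∨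
    enorm (esub (v.getD 0 (0, 0)) (v.getD 1 (0, 0))) ∣ 144 := by decide +kernel

/-- `e₀ - e₁` is one of the lines -/
theorem vs_mem : [(1, 0), (-1, 0), (0, 0), (0, 0), (0, 0), (0, 0)] ∈ vs := by decide +kernel

end Cfsg.Agent.H910.Six
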