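import Cfsg.Agent.H910.Six.Normal

/-!
# Traces of the involutions of `3.A₆` (helper910)

`Hex.trace_two`: if `G` is absolutely irreducible and `p ≥ 5`, then the involutions have trace `2`.
-/

set_option autoImplicit false
set_option linter.unusedSectionVars false

open Matrix Equiv

namespace Cfsg.Agent.H910.Six

variable {F : Type*} [Field F]

/-- ranks of orthogonal idempotents add up -/
theorem rank_add_idem {n : Type*} [Fintype n] [DecidableEq n] {A B : Matrix n n F} (hA : A * A = A) (hB : B * B = B)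
    (hAB : A * B = 0) (hBA : B * A = 0) : (A + B).rank = A.rank + B.rank := by
  have h1 : LinearMap.range (A + B).mulVecLin = LinearMap.range A.mulVecLin ⊔ LinearMap.range B.mulVecLin := by
    apply le_antisymm
    · rintro _ ⟨y, rfl⟩
      rw [Matrix.mulVecLin_apply, Matrix.add_mulVec]
      exact Submodule.add_mem_sup ⟨y, rfl⟩ ⟨y, rfl⟩
    · apply sup_le
      · rintro _ ⟨y, rfl⟩
        refine ⟨A *ᵥ y, ?_⟩
        rw [Matrix.mulVecLin_apply, Matrix.mulVecLin_apply, Matrix.mulVec_mulVec, add_mul, hA, hBA, add_zero]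
      · rintro _ ⟨y, rfl⟩
        refine ⟨B *ᵥ y, ?_⟩
        rw [Matrix.mulVecLin_apply, Matrix.mulVecLin_apply, Matrix.mulVec_mulVec, add_mul, hB, hAB, zero_add]
  have h2 : LinearMap.range A.mulVecLin ⊓ LinearMap.range B.mulVecLin = ⊥ := by
    rw [eq_bot_iff]
    rintro z ⟨⟨y, hy⟩, ⟨y', hy'⟩⟩
    rw [Submodule.mem_bot]
    rw [Matrix.mulVecLin_apply] at hy hy'
    have e1 : A *ᵥ z = z := by rw [← hy, Matrix.mulVec_mulVec, hA]
    rw [← e1, ← hy', Matrix.mulVec_mulVec, hAB, Matrix.zero_mulVec]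
  have h3 := Submodule.finrank_sup_add_finrank_inf_eq (LinearMap.range A.mulVecLin) (LinearMap.range B.mulVecLin)
  rw [h2, finrank_bot, add_zero] at h3
  rw [Matrix.rank, Matrix.rank, Matrix.rank, ← h3, h1]

theorem rank_conj {n : Type*} [Fintype n] [DecidableEq n] {A B K K' : Matrix n n F} (h : B = K * A * K') (h' : A = K' * B * K) :
    A.rank = B.rank := by
  apply le_antisymm
  · rw [h']
    exact (Matrix.rank_mul_le_left _ _).trans (Matrix.rank_mul_le_right _ _)
  · rw [h]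
    exact (Matrix.rank_mul_le_left _ _).trans (Matrix.rank_mul_le_right _ _)

theorem invol_conj : ∀ σ : Perm (Fin 6), σ * σ = 1 → Perm.sign σ = 1 → σ ≠ 1 →
    ∃ τ : Perm (Fin 6), Perm.sign τ = 1 ∧ σ = τ * (c[0, 1] * c[2, 3]) * τ⁻¹ := by
  decide +kernel

variable {G : Type*} [Group G] {m : G →* M6 F} {φ : G →* Perm (Fin 6)} {t1 t2 u r x a b : G}

/-- all involutions are conjugate -/
theorem Hex.trace_invol (h : Hex m φ) (d : Data m φ t1 t2 u r x a b) {g : G} (hg : g * g = 1) (hφ : φ g ≠ 1) :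
    (m g).trace = (m t1).trace := by
  obtain ⟨τ, hτ, e⟩ := invol_conj (φ g) (by rw [← map_mul, hg, map_one]) (h.even g) hφ
  obtain ⟨k, hk⟩ := h.onto τ hτ
  have : k * t1 * k⁻¹ = g := h.conj (by rw [hk, d.ht1, e]) d.qt1 hg
  rw [← this, tr_conj']

/-- the relations between the generators -/
theorem Data.rels (h : Hex m φ) (d : Data m φ t1 t2 u r x a b) :
    t1 * t2 = t2 * t1 ∧ t1 * u = u * t1 ∧ x * t2 = t1 * x ∧ x * t1 = t1 * t2 * x ∧ x * (t1 * t2) = t2 * x ∧
    u * t2 = t1 * t2 * u ∧ r * t1 = u * r ∧ r * u = t1 * r ∧ r * t2 * (r * t2) * (r * t2) = 1 := by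
  have h1 : t1 * t2 = t2 * t1 := h.comm (by rw [d.ht1, d.ht2]; decide) d.qt2
  have q : t1 * t2 * (t1 * t2) = 1 := by
    calc t1 * t2 * (t1 * t2) = t1 * (t2 * t1) * t2 := by group
      _ = (t1 * t1) * (t2 * t2) := by rw [← h1]; group
      _ = 1 := by rw [d.qt1, d.qt2, mul_one]
  have g : ∀ {k a b : G}, k * a * k⁻¹ = b → k * a = b * k := fun h => by rw [← h]; group
  refine ⟨h1, h.comm (by rw [d.ht1, d.hu]; decide) d.qu,
    g (h.conj (by rw [d.hx, d.ht1, d.ht2]; decide) d.qt2 d.qt1),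
    g (h.conj (by rw [map_mul, d.hx, d.ht1, d.ht2]; decide) d.qt1 q),
    g (h.conj (by rw [map_mul, d.hx, d.ht1, d.ht2]; decide) q d.qt2),
    g (h.conj (by rw [map_mul, d.hu, d.ht1, d.ht2]; decide) d.qt2 q),
    g (h.conj (by rw [d.hr, d.ht1, d.hu]; decide) d.qt1 d.qu),
    g (h.conj (by rw [d.hr, d.ht1, d.hu]; decide) d.qu d.qt1), ?_⟩
  refine h.cube_three (x := r * t2) (u := t2) (by rw [map_mul, d.hr, d.ht2]; decide) d.qt2 ?_
  rw [_root_.mul_inv_rev, inv_eq_of_mul_eq_one_left d.qr, inv_eq_of_mul_eq_one_left d.qt2]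
  calc t2 * (r * t2) * t2 = t2 * r * (t2 * t2) := by group
    _ = t2 * r := by rw [d.qt2, mul_one]

section gamma

variable {R : Type*} [Ring R]

/-- the relations used to build the operator `Γ`; `A = x⁻¹`, `B = x`, `C = r t2`, `D = t2 r` -/
structure GRel (e T S U A B C D : R) : Prop where
  two : ∀ z : R, z + z = 0 → z = 0
  he : e + e = 1 + T
  TT : T * T = 1
  SS : S * S = 1
  UU : U * U = 1
  TS : T * S = S * T
  TU : T * U = U * T
  AA : A * A = B
  BB : B * B = A
  AB : A * B = 1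
  BA : B * A = 1
  CC : C * C = D
  DD : D * D = C
  CD : C * D = 1
  DC : D * C = 1
  AT : A * T = S * A
  AS : A * S = T * S * A
  BT : B * T = T * S * B
  BS : B * S = T * B
  UA : U * A = B * U
  UB : U * B = A * U
  CT : C * T = U * C
  CU : C * U = T * U * C
  DT : D * T = T * U * D
  DU : D * U = T * D
  SC : S * C = D * S
  SD : S * D = C * S
  eS : (1 + T) * (1 + S) = 0
  eU : (1 + T) * (1 + U) = 0

variable {e T S U A B C D : R}

theorem GRel.base (g : GRel e T S U A B C D) : T * e = e ∧ e * T = e ∧ e * e = e ∧ e * S = -e ∧ S * e = -e ∧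
    e * U = -e ∧ U * e = -e := by
  have c2 : ∀ {y z : R}, y + y = z + z → y = z := fun {y z} h => by
    have := g.two (y - z) (by
      calc y - z + (y - z) = (y + y) - (z + z) := by abel
        _ = 0 := by rw [h, sub_self])
    exact sub_eq_zero.1 this
  have h1 : T * e = e := c2 (by
    rw [← mul_add, g.he, mul_add, mul_one, g.TT, add_comm T 1])
  have h2 : e * T = e := c2 (by
    rw [← add_mul, g.he, add_mul, one_mul, g.TT, add_comm T 1])
  have h3 : e * S = -e := c2 (by
    rw [← add_mul, g.he]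
    calc (1 + T) * S = (1 + T) * (1 + S) - (1 + T) := by noncomm_ring
      _ = -(1 + T) := by rw [g.eS, zero_sub]
      _ = -e + -e := by rw [← g.he]; abel)
  have h4 : e * U = -e := c2 (by
    rw [← add_mul, g.he]
    calc (1 + T) * U = (1 + T) * (1 + U) - (1 + T) := by noncomm_ring
      _ = -(1 + T) := by rw [g.eU, zero_sub]
      _ = -e + -e := by rw [← g.he]; abel)
  have cS : S * e = e * S := c2 (by
    rw [← mul_add, ← add_mul, g.he, mul_add, add_mul, g.TS, one_mul, mul_one])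
  have cU : U * e = e * U := c2 (by
    rw [← mul_add, ← add_mul, g.he, mul_add, add_mul, g.TU, one_mul, mul_one])
  refine ⟨h1, h2, c2 ?_, h3, by rw [cS, h3], h4, by rw [cU, h4]⟩
  rw [← mul_add, g.he, mul_add, mul_one, h2]
  exact g.he

theorem GRel.zero (g : GRel e T S U A B C D) : e * A * e = 0 ∧ e * B * e = 0 ∧ e * C * e = 0 ∧ e * D * e = 0 := by
  obtain ⟨h1, h2, h3, h4, h5, h6, h7⟩ := g.base
  have key : ∀ {Y Z : R}, Y * T = Z * Y → e * Z = -e → e * Y * e = 0 := by
    intro Y Z hYZ hZ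
    apply g.two
    have : e * Y * e = -(e * Y * e) := by
      calc e * Y * e = e * Y * (T * e) := by rw [h1]
        _ = e * (Y * T) * e := by simp only [mul_assoc]
        _ = e * Z * Y * e := by rw [hYZ]; simp only [mul_assoc]
        _ = -(e * Y * e) := by rw [hZ]; simp only [neg_mul, mul_assoc]
    nth_rewrite 2 [this]
    exact add_neg_cancel _
  refine ⟨key g.AT h4, key g.BT ?_, key g.CT h6, key g.DT ?_⟩
  · rw [← mul_assoc, h2, h4]
  · rw [← mul_assoc, h2, h6]

theorem GRel.one (g : GRel e T S U A B C D) : e + A * e * B + B * e * A = 1 ∧ e + C * e * D + D * e * C = 1 := by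
  obtain ⟨h1, h2, h3, h4, h5, h6, h7⟩ := g.base
  have c2 : ∀ {y z : R}, y + y = z + z → y = z := fun {y z} h => by
    have := g.two (y - z) (by
      calc y - z + (y - z) = (y + y) - (z + z) := by abel
        _ = 0 := by rw [h, sub_self])
    exact sub_eq_zero.1 this
  have dbl : ∀ Y Z : R, Y * e * Z + Y * e * Z = Y * Z + Y * T * Z := by
    intro Y Z
    calc Y * e * Z + Y * e * Z = Y * (e + e) * Z := by noncomm_ring
      _ = Y * (1 + T) * Z := by rw [g.he]
      _ = Y * Z + Y * T * Z := by noncomm_ring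
  constructor
  · apply c2
    calc e + A * e * B + B * e * A + (e + A * e * B + B * e * A)
        = (e + e) + (A * e * B + A * e * B) + (B * e * A + B * e * A) := by abel
      _ = (1 + T) + (1 + S) + (1 + T * S) := by
        rw [g.he, dbl, dbl, g.AB, g.BA, g.AT, g.BT, mul_assoc S, mul_assoc (T * S), g.AB, g.BA, mul_one, mul_one]
      _ = (1 + T) * (1 + S) + (1 + 1) := by noncomm_ring
      _ = 1 + 1 := by rw [g.eS, zero_add]
  · apply c2
    calc e + C * e * D + D * e * C + (e + C * e * D + D * e * C)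
        = (e + e) + (C * e * D + C * e * D) + (D * e * C + D * e * C) := by abel
      _ = (1 + T) + (1 + U) + (1 + T * U) := by
        rw [g.he, dbl, dbl, g.CD, g.DC, g.CT, g.DT, mul_assoc U, mul_assoc (T * U), g.CD, g.DC, mul_one, mul_one]
      _ = (1 + T) * (1 + U) + (1 + 1) := by noncomm_ring
      _ = 1 + 1 := by rw [g.eU, zero_add]

/-- `γ = e ρ⁻¹ ρ' e` -/
theorem GRel.gam (g : GRel e T S U A B C D) : C * e = (A - B) * (e * B * C * e) ∧ D * e = -((A + B) * (e * B * C * e)) := by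
  obtain ⟨h1, h2, h3, h4, h5, h6, h7⟩ := g.base
  obtain ⟨z1, z2, z3, z4⟩ := g.zero
  obtain ⟨o1, o2⟩ := g.one
  have f1 : e * A * C * e = -(e * B * C * e) := by
    have hA : A = U * B * U := by rw [g.UB, mul_assoc, g.UU, mul_one]
    calc e * A * C * e = e * (U * B * U) * C * e := by rw [← hA]
      _ = (e * U) * B * (U * C) * e := by simp only [mul_assoc]
      _ = -(e * B * (C * T) * e) := by rw [h6, g.CT]; simp only [neg_mul, mul_assoc]
      _ = -(e * B * C * (T * e)) := by simp only [mul_assoc]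
      _ = -(e * B * C * e) := by rw [h1]
  have f2 : C * e = (A - B) * (e * B * C * e) := by
    calc C * e = (e + A * e * B + B * e * A) * (C * e) := by rw [o1, one_mul]
      _ = e * C * e + A * (e * B * C * e) + B * (e * A * C * e) := by simp only [add_mul, mul_assoc]
      _ = (A - B) * (e * B * C * e) := by rw [z3, f1, zero_add, mul_neg, sub_mul, sub_eq_add_neg]
  refine ⟨f2, ?_⟩
  have t1 : T * (e * B * C * e) = e * B * C * e := by simp only [← mul_assoc, h1]
  have s1 : S * (e * B * C * e) = -(e * B * C * e) := by simp only [← mul_assoc, h5, neg_mul]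
  have e1 : S * (C * e) = -(D * e) := by
    calc S * (C * e) = D * (S * e) := by rw [← mul_assoc, g.SC, mul_assoc]
      _ = -(D * e) := by rw [h5, mul_neg]
  have e2 : S * A = A * T := g.AT.symm
  have e3 : S * B = B * (T * S) := by
    have : B * T = T * (S * B) := by rw [g.BT, mul_assoc]
    calc S * B = T * (T * (S * B)) := by rw [← mul_assoc, g.TT, one_mul]
      _ = (T * B) * T := by rw [← this, mul_assoc]
      _ = B * (T * S) := by rw [← g.BS, mul_assoc, g.TS]
  have e4 : S * (C * e) = (A + B) * (e * B * C * e) := by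
    rw [f2, ← mul_assoc, mul_sub, e2, e3, sub_mul, mul_assoc A, mul_assoc B, mul_assoc T, s1, t1, mul_neg, t1, mul_neg,
      sub_neg_eq_add, add_mul]
  rw [← neg_eq_iff_eq_neg, ← e1, e4]

theorem GRel.Gam (g : GRel e T S U A B C D) : ∃ Γ : R, Γ * e = e * B * C * e ∧ Γ * B = B * Γ ∧ Γ * T = T * Γ ∧
    Γ * S = S * Γ ∧ Γ * U = U * Γ ∧ Γ * C = C * Γ := by
  obtain ⟨h1, h2, h3, h4, h5, h6, h7⟩ := g.base
  obtain ⟨z1, z2, z3, z4⟩ := g.zero
  obtain ⟨o1, o2⟩ := g.one
  obtain ⟨g1, g2⟩ := g.gam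
  have l1 : T * (e * B * C * e) = e * B * C * e := by simp only [← mul_assoc, h1]
  have l2 : S * (e * B * C * e) = -(e * B * C * e) := by simp only [← mul_assoc, h5, neg_mul]
  have l3 : U * (e * B * C * e) = -(e * B * C * e) := by simp only [← mul_assoc, h7, neg_mul]
  have r0 : (e * B * C * e) * e = e * B * C * e := by rw [mul_assoc _ e e, h3]
  have r1 : (e * B * C * e) * T = e * B * C * e := by rw [mul_assoc _ e T, h2]
  have r2 : (e * B * C * e) * S = -(e * B * C * e) := by rw [mul_assoc _ e S, h4, mul_neg]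
  have r3 : (e * B * C * e) * U = -(e * B * C * e) := by rw [mul_assoc _ e U, h6, mul_neg]
  have r4 : (e * B * C * e) * (B * e) = 0 := by
    rw [← mul_assoc, mul_assoc _ e B, mul_assoc _ (e * B) e, z2, mul_zero]
  have r5 : (e * B * C * e) * (A * e) = 0 := by
    rw [← mul_assoc, mul_assoc _ e A, mul_assoc _ (e * A) e, z1, mul_zero]
  generalize hγ : e * B * C * e = γ at *
  have e2 : S * A = A * T := g.AT.symm
  have TSA : T * (S * A) = A * S := by rw [← mul_assoc, g.AS]
  have TSB : T * (S * B) = B * T := by rw [← mul_assoc, g.BT]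
  have TA : T * A = A * (T * S) := by
    rw [← mul_assoc, g.AT, mul_assoc S, g.AS, mul_assoc T, ← mul_assoc, ← g.TS, mul_assoc T, ← mul_assoc S, g.SS, one_mul]
  have TB : T * B = B * S := g.BS.symm
  have SB : S * B = B * (T * S) := by
    calc S * B = T * (T * (S * B)) := by rw [← mul_assoc, g.TT, one_mul]
      _ = (T * B) * T := by rw [TSB, mul_assoc]
      _ = B * (T * S) := by rw [← g.BS, mul_assoc, g.TS]
  set Γ := γ + A * γ * B + B * γ * A with hΓ
  have c0 : Γ * e = γ := by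
    rw [hΓ, add_mul, add_mul, mul_assoc (A * γ), mul_assoc A, r4, mul_assoc (B * γ), mul_assoc B, r5, mul_zero, mul_zero,
      add_zero, add_zero, r0]
  have cB : Γ * B = B * Γ := by
    rw [hΓ]
    calc (γ + A * γ * B + B * γ * A) * B = γ * B + A * γ * (B * B) + B * γ * (A * B) := by noncomm_ring
      _ = B * γ + (B * A) * γ * B + (B * B) * γ * A := by rw [g.BB, g.AB, g.BA, mul_one, one_mul]; abel
      _ = B * (γ + A * γ * B + B * γ * A) := by noncomm_ring
  have cA : Γ * A = A * Γ := by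
    rw [hΓ]
    calc (γ + A * γ * B + B * γ * A) * A = γ * A + A * γ * (B * A) + B * γ * (A * A) := by noncomm_ring
      _ = A * γ + (A * A) * γ * B + (A * B) * γ * A := by rw [g.AA, g.AB, g.BA, mul_one, one_mul]; abel
      _ = A * (γ + A * γ * B + B * γ * A) := by noncomm_ring
  have cT : Γ * T = T * Γ := by
    rw [hΓ]
    calc (γ + A * γ * B + B * γ * A) * T = γ * T + A * γ * (B * T) + B * γ * (A * T) := by noncomm_ring
      _ = γ * T + A * ((γ * T) * S) * B + B * (γ * S) * A := by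
        rw [g.BT, g.AT]; noncomm_ring
      _ = T * γ + A * (T * (S * γ)) * B + B * (S * γ) * A := by rw [r1, r2, l2, mul_neg T, l1]
      _ = T * γ + (A * (T * S)) * γ * B + (B * S) * γ * A := by noncomm_ring
      _ = T * (γ + A * γ * B + B * γ * A) := by rw [← TA, ← TB]; noncomm_ring
  have cS : Γ * S = S * Γ := by
    rw [hΓ]
    calc (γ + A * γ * B + B * γ * A) * S = γ * S + A * γ * (B * S) + B * γ * (A * S) := by noncomm_ring
      _ = γ * S + A * (γ * T) * B + B * ((γ * T) * S) * A := by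
        rw [g.BS, g.AS]; noncomm_ring
      _ = S * γ + A * (T * γ) * B + B * (T * (S * γ)) * A := by rw [r1, r2, l2, mul_neg T, l1]
      _ = S * γ + (A * T) * γ * B + (B * (T * S)) * γ * A := by noncomm_ring
      _ = S * (γ + A * γ * B + B * γ * A) := by rw [← e2, ← SB]; noncomm_ring
  have cU : Γ * U = U * Γ := by
    rw [hΓ]
    have BU : B * U = U * A := g.UA.symm
    have AU : A * U = U * B := g.UB.symm
    calc (γ + A * γ * B + B * γ * A) * U = γ * U + A * γ * (B * U) + B * γ * (A * U) := by noncomm_ring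
      _ = γ * U + A * (γ * U) * A + B * (γ * U) * B := by rw [BU, AU]; noncomm_ring
      _ = U * γ + (A * U) * γ * A + (B * U) * γ * B := by rw [r3, l3.symm]; noncomm_ring
      _ = U * γ + (U * B) * γ * A + (U * A) * γ * B := by rw [BU, AU]
      _ = U * (γ + A * γ * B + B * γ * A) := by noncomm_ring
  refine ⟨Γ, c0, cB, cT, cS, cU, ?_⟩
  have cγ : Γ * γ = γ * γ := by
    have e5 : γ = e * γ := by rw [← hγ, ← mul_assoc, ← mul_assoc, ← mul_assoc, h3]
    nth_rewrite 1 [e5]
    rw [← mul_assoc, c0]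
  have k1 : Γ * C * e = C * Γ * e := by
    rw [mul_assoc Γ, g1, ← mul_assoc, mul_sub, cA, cB, ← sub_mul, mul_assoc (A - B), cγ, mul_assoc C, c0, ← mul_assoc, ← g1,
      mul_assoc C]
    rw [← hγ]
    simp only [← mul_assoc]
    rw [mul_assoc C e e, h3]
  have k2 : Γ * C * (C * e) = C * Γ * (C * e) := by
    have e6 : C * Γ * (C * e) = C * ((A - B) * (γ * γ)) := by
      rw [mul_assoc C, g1, ← mul_assoc Γ, mul_sub, cA, cB, ← sub_mul, mul_assoc (A - B), cγ]
    have e7 : Γ * C * (C * e) = -((A + B) * (γ * γ)) := by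
      rw [← mul_assoc, mul_assoc Γ, g.CC, mul_assoc, g2, mul_neg, ← mul_assoc, mul_add, cA, cB, ← add_mul, mul_assoc (A + B), cγ]
    have e8 : C * ((A - B) * (γ * γ)) = D * e * γ := by
      rw [← mul_assoc (A - B), ← g1, ← g.CC]; noncomm_ring
    rw [e6, e7, e8, g2, neg_mul, mul_assoc]
  have k3 : Γ * C * (D * e) = C * Γ * (D * e) := by
    have e6 : Γ * C * (D * e) = γ := by
      rw [← mul_assoc, mul_assoc Γ, g.CD, mul_one, c0]
    have e7 : C * Γ * (D * e) = C * (-((A + B) * (γ * γ))) := by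
      rw [mul_assoc, g2, mul_neg Γ, ← mul_assoc Γ, mul_add, cA, cB, ← add_mul, mul_assoc (A + B), cγ]
    rw [e6, e7, ← mul_assoc (A + B), ← neg_mul, ← g2, ← mul_assoc, ← mul_assoc, g.CD, one_mul]
    rw [← hγ]
    simp only [← mul_assoc, h3]
  have hone : Γ * C * (e + C * e * D + D * e * C) = C * Γ * (e + C * e * D + D * e * C) := by
    rw [mul_add, mul_add, mul_add, mul_add, ← mul_assoc _ (C * e) D, ← mul_assoc _ (D * e) C, ← mul_assoc _ (C * e) D,
      ← mul_assoc _ (D * e) C, k1, k2, k3]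
  rw [o2, mul_one, mul_one] at hone
  exact hone

end gamma

section main

variable {G : Type*} [Group G] {m : G →* M6 F} {φ : G →* Perm (Fin 6)} {t1 t2 u r x a b : G}

/-- an idempotent-like rank computation -/
theorem rank_two {p : ℕ} [CharP F p] (hp : 5 ≤ p) {E : M6 F} (hE : E * E = E) (ht : E.trace = 2) : E.rank < p := by
  have e1 := trace_idem hE
  have e2 : ((E.rank : ℕ) : F) = ((2 : ℕ) : F) := by rw [← e1, ht]; norm_num
  have e3 : E.rank ≤ 6 := by
    have := Matrix.rank_le_card_width E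
    simpa using this
  rw [CharP.cast_eq_iff_mod_eq F p] at e2
  rw [Nat.mod_eq_of_lt (show 2 < p by omega)] at e2
  by_contra hlt
  push Not at hlt
  have e4 : E.rank % p = E.rank - p := by
    rw [Nat.mod_eq_sub_mod hlt, Nat.mod_eq_of_lt (by omega)]
  omega

theorem idem4 {A B : M6 F} (h4 : (4 : F) ≠ 0) (hA : A * A = A + A) (hB : B * B = B + B) (hAB : A * B = B * A) :
    ((4 : F)⁻¹ • (A * B)) * ((4 : F)⁻¹ • (A * B)) = (4 : F)⁻¹ • (A * B) := by
  have e1 : A * B * (A * B) = (4 : F) • (A * B) := by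
    calc A * B * (A * B) = A * (B * A) * B := by simp only [mul_assoc]
      _ = (A * A) * (B * B) := by rw [← hAB]; simp only [mul_assoc]
      _ = (4 : F) • (A * B) := by
        rw [hA, hB, show (4 : F) = 1 + 1 + 1 + 1 by norm_num]
        simp only [add_smul, one_smul]
        noncomm_ring
  rw [smul_mul_smul_comm, e1, smul_smul]
  congr 1
  field_simp

theorem orth4 {A B C D : M6 F} (hBC : B * C = C * B)
    (h : A * C = 0 ∨ B * D = 0) :
    ((4 : F)⁻¹ • (A * B)) * ((4 : F)⁻¹ • (C * D)) = 0 := by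
  rw [smul_mul_smul_comm]
  have e1 : A * B * (C * D) = (A * C) * (B * D) := by
    calc A * B * (C * D) = A * (B * C) * D := by simp only [mul_assoc]
      _ = (A * C) * (B * D) := by rw [hBC]; simp only [mul_assoc]
  rw [e1]
  rcases h with h | h
  · rw [h, zero_mul, smul_zero]
  · rw [h, mul_zero, smul_zero]

theorem conj_mul' {A B K K' : M6 F} (h : K' * K = 1) : K * (A * B) * K' = (K * A * K') * (K * B * K') := by
  calc K * (A * B) * K' = K * A * 1 * B * K' := by simp only [mul_assoc, one_mul]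
    _ = (K * A * K') * (K * B * K') := by rw [← h]; simp only [mul_assoc]

theorem Data.trace_or {p : ℕ} [CharP F p] (hp : 5 ≤ p) (h : Hex m φ) (d : Data m φ t1 t2 u r x a b) :
    (m t1).trace = 2 ∨ (m t1).trace = -2 := by
  have n2 : (2 : F) ≠ 0 := by
    intro h0
    have := (CharP.cast_eq_zero_iff F p 2).1 (by exact_mod_cast h0)
    have := Nat.le_of_dvd (by norm_num) this
    omega
  have n4 : (4 : F) ≠ 0 := by rw [show (4 : F) = 2 * 2 by norm_num]; exact mul_ne_zero n2 n2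
  obtain ⟨r1, r2, r3, r4, r5, r6, r7, r8, r9⟩ := d.rels h
  have mT : m t1 * m t1 = 1 := by rw [← map_mul, d.qt1, map_one]
  have mS : m t2 * m t2 = 1 := by rw [← map_mul, d.qt2, map_one]
  have mTS : m t1 * m t2 = m t2 * m t1 := by rw [← map_mul, r1, map_mul]
  have hUT : m t1 * m u = m u * m t1 := by rw [← map_mul, r2, map_mul]
  have hUS : m u * m t2 = m t1 * m t2 * m u := by rw [← map_mul, r6, map_mul, map_mul]
  have hXT : m x * m t1 = m t1 * m t2 * m x := by rw [← map_mul, r4, map_mul, map_mul]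
  have hXS : m x * m t2 = m t1 * m x := by rw [← map_mul, r3, map_mul]
  have hU' : m u * m u = 1 := by rw [← map_mul, d.qu, map_one]
  have hX' : m x * m x⁻¹ = 1 := by rw [← map_mul, mul_inv_cancel, map_one]
  have hX'' : m x⁻¹ * m x = 1 := by rw [← map_mul, inv_mul_cancel, map_one]
  have hT1 : m t1 ≠ 1 := by
    intro h1
    have : t1 = 1 := h.inj (by rw [h1, map_one])
    have h2 := d.ht1
    rw [this, map_one] at h2
    exact absurd h2 (by decide)
  generalize m t1 = T at *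
  generalize m t2 = S at *
  generalize m u = U at *
  generalize m x = X at *
  generalize m x⁻¹ = X' at *
  have pp : (1 + T) * (1 + T) = (1 + T) + (1 + T) := by
    calc (1 + T) * (1 + T) = 1 + T + T + T * T := by noncomm_ring
      _ = _ := by rw [mT]; abel
  have mm : (1 - T) * (1 - T) = (1 - T) + (1 - T) := by
    calc (1 - T) * (1 - T) = 1 - T - T + T * T := by noncomm_ring
      _ = _ := by rw [mT]; abel
  have pp' : (1 + S) * (1 + S) = (1 + S) + (1 + S) := by
    calc (1 + S) * (1 + S) = 1 + S + S + S * S := by noncomm_ring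
      _ = _ := by rw [mS]; abel
  have mm' : (1 - S) * (1 - S) = (1 - S) + (1 - S) := by
    calc (1 - S) * (1 - S) = 1 - S - S + S * S := by noncomm_ring
      _ = _ := by rw [mS]; abel
  have pm : (1 + T) * (1 - T) = 0 := by
    calc (1 + T) * (1 - T) = 1 - T * T := by noncomm_ring
      _ = 0 := by rw [mT, sub_self]
  have mp : (1 - T) * (1 + T) = 0 := by
    calc (1 - T) * (1 + T) = 1 - T * T := by noncomm_ring
      _ = 0 := by rw [mT, sub_self]
  have pm' : (1 + S) * (1 - S) = 0 := by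
    calc (1 + S) * (1 - S) = 1 - S * S := by noncomm_ring
      _ = 0 := by rw [mS, sub_self]
  have mp' : (1 - S) * (1 + S) = 0 := by
    calc (1 - S) * (1 + S) = 1 - S * S := by noncomm_ring
      _ = 0 := by rw [mS, sub_self]
  have c1 : (1 + T) * (1 + S) = (1 + S) * (1 + T) := by
    calc (1 + T) * (1 + S) = 1 + T + S + T * S := by noncomm_ring
      _ = _ := by rw [mTS]; noncomm_ring
  have c2 : (1 + T) * (1 - S) = (1 - S) * (1 + T) := by
    calc (1 + T) * (1 - S) = 1 + T - S - T * S := by noncomm_ring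
      _ = _ := by rw [mTS]; noncomm_ring
  have c3 : (1 - T) * (1 + S) = (1 + S) * (1 - T) := by
    calc (1 - T) * (1 + S) = 1 - T + S - T * S := by noncomm_ring
      _ = _ := by rw [mTS]; noncomm_ring
  have c4 : (1 - T) * (1 - S) = (1 - S) * (1 - T) := by
    calc (1 - T) * (1 - S) = 1 - T - S + T * S := by noncomm_ring
      _ = _ := by rw [mTS]; noncomm_ring
  have i1 := idem4 n4 mm pp' c3
  have i2 := idem4 n4 mm mm' c4
  have i3 := idem4 n4 pp mm' c2
  have o12 := orth4 (F := F) (A := 1 - T) (D := 1 - S) c3.symm (Or.inr pm')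
  have o21 := orth4 (F := F) (A := 1 - T) (D := 1 + S) c4.symm (Or.inr mp')
  have o13 := orth4 (F := F) (A := 1 - T) (D := 1 - S) c1.symm (Or.inl mp)
  have o31 := orth4 (F := F) (A := 1 + T) (D := 1 + S) c4.symm (Or.inl pm)
  have o23 := orth4 (F := F) (A := 1 - T) (D := 1 - S) c2.symm (Or.inl mp)
  have o32 := orth4 (F := F) (A := 1 + T) (D := 1 - S) c4.symm (Or.inl pm)
  have k12 : (4 : F)⁻¹ • ((1 - T) * (1 - S)) = U * ((4 : F)⁻¹ • ((1 - T) * (1 + S))) * U := by
    rw [mul_smul_comm, smul_mul_assoc]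
    congr 1
    symm
    have a1 : U * T * U = T := by rw [← hUT, mul_assoc, hU', mul_one]
    have a2 : U * S * U = T * S := by rw [hUS, mul_assoc, hU', mul_one]
    calc U * ((1 - T) * (1 + S)) * U = (U * U - U * T * U) * (U * U + U * S * U) := by
          rw [conj_mul' hU', mul_sub, sub_mul, mul_add U, add_mul, mul_one]
      _ = (1 - T) * (1 + T * S) := by rw [hU', a1, a2]
      _ = 1 - T + T * S - (T * T) * S := by noncomm_ring
      _ = (1 - T) * (1 - S) := by rw [mT]; noncomm_ring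
  have k21 : (4 : F)⁻¹ • ((1 - T) * (1 + S)) = U * ((4 : F)⁻¹ • ((1 - T) * (1 - S))) * U := by
    rw [k12, ← mul_assoc, ← mul_assoc, hU', one_mul, mul_assoc, hU', mul_one]
  have k13 : (4 : F)⁻¹ • ((1 + T) * (1 - S)) = X * ((4 : F)⁻¹ • ((1 - T) * (1 + S))) * X' := by
    rw [mul_smul_comm, smul_mul_assoc]
    congr 1
    symm
    have a1 : X * T * X' = T * S := by rw [hXT, mul_assoc, hX', mul_one]
    have a2 : X * S * X' = T := by rw [hXS, mul_assoc, hX', mul_one]
    calc X * ((1 - T) * (1 + S)) * X' = (X * X' - X * T * X') * (X * X' + X * S * X') := by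
          rw [conj_mul' hX'', mul_sub, sub_mul, mul_add X, add_mul, mul_one]
      _ = (1 - T * S) * (1 + T) := by rw [hX', a1, a2]
      _ = 1 - T * S + T - T * (S * T) := by noncomm_ring
      _ = 1 - T * S + T - (T * T) * S := by rw [← mTS, mul_assoc]
      _ = (1 + T) * (1 - S) := by rw [mT]; noncomm_ring
  have k31 : (4 : F)⁻¹ • ((1 - T) * (1 + S)) = X' * ((4 : F)⁻¹ • ((1 + T) * (1 - S))) * X := by
    rw [k13, ← mul_assoc, ← mul_assoc, hX'', one_mul, mul_assoc, hX'', mul_one]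
  have q12 := rank_conj k12 k21
  have q13 := rank_conj k13 k31
  have s12 : (4 : F)⁻¹ • ((1 - T) * (1 + S)) + (4 : F)⁻¹ • ((1 - T) * (1 - S)) = (2 : F)⁻¹ • (1 - T) := by
    rw [← smul_add]
    have : (1 - T) * (1 + S) + (1 - T) * (1 - S) = (2 : F) • (1 - T) := by
      rw [show (2 : F) = 1 + 1 by norm_num, add_smul, one_smul]; noncomm_ring
    rw [this, smul_smul]
    congr 1
    field_simp; norm_num
  generalize (4 : F)⁻¹ • ((1 - T) * (1 + S)) = f1 at *
  generalize (4 : F)⁻¹ • ((1 - T) * (1 - S)) = f2 at *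
  generalize (4 : F)⁻¹ • ((1 + T) * (1 - S)) = f3 at *
  have w1 := rank_add_idem i1 i2 o12 o21
  have w2 : (f1 + f2 + f3).rank = (f1 + f2).rank + f3.rank := by
    apply rank_add_idem
    · rw [add_mul, mul_add, mul_add, i1, i2, o12, o21, add_zero, zero_add]
    · exact i3
    · rw [add_mul, o13, o23, add_zero]
    · rw [mul_add, o31, o32, add_zero]
  have w3 : (f1 + f2 + f3).rank ≤ 6 := by
    have := Matrix.rank_le_card_width (f1 + f2 + f3)
    simpa using this
  have w4 : (1 - T).trace = (2 : F) * (2 * (f1.rank : F)) := by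
    have e1 := congrArg Matrix.trace s12
    rw [Matrix.trace_add, trace_idem i1, trace_idem i2, ← q12, Matrix.trace_smul, smul_eq_mul] at e1
    field_simp at e1
    linear_combination -e1
  rw [Matrix.trace_sub, Matrix.trace_one, Fintype.card_fin] at w4
  have w5 : f1.rank = 0 ∨ f1.rank = 1 ∨ f1.rank = 2 := by omega
  rcases w5 with w5 | w5 | w5
  · exfalso
    have z1 := eq_zero_of_rank w5
    have z2 := eq_zero_of_rank (q12.symm.trans w5)
    rw [z1, z2, add_zero] at s12
    rcases smul_eq_zero.1 s12.symm with h0 | h0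
    · exact inv_ne_zero n2 h0
    · exact hT1 (sub_eq_zero.1 h0).symm
  · left
    rw [w5] at w4
    push_cast at w4
    linear_combination -w4
  · right
    rw [w5] at w4
    push_cast at w4
    linear_combination -w4

/-- the sum over a four-group is zero if all involutions have trace `-2` -/
theorem four_zero {p : ℕ} [CharP F p] (hp : 5 ≤ p) (n2 : (2 : F) ≠ 0) {T S : M6 F} (mT : T * T = 1) (mS : S * S = 1)
    (mTS : T * S = S * T) (hT : T.trace = -2) (hS : S.trace = -2) (hTS : (T * S).trace = -2) : (1 + T) * (1 + S) = 0 := by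
  have n4 : (4 : F) ≠ 0 := by rw [show (4 : F) = 2 * 2 by norm_num]; exact mul_ne_zero n2 n2
  have pp : (1 + T) * (1 + T) = (1 + T) + (1 + T) := by
    calc (1 + T) * (1 + T) = 1 + T + T + T * T := by noncomm_ring
      _ = _ := by rw [mT]; abel
  have pp' : (1 + S) * (1 + S) = (1 + S) + (1 + S) := by
    calc (1 + S) * (1 + S) = 1 + S + S + S * S := by noncomm_ring
      _ = _ := by rw [mS]; abel
  have c1 : (1 + T) * (1 + S) = (1 + S) * (1 + T) := by
    calc (1 + T) * (1 + S) = 1 + T + S + T * S := by noncomm_ring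
      _ = _ := by rw [mTS]; noncomm_ring
  have hh : ∀ z : M6 F, z + z = (2 : F) • z := fun z => by
    rw [show (2 : F) = 1 + 1 by norm_num, add_smul, one_smul]
  have iD : ((2 : F)⁻¹ • (1 + T)) * ((2 : F)⁻¹ • (1 + T)) = (2 : F)⁻¹ • (1 + T) := by
    rw [smul_mul_smul_comm, pp, hh, smul_smul]
    congr 1
    field_simp
  have tD : ((2 : F)⁻¹ • (1 + T)).trace = 2 := by
    rw [Matrix.trace_smul, Matrix.trace_add, hT, Matrix.trace_one, Fintype.card_fin, smul_eq_mul]
    push_cast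
    field_simp
    norm_num
  have i1 := idem4 n4 pp pp' c1
  have z := idem_eq_zero (p := p) i1 (by
      rw [Matrix.trace_smul, show (1 + T) * (1 + S) = 1 + T + S + T * S by noncomm_ring, Matrix.trace_add, Matrix.trace_add,
        Matrix.trace_add, hT, hS, hTS, Matrix.trace_one, Fintype.card_fin, smul_eq_mul]
      push_cast
      ring_nf) (D := (2 : F)⁻¹ • (1 + T)) (by
      rw [smul_mul_smul_comm, c1, mul_assoc, pp, hh, mul_smul_comm, smul_smul]
      congr 1
      field_simp) (rank_two hp iD tD)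
  rcases smul_eq_zero.1 z with h0 | h0
  · exact absurd h0 (inv_ne_zero n4)
  · exact h0

/-- **The involutions have trace two.** -/
theorem Hex.trace_two {p : ℕ} [CharP F p] (hp : 5 ≤ p) (h : Hex m φ)
    (hirr : ∀ W : Submodule F (Fin 6 → F), (∀ g, ∀ v ∈ W, m g *ᵥ v ∈ W) → W = ⊥ ∨ W = ⊤)
    (hcen : ∀ X : M6 F, (∀ g, m g * X = X * m g) → ∃ c : F, X = c • (1 : M6 F)) :
    ∀ g : G, g * g = 1 → φ g ≠ 1 → (m g).trace = 2 := by
  obtain ⟨t1, t2, u, r, x, a, b, d⟩ := h.exists_data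
  have n2 : (2 : F) ≠ 0 := by
    intro h0
    have := (CharP.cast_eq_zero_iff F p 2).1 (by exact_mod_cast h0)
    have := Nat.le_of_dvd (by norm_num) this
    omega
  intro g hg hφ
  rw [h.trace_invol d hg hφ]
  rcases d.trace_or hp h with ht | ht
  · exact ht
  exfalso
  obtain ⟨r1, r2, r3, r4, r5, r6, r7, r8, r9⟩ := d.rels h
  have q12 : t1 * t2 * (t1 * t2) = 1 := by
    calc t1 * t2 * (t1 * t2) = t1 * (t2 * t1) * t2 := by group
      _ = (t1 * t1) * (t2 * t2) := by rw [← r1]; group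
      _ = 1 := by rw [d.qt1, d.qt2, mul_one]
  have q1u : t1 * u * (t1 * u) = 1 := by
    calc t1 * u * (t1 * u) = t1 * (u * t1) * u := by group
      _ = (t1 * t1) * (u * u) := by rw [← r2]; group
      _ = 1 := by rw [d.qt1, d.qu, mul_one]
  have tS : (m t2).trace = -2 := by rw [h.trace_invol d d.qt2 (by rw [d.ht2]; decide), ht]
  have tU : (m u).trace = -2 := by rw [h.trace_invol d d.qu (by rw [d.hu]; decide), ht]
  have tTS : (m t1 * m t2).trace = -2 := by
    rw [← map_mul, h.trace_invol d q12 (by rw [map_mul, d.ht1, d.ht2]; decide), ht]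
  have tTU : (m t1 * m u).trace = -2 := by
    rw [← map_mul, h.trace_invol d q1u (by rw [map_mul, d.ht1, d.hu]; decide), ht]
  have mT : m t1 * m t1 = 1 := by rw [← map_mul, d.qt1, map_one]
  have mS : m t2 * m t2 = 1 := by rw [← map_mul, d.qt2, map_one]
  have mU : m u * m u = 1 := by rw [← map_mul, d.qu, map_one]
  have mTS : m t1 * m t2 = m t2 * m t1 := by rw [← map_mul, r1, map_mul]
  have mTU : m t1 * m u = m u * m t1 := by rw [← map_mul, r2, map_mul]
  have eS := four_zero hp n2 mT mS mTS ht tS tTS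
  have eU := four_zero hp n2 mT mU mTU ht tU tTU
  have hh : ∀ z : M6 F, z + z = (2 : F) • z := fun z => by
    rw [show (2 : F) = 1 + 1 by norm_num, add_smul, one_smul]
  have xx : x⁻¹ * x⁻¹ = x := by
    rw [d.inv_x]
    calc x * x * (x * x) = x * (x * x * x) := by group
      _ = x := by rw [d.qx, mul_one]
  have r9' : r * t2 * (r * t2) = t2 * r := by
    calc r * t2 * (r * t2) = r * t2 * (r * t2) * (r * t2) * (r * t2)⁻¹ := by group
      _ = t2 * r := by
        rw [r9, one_mul, _root_.mul_inv_rev, inv_eq_of_mul_eq_one_left d.qr, inv_eq_of_mul_eq_one_left d.qt2]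
  have cd : r * t2 * (t2 * r) = 1 := by
    calc r * t2 * (t2 * r) = r * (t2 * t2) * r := by group
      _ = 1 := by rw [d.qt2, mul_one, d.qr]
  have dc : t2 * r * (r * t2) = 1 := by
    calc t2 * r * (r * t2) = t2 * (r * r) * t2 := by group
      _ = 1 := by rw [d.qr, mul_one, d.qt2]
  have u2 : u * t1 * t2 = t2 * u := by
    rw [← r2, mul_assoc, r6]
    calc t1 * (t1 * t2 * u) = (t1 * t1) * t2 * u := by group
      _ = t2 * u := by rw [d.qt1, one_mul]
  have R : GRel ((2 : F)⁻¹ • (1 + m t1)) (m t1) (m t2) (m u) (m x⁻¹) (m x) (m (r * t2)) (m (t2 * r)) := by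
    have two : ∀ z : M6 F, z + z = 0 → z = 0 := fun z hz => by
      rw [hh] at hz
      rcases smul_eq_zero.1 hz with h0 | h0
      · exact absurd h0 n2
      · exact h0
    have cj : ∀ {k a b : G}, φ k * φ a * (φ k)⁻¹ = φ b → a * a = 1 → b * b = 1 → m k * m a = m b * m k := by
      intro k a b hk ha hb
      rw [← h.conj hk ha hb, ← map_mul, ← map_mul]
      congr 1
      group
    have ir := inv_eq_of_mul_eq_one_left d.qr
    have it := inv_eq_of_mul_eq_one_left d.qt2
    refine ⟨two, ?_, mT, mS, mU, mTS, mTU, ?_, ?_, ?_, ?_, ?_, ?_, ?_, ?_, ?_, ?_, ?_, ?_, ?_, ?_, ?_, ?_, ?_, ?_, ?_, ?_,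
      eS, eU⟩
    · rw [hh, smul_smul, mul_inv_cancel₀ n2, one_smul]
    · rw [← map_mul, xx]
    · rw [← map_mul, d.inv_x]
    · rw [← map_mul, inv_mul_cancel, map_one]
    · rw [← map_mul, mul_inv_cancel, map_one]
    · rw [← map_mul, r9']
    · rw [← map_mul]
      congr 1
      have := congrArg (fun z => z⁻¹) r9'
      simp only [_root_.mul_inv_rev, ir, it] at this
      exact this
    · rw [← map_mul, cd, map_one]
    · rw [← map_mul, dc, map_one]
    · exact cj (by rw [map_inv, d.hx, d.ht1, d.ht2]; decide) d.qt1 d.qt2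
    · rw [← map_mul m t1]
      exact cj (by rw [map_inv, map_mul, d.hx, d.ht1, d.ht2]; decide) d.qt2 q12
    · rw [← map_mul m t1]
      exact cj (by rw [map_mul, d.hx, d.ht1, d.ht2]; decide) d.qt1 q12
    · exact cj (by rw [d.hx, d.ht1, d.ht2]; decide) d.qt2 d.qt1
    · rw [← map_mul, ← map_mul, ← d.ux]
      congr 1
      calc u * (u * x * u) = (u * u) * x * u := by group
        _ = x * u := by rw [d.qu, one_mul]
    · rw [← map_mul, ← map_mul, ← d.ux]
      congr 1
      calc u * x = u * x * (u * u) := by rw [d.qu, mul_one]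
        _ = u * x * u * u := by group
    · exact cj (by rw [map_mul, d.hr, d.hu, d.ht1, d.ht2]; decide) d.qt1 d.qu
    · rw [← map_mul m t1]
      exact cj (by rw [map_mul, map_mul, d.hr, d.hu, d.ht1, d.ht2]; decide) d.qu q1u
    · rw [← map_mul m t1]
      exact cj (by rw [map_mul, map_mul, d.hr, d.hu, d.ht1, d.ht2]; decide) d.qt1 q1u
    · exact cj (by rw [map_mul, d.hr, d.hu, d.ht1, d.ht2]; decide) d.qu d.qt1
    · rw [← map_mul, ← map_mul, mul_assoc]
    · rw [← map_mul, ← map_mul]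
      congr 1
      calc t2 * (t2 * r) = (t2 * t2) * r := by group
        _ = r * (t2 * t2) := by rw [d.qt2, one_mul, mul_one]
        _ = r * t2 * t2 := by group
  generalize he : (2 : F)⁻¹ • (1 + m t1) = e at *
  obtain ⟨Γ, k0, kB, kT, kS, kU, kC⟩ := R.Gam
  obtain ⟨g1, g2⟩ := R.gam
  obtain ⟨h1, h2, h3, h4, h5, h6, h7⟩ := R.base
  have kR : Γ * m r = m r * Γ := by
    have e : m r = m (r * t2) * m t2 := by
      rw [← map_mul]; congr 1
      calc r = r * (t2 * t2) := by rw [d.qt2, mul_one]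
        _ = r * t2 * t2 := by group
    rw [e, ← mul_assoc, kC, mul_assoc, kS, mul_assoc]
  obtain ⟨c, hc⟩ := hcen Γ (d.induct h (Q := fun g => m g * Γ = Γ * m g) (fun k hk => by
      obtain ⟨z, -, hz⟩ := h.ker k hk
      rw [hz, smul_mul_assoc, mul_smul_comm, one_mul, mul_one]) (fun g g' hg hg' => by
      rw [map_mul, mul_assoc, hg', ← mul_assoc, hg, mul_assoc]) kT.symm kS.symm kU.symm kR.symm kB.symm)
  rw [← k0, hc, smul_mul_assoc, one_mul, mul_smul_comm] at g1 g2
  -- a vector fixed by `t1`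
  have e0 : e ≠ 0 := by
    intro h0
    rw [h0] at he
    have := congrArg Matrix.trace he
    rw [Matrix.trace_smul, Matrix.trace_add, ht, Matrix.trace_one, Fintype.card_fin, smul_eq_mul, Matrix.trace_zero] at this
    push_cast at this
    rcases mul_eq_zero.1 this with h0 | h0
    · exact inv_ne_zero n2 h0
    · have h4 : (2 : F) * 2 = 0 := by linear_combination h0
      exact mul_ne_zero n2 n2 h4
  obtain ⟨j, hj⟩ : ∃ j, e *ᵥ (Pi.single j 1) ≠ 0 := by
    by_contra hcon
    push Not at hcon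
    apply e0
    ext i k
    have := congrFun (hcon k) i
    rwa [Matrix.mulVec_single_one] at this
  set y : Fin 6 → F := Pi.single j 1 with hy
  have app : ∀ {M N : M6 F} (v : Fin 6 → F), M = N → M *ᵥ v = N *ᵥ v := fun v h => by rw [h]
  have T0 : m t1 *ᵥ (e *ᵥ y) = e *ᵥ y := by rw [Matrix.mulVec_mulVec, h1]
  have S0 : m t2 *ᵥ (e *ᵥ y) = -(e *ᵥ y) := by rw [Matrix.mulVec_mulVec, h5, Matrix.neg_mulVec]
  have U0 : m u *ᵥ (e *ᵥ y) = -(e *ᵥ y) := by rw [Matrix.mulVec_mulVec, h7, Matrix.neg_mulVec]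
  have C0 : m (r * t2) *ᵥ (e *ᵥ y) = c • (m x⁻¹ *ᵥ (e *ᵥ y) - m x *ᵥ (e *ᵥ y)) := by
    rw [Matrix.mulVec_mulVec, g1, Matrix.smul_mulVec, ← Matrix.mulVec_mulVec, Matrix.sub_mulVec]
  have D0 : m (t2 * r) *ᵥ (e *ᵥ y) = -(c • (m x⁻¹ *ᵥ (e *ᵥ y) + m x *ᵥ (e *ᵥ y))) := by
    rw [Matrix.mulVec_mulVec, g2, Matrix.neg_mulVec, Matrix.smul_mulVec, ← Matrix.mulVec_mulVec, Matrix.add_mulVec]
  generalize e *ᵥ y = v at *
  have SA : m t2 *ᵥ (m x⁻¹ *ᵥ v) = m x⁻¹ *ᵥ v := by
    rw [Matrix.mulVec_mulVec, ← R.AT, ← Matrix.mulVec_mulVec, T0]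
  have TA : m t1 *ᵥ (m x⁻¹ *ᵥ v) = -(m x⁻¹ *ᵥ v) := by
    nth_rewrite 1 [← SA]
    rw [Matrix.mulVec_mulVec, Matrix.mulVec_mulVec, ← R.AS, ← Matrix.mulVec_mulVec, S0, Matrix.mulVec_neg]
  have TB : m t1 *ᵥ (m x *ᵥ v) = -(m x *ᵥ v) := by
    rw [Matrix.mulVec_mulVec, ← R.BS, ← Matrix.mulVec_mulVec, S0, Matrix.mulVec_neg]
  have SB : m t2 *ᵥ (m x *ᵥ v) = -(m x *ᵥ v) := by
    have e1 : m t1 *ᵥ (m t1 *ᵥ (m t2 *ᵥ (m x *ᵥ v))) = m t2 *ᵥ (m x *ᵥ v) := by
      rw [Matrix.mulVec_mulVec, mT, Matrix.one_mulVec]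
    have e2 : m t1 *ᵥ (m t2 *ᵥ (m x *ᵥ v)) = m x *ᵥ v := by
      rw [Matrix.mulVec_mulVec, Matrix.mulVec_mulVec, ← R.BT, ← Matrix.mulVec_mulVec, T0]
    rw [← e1, e2, TB]
  have UA : m u *ᵥ (m x⁻¹ *ᵥ v) = -(m x *ᵥ v) := by
    rw [Matrix.mulVec_mulVec, R.UA, ← Matrix.mulVec_mulVec, U0, Matrix.mulVec_neg]
  have UB : m u *ᵥ (m x *ᵥ v) = -(m x⁻¹ *ᵥ v) := by
    rw [Matrix.mulVec_mulVec, R.UB, ← Matrix.mulVec_mulVec, U0, Matrix.mulVec_neg]
  have BA : m x *ᵥ (m x⁻¹ *ᵥ v) = v := by rw [Matrix.mulVec_mulVec, R.BA, Matrix.one_mulVec]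
  have BB : m x *ᵥ (m x *ᵥ v) = m x⁻¹ *ᵥ v := by rw [Matrix.mulVec_mulVec, R.BB]
  have CC : m (r * t2) *ᵥ (m (r * t2) *ᵥ v) = m (t2 * r) *ᵥ v := by rw [Matrix.mulVec_mulVec, R.CC]
  have CD : m (r * t2) *ᵥ (m (t2 * r) *ᵥ v) = v := by rw [Matrix.mulVec_mulVec, R.CD, Matrix.one_mulVec]
  have c0 : c ≠ 0 := by
    rintro rfl
    rw [D0, zero_smul, neg_zero, Matrix.mulVec_zero] at CD
    exact hj CD.symm
  rw [C0, D0, Matrix.mulVec_smul, Matrix.mulVec_sub, ← smul_neg] at CC
  have CC' := smul_right_injective _ c0 CC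
  rw [D0, Matrix.mulVec_neg, Matrix.mulVec_smul, Matrix.mulVec_add] at CD
  have CD' : m (r * t2) *ᵥ (m x⁻¹ *ᵥ v) + m (r * t2) *ᵥ (m x *ᵥ v) = -(c⁻¹ • v) := by
    have := congrArg (c⁻¹ • ·) CD
    rw [smul_neg, smul_smul, inv_mul_cancel₀ c0, one_smul] at this
    rw [← this, neg_neg]
  have CA0 : m (r * t2) *ᵥ (m x⁻¹ *ᵥ v) = (2 : F)⁻¹ • (-(m x⁻¹ *ᵥ v + m x *ᵥ v) + -(c⁻¹ • v)) := by
    have CC'' : m (r * t2) *ᵥ (m x⁻¹ *ᵥ v) - m (r * t2) *ᵥ (m x *ᵥ v) = -(m x⁻¹ *ᵥ v + m x *ᵥ v) := CC'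
    rw [← CC'', ← CD', sub_add_add_cancel, ← two_smul F, smul_smul, inv_mul_cancel₀ n2, one_smul]
  have CB0 : m (r * t2) *ᵥ (m x *ᵥ v) = (2 : F)⁻¹ • (-(c⁻¹ • v) - -(m x⁻¹ *ᵥ v + m x *ᵥ v)) := by
    have CC'' : m (r * t2) *ᵥ (m x⁻¹ *ᵥ v) - m (r * t2) *ᵥ (m x *ᵥ v) = -(m x⁻¹ *ᵥ v + m x *ᵥ v) := CC'
    rw [← CC'', ← CD', add_sub_sub_cancel, ← two_smul F, smul_smul, inv_mul_cancel₀ n2, one_smul]
  set W : Submodule F (Fin 6 → F) := Submodule.span F (Set.range ![v, m x⁻¹ *ᵥ v, m x *ᵥ v]) with hW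
  have w0 : v ∈ W := Submodule.subset_span ⟨0, rfl⟩
  have w1 : m x⁻¹ *ᵥ v ∈ W := Submodule.subset_span ⟨1, rfl⟩
  have w2 : m x *ᵥ v ∈ W := Submodule.subset_span ⟨2, rfl⟩
  have pres : ∀ M : M6 F, M *ᵥ v ∈ W → M *ᵥ (m x⁻¹ *ᵥ v) ∈ W → M *ᵥ (m x *ᵥ v) ∈ W → ∀ z ∈ W, M *ᵥ z ∈ W := by
    intro M m0 m1 m2 z hz
    rw [hW] at hz
    induction hz using Submodule.span_induction with
    | mem z hz =>
      obtain ⟨i, rfl⟩ := hz
      fin_cases i
      · exact m0
      · exact m1
      · exact m2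
    | zero => rw [Matrix.mulVec_zero]; exact W.zero_mem
    | add a b _ _ ha hb => rw [Matrix.mulVec_add]; exact W.add_mem ha hb
    | smul k a _ ha => rw [Matrix.mulVec_smul]; exact W.smul_mem k ha
  have pT := pres (m t1) (by rw [T0]; exact w0) (by rw [TA]; exact W.neg_mem w1) (by rw [TB]; exact W.neg_mem w2)
  have pS := pres (m t2) (by rw [S0]; exact W.neg_mem w0) (by rw [SA]; exact w1) (by rw [SB]; exact W.neg_mem w2)
  have pU := pres (m u) (by rw [U0]; exact W.neg_mem w0) (by rw [UA]; exact W.neg_mem w2)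
    (by rw [UB]; exact W.neg_mem w1)
  have pX := pres (m x) w2 (by rw [BA]; exact w0) (by rw [BB]; exact w1)
  have pC := pres (m (r * t2)) (by rw [C0]; exact W.smul_mem _ (W.sub_mem w1 w2))
    (by rw [CA0]; exact W.smul_mem _ (W.add_mem (W.neg_mem (W.add_mem w1 w2)) (W.neg_mem (W.smul_mem _ w0))))
    (by rw [CB0]; exact W.smul_mem _ (W.sub_mem (W.neg_mem (W.smul_mem _ w0)) (W.neg_mem (W.add_mem w1 w2))))
  have pR : ∀ z ∈ W, m r *ᵥ z ∈ W := by
    intro z hz
    have e : m r = m (r * t2) * m t2 := by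
      rw [← map_mul]; congr 1
      calc r = r * (t2 * t2) := by rw [d.qt2, mul_one]
        _ = r * t2 * t2 := by group
    rw [e, ← Matrix.mulVec_mulVec]
    exact pC _ (pS _ hz)
  have key := d.induct h (Q := fun g => ∀ z ∈ W, m g *ᵥ z ∈ W) (fun k hk z hz => by
    obtain ⟨c', -, hc'⟩ := h.ker k hk
    rw [hc', Matrix.smul_mulVec, Matrix.one_mulVec]
    exact W.smul_mem _ hz) (fun g g' hg hg' z hz => by
    rw [map_mul, ← Matrix.mulVec_mulVec]; exact hg _ (hg' _ hz)) pT pS pU pR pX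
  rcases hirr W key with h0 | h0
  · rw [h0, Submodule.mem_bot] at w0
    exact hj w0
  · have e1 : Module.finrank F W ≤ 3 := by
      rw [hW]
      have := finrank_range_le_card (R := F) ![v, m x⁻¹ *ᵥ v, m x *ᵥ v]
      rw [Fintype.card_fin] at this
      exact this
    rw [h0, finrank_top, Module.finrank_fintype_fun_eq_card, Fintype.card_fin] at e1
    omega

end main

end Cfsg.Agent.H910.Six
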